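import Cfsg.Agent.Lib.Signalizer.PureMembers

/-!
# No minimal counterexample has values with at most two primes

Owner: helper33. Namespace `Cfsg.Agent.Lib.Signalizer`.
* `AtMostTwo`: the values have at most two primes;
* `Ctx.eq_ctl_of_mixed`: a mixed maximal member controls each nontrivial subgroup of its cores;
* `Ctx.false_of_two`: the contradiction when the values have at most two primes.
-/

set_option autoImplicit false
set_option linter.style.haveILetI false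
set_option linter.unusedSectionVars false

open Cfsg
open scoped commutatorElement

namespace Cfsg.Agent.Lib.Signalizer

variable {G : Type*} [Group G] [Finite G] {p : ℕ} [hp : Fact p.Prime] {A : Subgroup G}
  {θ : G → Subgroup G}

/-- The values have at most two primes. -/
def AtMostTwo (A : Subgroup G) (θ : G → Subgroup G) : Prop :=
  ∀ a b c : ℕ, Pr A θ a → Pr A θ b → Pr A θ c → a = b ∨ b = c ∨ a = c

omit [Finite G] in
theorem mem_centralizer_of_mem_signalizerInf (hθ : IsSignalizerFunctor p A θ) {B : Subgroup G}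
    (hB : B ≤ A) : signalizerInf B θ ≤ Subgroup.centralizer (B : Set G) := by
  intro x hx
  refine Subgroup.mem_centralizer_iff.2 fun b hb => ?_
  rcases eq_or_ne b 1 with rfl | hb1
  · simp
  · exact (commute_theta hθ (hB hb) hb1 (mem_signalizerInf_iff.1 hx b hb hb1)).symm

omit [Finite G] hp in
theorem pstar_anti {q : ℕ} {B B' : Subgroup G} (hle : B ≤ B') :
    pstar q θ B' ≤ pstar q θ B := fun _ hx =>
  mem_pstar.2 ⟨signalizerInf_anti hle (mem_pstar.1 hx).1,
    fun b hb hb1 => (mem_pstar.1 hx).2 b (hle hb) hb1⟩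

namespace Ctx

variable (h : Ctx p A θ) (h2 : AtMostTwo A θ)
include h

theorem pure_of_not_mixed {y : ℕ} [Fact y.Prime] {H : Subgroup G} (hH : ¬ Mixed H)
    (hy : qc y H ≠ ⊥) : h.Pure y H := fun t ht hty => by
  by_contra hne
  exact hH ⟨y, t, Fact.out, ht, hty.symm, hy, hne⟩

include h2

theorem qc_ne_bot_of_mixed {H : Subgroup G} (hH : H ∈ signalizerFamily p A θ) (hm : Mixed H) {t : ℕ}
    (ht : Pr A θ t) : qc t H ≠ ⊥ := by
  obtain ⟨s, u, hs, hu, hsu, hs1, hu1⟩ := hm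
  haveI := Fact.mk hs
  haveI := Fact.mk hu
  rcases h2 s u t (h.pr_of_qc hH hs1) (h.pr_of_qc hH hu1) ht with e | e | e
  · exact absurd e hsu
  · exact e ▸ hu1
  · exact e ▸ hs1

/-- A maximal member containing the centres of the cores of a mixed one is equal to it. -/
theorem eq_of_zc_le {H K : Subgroup G} (hH : IsMaxMem p A θ H) (hm : Mixed H)
    (hK : IsMaxMem p A θ K) (hz : ∀ t : ℕ, t.Prime → zc t H ≤ K) : K = H := by
  have hcores : ∀ t : ℕ, t.Prime → qc t K ≤ H := by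
    intro t ht
    haveI := Fact.mk ht
    by_cases hne : qc t K = ⊥
    · rw [hne]; exact bot_le
    obtain ⟨w, hw, hwt, hwH⟩ := hm.other t
    haveI := Fact.mk hw
    exact h.qc_le_of_zc hH hK.1 hwt hwH (h.qc_ne_bot_of_mixed h2 hH.1 hm (h.pr_of_qc hK.1 hne))
      (hz w hw) (hz t ht)
  have hKne : ∀ t : ℕ, Pr A θ t → qc t K ≠ ⊥ := by
    intro t ht hbot
    haveI := Fact.mk ht.1
    have hne := h.qc_ne_bot_of_mixed h2 hH.1 hm ht
    refine h.center_ne_bot (qc_isPGroup H) hne (le_bot_iff.1 ?_)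
    rw [← hbot]
    refine le_qc_of_centralizes hK.1.1 (hz t ht.1) ((qc_isPGroup H).to_le inf_le_left) fun u hu => ?_
    haveI := Fact.mk hu
    rcases eq_or_ne u t with rfl | hut
    · rw [hbot]
      exact fun z _ => Subgroup.mem_centralizer_iff.2 fun w hw => by simp [Subgroup.mem_bot.1 hw]
    · exact commute_of_normalizers hut.symm (qc_isPGroup H) (qc_isPGroup K) inf_le_left le_rfl
        ((hz t ht.1).trans (le_normalizer_qc K)) ((hcores u hu).trans (le_normalizer_qc H))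
  obtain ⟨s, u, hs, hu, hsu, hs1, hu1⟩ := id hm
  haveI := Fact.mk hs
  haveI := Fact.mk hu
  have hKm : Mixed K := ⟨s, u, hs, hu, hsu, hKne s (h.pr_of_qc hH.1 hs1), hKne u (h.pr_of_qc hH.1 hu1)⟩
  refine (h.eq_of_mixed hH hK hm hKm (fun t ht => ?_) hcores).symm
  haveI := Fact.mk ht
  by_cases hne : qc t H = ⊥
  · rw [hne]; exact bot_le
  obtain ⟨w, hw, hwt, hwK⟩ := hKm.other t
  haveI := Fact.mk hw
  exact h.qc_le_of_zc hK hH.1 hwt hwK (hKne t (h.pr_of_qc hH.1 hne))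
    (inf_le_left.trans (hcores w hw)) (inf_le_left.trans (hcores t ht))

/-- A mixed maximal member controls every nontrivial subgroup of its cores. -/
theorem eq_ctl_of_mixed {H K X : Subgroup G} (hH : IsMaxMem p A θ H) (hm : Mixed H) {r : ℕ}
    [Fact r.Prime] (hX : X ≤ qc r H) (hK : IsMaxMem p A θ K) (hc : Ctl p A θ X K) : K = H := by
  refine h.eq_of_zc_le h2 hH hm hK fun t ht => ?_
  haveI := Fact.mk ht
  refine h.centralizing_le hc (h.zc_mem hH.1 t) ?_
  rcases eq_or_ne t r with rfl | htr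
  · exact inf_le_right.trans (Subgroup.centralizer_le hX)
  · exact (inf_le_left.trans (h.qc_commute htr (qc_le H) (qc_le H))).trans
      (Subgroup.centralizer_le hX)

/-- No odd prime has `U* ≠ 1`. -/
theorem ustar_odd_eq_bot {r : ℕ} [hr : Fact r.Prime] (hr2 : r ≠ 2) : ustar p A θ r = ⊥ := by
  haveI := h.elem.1
  by_contra hS
  set S := ustar p A θ r with hSdef
  obtain ⟨P₁, P₂, hP₁, hP₂, hcP₁, -, -⟩ := h.exists_two_planes
  obtain ⟨l, hl, hlc, hX1⟩ : ∃ l, Hyp p A l ∧ Nat.card ↥l = p ^ 2 ∧ pstar r θ l ≠ ⊥ := by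
    by_contra hno
    push Not at hno
    refine hS (le_bot_iff.1 (iSup₂_le fun B hB => ?_))
    rcases h.eq_or_card_of_hyp hB with rfl | hBc
    · exact (pstar_anti hP₁).trans (hno P₁ (h.hyp_of_card hP₁ hcP₁) hcP₁).le
    · exact (hno B hB hBc).le
  set X0 := pstar r θ l with hX0
  have hX0m : X0 ∈ signalizerFamily p A θ := h.pstar_mem hl
  have hX0u : X0 ≤ S := pstar_le_ustar hl
  obtain ⟨M, hM, hctl, hXM⟩ := h.exists_ctl hX0m hX1
  have hX0M : X0 ≤ qc r M := fun x hx => h.pstar_mem_qc hl hM.1 hx (hXM hx)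
  have hcolour : ∀ v ∈ l, v ≠ 1 → ∀ H, IsMaxMem p A θ H → θ v ≤ H →
      X0 ≤ qc r H ∧ qc r H ≠ ⊥ := by
    intro v hv hv1 H hH hvH
    have hle : X0 ≤ qc r H := fun x hx => h.pstar_mem_qc hl hH.1 hx
      (hvH ((pstar_le_qc hv hv1).trans (qc_le _) hx))
    exact ⟨hle, ne_bot_of_le_ne_bot hX1 hle⟩
  have hmix : ∀ v ∈ l, v ≠ 1 → ∀ H, IsMaxMem p A θ H → θ v ≤ H → Mixed H → M = H :=
    fun v hv hv1 H hH hvH hm => h.eq_ctl_of_mixed h2 hH hm (hcolour v hv hv1 H hH hvH).1 hM hctl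
  have hmoved : ∀ v ∈ l, v ≠ 1 → ∀ H, IsMaxMem p A θ H → θ v ≤ H → ¬ Mixed H →
      mv r H v ≠ ⊥ := by
    intro v hv hv1 H hH hvH hm
    obtain ⟨t, ht, hne⟩ := h.exists_moved (hl.1 hv) hv1 hH hvH
    by_cases htr : t = r
    · exact htr ▸ hne
    · refine absurd ?_ hne
      rw [mv, h.pure_of_not_mixed hm (hcolour v hv hv1 H hH hvH).2 t ht htr,
        Subgroup.commutator_bot_left]
  by_cases hMm : Mixed M
  · -- `M` is mixed
    obtain ⟨w, hw, hwr, hwM⟩ := hMm.other r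
    haveI := Fact.mk hw
    refine h.false_of_points hl hM.1 fun v hv hv1 => ?_
    obtain ⟨H, hH, hvH⟩ := exists_isMaxMem (h.theta_mem (hl.1 hv) hv1)
    by_cases hm : Mixed H
    · exact hmix v hv hv1 H hH hvH hm ▸ hvH
    obtain ⟨H', hH', hc', -, hvH'⟩ :=
      h.exists_ctl_mv (hl.1 hv) hv1 hH.1 hvH (hmoved v hv hv1 H hH hvH hm)
    by_cases hm' : Mixed H'
    · exact hmix v hv hv1 H' hH' hvH' hm' ▸ hvH'
    exact (h.mixed_pure_false hM hH' hctl hc' hXM hX1 hX0u
      (h.mv_le_ustar hH.1 (hl.1 hv) hv1 hr2 hvH)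
      (h.pure_of_not_mixed hm' (hcolour v hv hv1 H' hH' hvH').2)
      ((signalizerInf_le (hl.1 hv) hv1).trans hvH') hwr hwM).elim
  -- `M` is pure
  have hlpure : ∀ v ∈ l, v ≠ 1 → ∀ H, IsMaxMem p A θ H → θ v ≤ H → h.Pure r H :=
    fun v hv hv1 H hH hvH => h.pure_of_not_mixed
      (fun hm => hMm (hmix v hv hv1 H hH hvH hm ▸ hm)) (hcolour v hv hv1 H hH hvH).2
  have hPP : HasPurePoints p A θ r := by
    intro B hB
    obtain ⟨v, hv, hvB, hv1⟩ := exists_ne_one_inf h.rank hl hB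
    obtain ⟨H, hH, hvH⟩ := exists_isMaxMem (h.theta_mem (hl.1 hv) hv1)
    exact ⟨v, hvB, hv1, H, hH, hvH, hlpure v hv hv1 H hH hvH⟩
  have hgood : ∀ B, Hyp p A B → pstar r θ B ≠ ⊥ → ∀ v ∈ B, v ≠ 1 → ∀ H, IsMaxMem p A θ H →
      θ v ≤ H → S ≤ qc r H := by
    intro B hB hBne v hv hv1 H hH hvH
    refine (h.pure_and_good hPP hH ((signalizerInf_le (hB.1 hv) hv1).trans hvH)
      (ne_bot_of_le_ne_bot hBne fun x hx => ?_)).2
    exact h.pstar_mem_qc hB hH.1 hx (hvH ((pstar_le_qc hv hv1).trans (qc_le _) hx))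
  have hex : ∀ B, Hyp p A B → pstar r θ B ≠ ⊥ → ∀ v ∈ B, v ≠ 1 →
      ∃ H ∈ signalizerFamily p A θ, θ v ≤ H ∧ S ≤ qc r H := fun B hB hBne v hv hv1 =>
    let ⟨H, hH, hvH⟩ := exists_isMaxMem (h.theta_mem (hB.1 hv) hv1)
    ⟨H, hH.1, hvH, hgood B hB hBne v hv hv1 H hH hvH⟩
  have htame : ∀ b ∈ A, b ≠ 1 → S ⊓ θ b ≤ qc r (θ b) := fun b hb hb1 =>
    h.inf_le_qc_of_colours hl.1 (hyp_not_cyclic h.elem h.rank hl) (h.ustar_mem' (q := r)).2
      (hex l hl hX1) (h.theta_mem hb hb1)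
  by_cases htwo : ∃ B, Hyp p A B ∧ Nat.card ↥B = p ^ 2 ∧ B ≠ l ∧ pstar r θ B ≠ ⊥
  · obtain ⟨B, hB, hBc, hne, hBS⟩ := htwo
    exact h.false_of_two_planes hr2 hS hB.1 hl.1 hBc hlc hne (hex B hB hBS) (hex l hl hX1) htame
  have hSl : S ≤ Subgroup.centralizer (l : Set G) := by
    refine iSup₂_le fun B hB => ?_
    rcases h.eq_or_card_of_hyp hB with rfl | hBc
    · exact ((pstar_anti hl.1).trans inf_le_left).trans
        (mem_centralizer_of_mem_signalizerInf h.functor.1 hl.1)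
    · by_cases hBl : B = l
      · subst hBl
        exact inf_le_left.trans (mem_centralizer_of_mem_signalizerInf h.functor.1 hl.1)
      · by_contra hne
        exact htwo ⟨B, hB, hBc, hBl, fun e => hne (e ▸ bot_le)⟩
  obtain ⟨v, hv, hv1⟩ := exists_ne_one_of_hyp h.rank hl
  obtain ⟨H, hH, hvH⟩ := exists_isMaxMem (h.theta_mem (hl.1 hv) hv1)
  have hm : ¬ Mixed H := fun hm => hMm (hmix v hv hv1 H hH hvH hm ▸ hm)
  refine hmoved v hv hv1 H hH hvH hm ?_
  rw [← h.mv_mv hH.1 (hl.1 hv), Subgroup.commutator_eq_bot_iff_le_centralizer]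
  exact (h.mv_le_ustar hH.1 (hl.1 hv) hv1 hr2 hvH).trans
    (hSl.trans (Subgroup.centralizer_le (Subgroup.zpowers_le.2 hv)))

/-- **No minimal counterexample with at most two primes.** -/
theorem false_of_two : False := by
  haveI : Fact (Nat.Prime 2) := ⟨Nat.prime_two⟩
  haveI := h.elem.1
  have hnr : ∀ a ∈ A, a ≠ 1 → ¬ Reg p A θ a := by
    intro a ha ha1 hr
    obtain ⟨q, X, H, hq, hq2, -, -, -, hX1, hXu, -, -⟩ := h.exists_colour_of_reg ha ha1 hr
    haveI := Fact.mk hq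
    exact hX1 (le_bot_iff.1 (h.ustar_odd_eq_bot h2 hq2 ▸ hXu))
  have hT : ∀ {v H}, v ∈ A → v ≠ 1 → IsMaxMem p A θ H → θ v ≤ H → qc 2 H ≠ ⊥ :=
    fun hv hv1 hH hvH => h.qc_two_ne_bot hv hv1 (hnr _ hv hv1) hH hvH
  -- chosen colours
  have hch : ∀ v : {v : G // v ∈ A ∧ v ≠ 1}, ∃ H, IsMaxMem p A θ H ∧ θ v ≤ H ∧
      ((∃ X, X ≠ ⊥ ∧ X ≤ ustar p A θ 2 ∧ X ≤ H ∧ Ctl p A θ X H) ∨
        qc 2 H ⊓ Subgroup.centralizer (A : Set G) ≠ ⊥) := by
    rintro ⟨v, hv, hv1⟩
    by_cases hU : ∃ X ∈ signalizerFamily p A θ, X ≠ ⊥ ∧ X ≤ ustar p A θ 2 ∧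
        θ v ≤ Subgroup.normalizer (X : Set G)
    · obtain ⟨X, hX, hX1, hXu, hXn⟩ := hU
      obtain ⟨H, hH, hc, hXH⟩ := h.exists_ctl hX hX1
      exact ⟨H, hH, hc _ (h.theta_mem hv hv1) hXn, Or.inl ⟨X, hX1, hXu, hXH, hc⟩⟩
    obtain ⟨H, hH, hvH⟩ := exists_isMaxMem (h.theta_mem hv hv1)
    refine ⟨H, hH, hvH, Or.inr ?_⟩
    have hTm := h.qc_mem hH.1 2
    have h2p : 2 ≠ p := h.ne_p_of_qc hH.1 (hT hv hv1 hH hvH)
    have hzv := h.zpowers_le hv
    obtain ⟨Y, ⟨hY, hYT, hYn, hYv⟩, hmin⟩ := Set.exists_min_image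
      {Y : Subgroup G | Y ∈ signalizerFamily p A θ ∧ Y ≤ qc 2 H ∧
        θ v ≤ Subgroup.normalizer (Y : Set G) ∧ ⁅Y, Subgroup.zpowers v⁆ ≠ ⊥}
      (fun Y => Nat.card ↥Y) (Set.toFinite _)
      ⟨qc 2 H, hTm, le_rfl, hvH.trans (le_normalizer_qc H),
        h.mv_two_of_not_reg hv hv1 (hnr v hv hv1) hH hvH⟩
    have hYle : ⁅Y, Subgroup.zpowers v⁆ ≤ Y :=
      Coprime.commutator_le_of_le_normalizer (hzv.trans (le_normalizer_of_mem hY))
    -- some piece is not abelian
    obtain ⟨B, hB, hnab⟩ : ∃ B, Hyp p A B ∧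
        ¬ IsMulCommutative ↥(⁅Y ⊓ Subgroup.centralizer (B : Set G), Subgroup.zpowers v⁆) := by
      by_contra hall
      push Not at hall
      refine hU ⟨⁅Y, Subgroup.zpowers v⁆, h.mem_of_le hY hYle
        (Balance.le_normalizer_commutator (le_normalizer_of_mem hY) (h.le_normalizer_zpowers hv)),
        hYv, h.commutator_le_ustar hY ((qc_isPGroup H).to_le hYT) h2p hv hv1 hYn (Or.inr hall), ?_⟩
      intro x hx
      rw [Subgroup.mem_normalizer_iff_map_conj_eq, Subgroup.map_commutator,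
        Subgroup.mem_normalizer_iff_map_conj_eq.1 (hYn hx), MonoidHom.map_zpowers]
      congr 2
      show x * v * x⁻¹ = v
      rw [commute_theta h.functor.1 hv hv1 hx, mul_inv_cancel_right]
    have hvB : v ∉ B := fun hvB => hnab (by
      rw [Subgroup.commutator_eq_bot_iff_le_centralizer.2
        (inf_le_right.trans (Subgroup.centralizer_le (Subgroup.zpowers_le.2 hvB)))]
      infer_instance)
    -- the derived subgroup is centralised by `v`
    set Y' := ⁅Y, Y⁆ with hY'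
    have hY'Y : Y' ≤ Y := Subgroup.commutator_le_self Y
    have hY'v : ⁅Y', Subgroup.zpowers v⁆ = ⊥ := by
      by_contra hne
      have hYne : Y ≠ ⊥ := fun e => hYv (by rw [e, Subgroup.commutator_bot_left])
      haveI : Nontrivial ↥Y := (Subgroup.nontrivial_iff_ne_bot Y).2 hYne
      haveI := hY.1
      have hlt : Y' < Y := by
        refine lt_of_le_of_ne hY'Y fun e => (Group.IsSolvable.commutator_lt_top_of_nontrivial ↥Y).ne ?_
        apply Subgroup.map_injective Y.subtype_injective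
        rw [← MonoidHom.range_eq_map, Subgroup.range_subtype, commutator_def, Subgroup.map_commutator,
          ← MonoidHom.range_eq_map, Subgroup.range_subtype]
        exact e
      refine absurd (hmin Y' ⟨h.mem_of_le hY hY'Y
        (Balance.le_normalizer_commutator (le_normalizer_of_mem hY) (le_normalizer_of_mem hY)),
        hY'Y.trans hYT, Balance.le_normalizer_commutator hYn hYn, hne⟩) (not_le_of_gt ?_)
      exact lt_of_not_ge fun hge => hlt.ne (Subgroup.eq_of_le_of_card_ge hlt.le hge)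
    set P := ⁅Y ⊓ Subgroup.centralizer (B : Set G), Subgroup.zpowers v⁆ with hP
    have hPle : P ≤ Y ⊓ Subgroup.centralizer (B : Set G) :=
      Coprime.commutator_le_of_le_normalizer
        (hzv.trans (le_normalizer_of_mem (h.inf_centralizer_mem hY hB.1)))
    obtain ⟨u, hu, w, hw, huw⟩ : ∃ u ∈ P, ∃ w ∈ P, u * w ≠ w * u := by
      by_contra hc
      push Not at hc
      exact hnab ⟨⟨fun u w => Subtype.ext (hc u u.2 w w.2)⟩⟩
    intro hbot
    refine huw (commutatorElement_eq_one_iff_mul_comm.1 (Subgroup.mem_bot.1 ?_))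
    rw [← hbot]
    have hm : ⁅u, w⁆ ∈ Y' := Subgroup.commutator_mem_commutator (hPle hu).1 (hPle hw).1
    refine ⟨(hY'Y.trans hYT) hm, ?_⟩
    have hB' : ⁅u, w⁆ ∈ Subgroup.centralizer (B : Set G) := by
      rw [commutatorElement_def]
      exact mul_mem (mul_mem (mul_mem (hPle hu).2 (hPle hw).2) (inv_mem (hPle hu).2))
        (inv_mem (hPle hw).2)
    have hle : A ≤ Subgroup.centralizer {⁅u, w⁆} := by
      rw [← hyp_sup_zpowers h.elem hB hv hvB]
      exact sup_le (fun b hb => Subgroup.mem_centralizer_singleton_iff.2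
          (Subgroup.mem_centralizer_iff.1 hB' b hb))
        (fun b hb => Subgroup.mem_centralizer_singleton_iff.2 (Subgroup.mem_centralizer_iff.1
          (Subgroup.commutator_eq_bot_iff_le_centralizer.1 hY'v hm) b hb))
    exact Subgroup.mem_centralizer_iff.2 fun a ha =>
      Subgroup.mem_centralizer_singleton_iff.1 (hle ha)
  -- an exceptional mixed colour equals every mixed colour
  have hexc : ∀ H H' : Subgroup G, IsMaxMem p A θ H → Mixed H → signalizerInf A θ ≤ H →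
      qc 2 H ⊓ Subgroup.centralizer (A : Set G) ≠ ⊥ → IsMaxMem p A θ H' → Mixed H' →
      signalizerInf A θ ≤ H' → H = H' := by
    intro H H' hH hm hCH hZ0 hH' hm' hCH'
    set Z0 := qc 2 H ⊓ Subgroup.centralizer (A : Set G) with hZ0def
    have hZ0m : Z0 ∈ signalizerFamily p A θ := h.inf_centralizer_mem (h.qc_mem hH.1 2) le_rfl
    have hZC : Z0 ≤ signalizerInf A θ := inf_centralizer_le_signalizerInf (h.qc_mem hH.1 2) le_rfl
    obtain ⟨K, hK, hKc, -⟩ := h.exists_ctl hZ0m hZ0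
    obtain rfl : K = H := h.eq_ctl_of_mixed h2 hH hm (r := 2) inf_le_left hK hKc
    obtain ⟨r, hr, hr2, hG⟩ := hm.other 2
    haveI := Fact.mk hr
    have hG' : qc r H' ≠ ⊥ := h.qc_ne_bot_of_mixed h2 hH'.1 hm' (h.pr_of_qc hH.1 hG)
    have hrp : r ≠ p := h.ne_p_of_qc hH.1 hG
    obtain ⟨Q, hQ⟩ := h.exists_maxQ' r
    set W := qc r K ⊔ qc r H' with hW
    have hWQ : W ≤ Q := sup_le
      (h.le_maxQ hrp (h.qc_mem hH.1 r) (qc_isPGroup K) (hCH.trans (le_normalizer_qc K)) hQ)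
      (h.le_maxQ hrp (h.qc_mem hH'.1 r) (qc_isPGroup H') (hCH'.trans (le_normalizer_qc H')) hQ)
    have hWA : A ≤ Subgroup.normalizer (W : Set G) := fun a ha => by
      rw [Subgroup.mem_normalizer_iff_map_conj_eq, hW, Subgroup.map_sup,
        Subgroup.mem_normalizer_iff_map_conj_eq.1 (le_normalizer_of_mem (h.qc_mem hH.1 r) ha),
        Subgroup.mem_normalizer_iff_map_conj_eq.1 (le_normalizer_of_mem (h.qc_mem hH'.1 r) ha)]
    have hWm : W ∈ signalizerFamily p A θ := h.mem_of_le hQ.1 hWQ hWA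
    have hWr : IsPGroup r ↥W := hQ.2.1.to_le hWQ
    have hZW : Z0 ≤ Subgroup.normalizer (W : Set G) := fun z hz => by
      rw [Subgroup.mem_normalizer_iff_map_conj_eq, hW, Subgroup.map_sup,
        Subgroup.mem_normalizer_iff_map_conj_eq.1 (le_normalizer_qc K (hCH (hZC hz))),
        Subgroup.mem_normalizer_iff_map_conj_eq.1 (le_normalizer_qc H' (hCH' (hZC hz)))]
    have h2r : (2 : ℕ) ≠ r := hr2.symm
    have hZG : Z0 ≤ Subgroup.centralizer (qc r K : Set G) :=
      inf_le_left.trans (h.qc_commute h2r (qc_le K) (qc_le K))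
    -- `Z0` centralises `W`
    have hZWc : W ≤ Subgroup.centralizer (Z0 : Set G) := by
      rw [Subgroup.le_centralizer_iff]
      intro z hz
      refine Balance.mem_centralizer_pGroup (p := r) (P := qc r K) hWr (qc_isPGroup K)
        ((le_sup_left : qc r K ≤ W).trans Subgroup.le_normalizer) (hZW hz) ?_ (hZG hz) ?_
      · obtain ⟨k, hk⟩ := qc_isPGroup (q := 2) K ⟨z, hz.1⟩
        exact ((Nat.Coprime.pow_left k ((Nat.coprime_primes Nat.prime_two hr).2 h2r))).coprime_dvd_left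
          (orderOf_dvd_of_pow_eq_one (by simpa using congrArg Subtype.val hk))
      · have hle : W ⊓ Subgroup.centralizer (qc r K : Set G) ≤ K :=
          h.centralizing_le (h.ctl_qc hH hG) (h.inf_mem hWm
            (le_normalizer_centralizer' (le_normalizer_of_mem (h.qc_mem hH.1 r)))) inf_le_right
        refine (commute_of_normalizers hr2 hWr (qc_isPGroup K) inf_le_left (inf_le_left : Z0 ≤ qc 2 K)
          (hle.trans (le_normalizer_qc K)) hZW).trans
          (Subgroup.centralizer_le (Set.singleton_subset_iff.2 hz))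
    have hWK : W ≤ K := h.centralizing_le hKc hWm hZWc
    have hG'K : qc r H' ≤ K := (le_sup_right : qc r H' ≤ W).trans hWK
    -- a subgroup of both cores
    set D := qc r K ⊓ Subgroup.centralizer (qc r H' : Set G) with hD
    have hDm : D ∈ signalizerFamily p A θ := h.inf_mem (h.qc_mem hH.1 r)
      (le_normalizer_centralizer' (le_normalizer_of_mem (h.qc_mem hH'.1 r)))
    have hD1 : D ≠ ⊥ := by
      haveI : Group.IsNilpotent ↥W := hWr.isNilpotent
      obtain ⟨Y, hY, hY1, hYW⟩ := Balance.exists_commutator_le (S := W) (X := qc r K) (W := ⊥)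
        le_sup_left (sup_le Subgroup.le_normalizer (hG'K.trans (le_normalizer_qc K)))
        (fun e => hG (le_bot_iff.1 e))
      intro e
      refine hY1 (le_of_le_of_eq (le_inf hY ?_) e)
      exact (Subgroup.commutator_eq_bot_iff_le_centralizer.1 (le_bot_iff.1 hYW)).trans
        (Subgroup.centralizer_le (le_sup_right : qc r H' ≤ W))
    have hDH' : D ≤ H' := h.centralizing_le (h.ctl_qc hH' hG') hDm inf_le_right
    have hDT : D ≤ Subgroup.centralizer (qc 2 H' : Set G) := by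
      intro d hd
      refine Balance.mem_centralizer_pGroup (p := 2) (P := Z0) (qc_isPGroup H')
        ((qc_isPGroup K).to_le inf_le_left) ((hZC.trans hCH').trans (le_normalizer_qc H'))
        (le_normalizer_qc H' (hDH' hd)) ?_ ((Subgroup.le_centralizer_iff.1 hZG) hd.1) ?_
      · obtain ⟨k, hk⟩ := qc_isPGroup (q := r) K ⟨d, hd.1⟩
        exact ((Nat.Coprime.pow_left k ((Nat.coprime_primes hr Nat.prime_two).2 hr2))).coprime_dvd_left
          (orderOf_dvd_of_pow_eq_one (by simpa using congrArg Subtype.val hk))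
      · have hle : qc 2 H' ⊓ Subgroup.centralizer (Z0 : Set G) ≤ K :=
          h.centralizing_le hKc (h.inf_mem (h.qc_mem hH'.1 2)
            (le_normalizer_centralizer' (le_normalizer_of_mem hZ0m))) inf_le_right
        refine (commute_of_normalizers h2r (qc_isPGroup H') (qc_isPGroup K) inf_le_left
          (inf_le_left : D ≤ qc r K) (hle.trans (le_normalizer_qc K))
          (hDH'.trans (le_normalizer_qc H'))).trans
          (Subgroup.centralizer_le (Set.singleton_subset_iff.2 hd))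
    have hDle : D ≤ qc r H' := by
      refine le_qc_of_centralizes hH'.1.1 hDH' ((qc_isPGroup K).to_le inf_le_left) fun t ht => ?_
      haveI := Fact.mk ht
      by_cases hne : qc t H' = ⊥
      · rw [hne]
        exact fun z _ => Subgroup.mem_centralizer_iff.2 fun w hw => by simp [Subgroup.mem_bot.1 hw]
      rcases h2 t r 2 (h.pr_of_qc hH'.1 hne) (h.pr_of_qc hH.1 hG)
          (h.pr_of_qc hH.1 (ne_bot_of_le_ne_bot hZ0 inf_le_left)) with e | e | e
      · exact e ▸ inf_le_right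
      · exact absurd e hr2
      · exact e ▸ hDT
    obtain ⟨J, hJ, hJc, -⟩ := h.exists_ctl hDm hD1
    exact (h.eq_ctl_of_mixed h2 hH hm (r := r) inf_le_left hJ hJc).symm.trans
      (h.eq_ctl_of_mixed h2 hH' hm' hDle hJ hJc)
  choose F hF hFθ hFc using hch
  have hCF : ∀ v, signalizerInf A θ ≤ F v := fun v => (signalizerInf_le v.2.1 v.2.2).trans (hFθ v)
  have heq : ∀ v w, Mixed (F v) → Mixed (F w) → F v = F w := by
    intro v w hmv hmw
    rcases hFc v with ⟨X, hX1, hXu, hXH, hXc⟩ | hv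
    · rcases hFc w with ⟨Y, hY1, hYu, hYH, hYc⟩ | hw
      · obtain ⟨r, hr, hr2, hR⟩ := hmv.other 2
        obtain ⟨s, hs, hs2, hS⟩ := hmw.other 2
        haveI := Fact.mk hr
        haveI := Fact.mk hs
        exact h.mixed_eq (hF v) (hF w) hXc hYc hXH hYH hX1 hY1 hXu hYu hr2 hs2 hR hS
      · exact (hexc _ _ (hF w) hmw (hCF w) hw (hF v) hmv (hCF v)).symm
    · exact hexc _ _ (hF v) hmv (hCF v) hv (hF w) hmw (hCF w)
  have hPP : HasPurePoints p A θ 2 := by
    intro B hB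
    by_contra hno
    push Not at hno
    have hmixed : ∀ (v : G) (hv : v ∈ B) (hv1 : v ≠ 1), Mixed (F ⟨v, hB.1 hv, hv1⟩) := by
      intro v hv hv1
      by_contra hm
      obtain ⟨t, ht, ht2, htne⟩ := hno v hv hv1 _ (hF ⟨v, hB.1 hv, hv1⟩) (hFθ ⟨v, hB.1 hv, hv1⟩)
      exact htne (h.pure_of_not_mixed hm
        (hT (hB.1 hv) hv1 (hF ⟨v, hB.1 hv, hv1⟩) (hFθ ⟨v, hB.1 hv, hv1⟩)) t ht ht2)
    obtain ⟨b, hb, hb1⟩ := exists_ne_one_of_hyp h.rank hB
    refine h.false_of_points hB (hF ⟨b, hB.1 hb, hb1⟩).1 fun v hv hv1 => ?_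
    rw [← heq ⟨v, hB.1 hv, hv1⟩ ⟨b, hB.1 hb, hb1⟩ (hmixed v hv hv1) (hmixed b hb hb1)]
    exact hFθ ⟨v, hB.1 hv, hv1⟩
  have hall : ∀ {v : G}, v ∈ A → v ≠ 1 → ∃ H, IsMaxMem p A θ H ∧ θ v ≤ H ∧
      qc 2 H ≠ ⊥ ∧ h.Pure 2 H ∧ ustar p A θ 2 ≤ qc 2 H := fun {v} hv hv1 => by
    obtain ⟨H, hH, hvH⟩ := exists_isMaxMem (h.theta_mem hv hv1)
    exact ⟨H, hH, hvH, hT hv hv1 hH hvH,
      h.pure_and_good hPP hH ((signalizerInf_le hv hv1).trans hvH) (hT hv hv1 hH hvH)⟩
  have h2p : 2 ≠ p := h.pure_ne_p hPP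
  obtain ⟨Q, hQ⟩ := h.exists_maxQ' 2
  set Z := Q ⊓ Subgroup.centralizer (Q : Set G) with hZ
  have hZm : Z ∈ signalizerFamily p A θ := h.center_mem hQ.1
  have hTQ : ∀ {v H}, v ∈ A → v ≠ 1 → IsMaxMem p A θ H → θ v ≤ H → qc 2 H ≤ Q :=
    fun hv hv1 hH hvH => h.le_maxQ h2p (h.qc_mem hH.1 2) (qc_isPGroup _)
      (((signalizerInf_le hv hv1).trans hvH).trans (le_normalizer_qc _)) hQ
  have hZ1 : Z ≠ ⊥ := by
    obtain ⟨a, ha, ha1⟩ := exists_ne_one_of_hyp h.rank (hyp_self (p := p) (A := A))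
    obtain ⟨H, hH, haH, hne, -⟩ := hall ha ha1
    exact h.center_ne_bot hQ.2.1 fun e => hne (le_bot_iff.1 (e ▸ hTQ ha ha1 hH haH))
  have hS : ustar p A θ 2 ≠ ⊥ := by
    refine ne_bot_of_le_ne_bot hZ1 (h.le_ustar_of_pieces hZm fun B hB b hb hb1 z hz => ?_)
    obtain ⟨H, hH, hbH, hne, hHp, -⟩ := hall (hB.1 hb) hb1
    have hZc : Z ≤ Subgroup.centralizer (qc 2 H : Set G) :=
      inf_le_right.trans (Subgroup.centralizer_le (hTQ (hB.1 hb) hb1 hH hbH))
    have hZT : Z ≤ qc 2 H :=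
      h.le_qc_of_pure hH.1 hHp (h.centralizing_le (h.ctl_qc hH hne) hZm hZc) hZc
    refine le_qc (inf_le_right : qc 2 H ⊓ θ b ≤ θ b)
      (le_normalizer_inf' (hbH.trans (le_normalizer_qc H)) Subgroup.le_normalizer)
      ((qc_isPGroup H).to_le inf_le_left) ⟨hZT hz.1, hZm.2.2.2 b (hB.1 hb) hb1 ⟨hz.1, ?_⟩⟩
    exact Subgroup.mem_centralizer_singleton_iff.2 (Subgroup.mem_centralizer_iff.1 hz.2 b hb).symm
  refine h.false_of_normalizers (h.ustar_mem' (q := 2)).1 hS fun B hB =>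
    h.le_normalizer_ustar hB fun v hv hv1 => ?_
  obtain ⟨H, hH, hvH, -, -, hle⟩ := hall (hB.1 hv) hv1
  exact ⟨H, hH.1, hvH, hle⟩

end Ctx

end Cfsg.Agent.Lib.Signalizer
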