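import Cfsg.Agent.Lib.Signalizer.ManyPrimes
import Cfsg.Agent.Lib.Signalizer.TwoPrimes

/-!
# The solvable signalizer functor theorem

Owner: helper33. Namespace `Cfsg.Agent.Lib.Signalizer`.
* `completes`: a solvable functor of rank at least three has a member containing all values;
* `completes_two`: the case `p = 2`;
* `Completes.isComplete`, `Completes.closure`: the consequences.
-/

set_option autoImplicit false
set_option linter.style.haveILetI false
set_option linter.unusedSectionVars false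

open Cfsg

namespace Cfsg.Agent.Lib.Signalizer

universe u

variable {G : Type u} [Group G] {p : ℕ} {A : Subgroup G} {θ : G → Subgroup G}

/-! ### The measure -/

/-- The sum of the orders of the values. -/
noncomputable def msr (A : Subgroup G) (θ : G → Subgroup G) : ℕ :=
  ∑ᶠ a : {a : G // a ∈ A ∧ a ≠ 1}, Nat.card ↥(θ a)

theorem card_lt_of_lt [Finite G] {H K : Subgroup G} (h : H < K) : Nat.card ↥H < Nat.card ↥K :=
  lt_of_not_ge fun hge => h.ne (Subgroup.eq_of_le_of_card_ge h.le hge)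

theorem msr_lt [Finite G] {θ' : G → Subgroup G} (hle : ∀ a ∈ A, a ≠ 1 → θ' a ≤ θ a)
    (hne : ∃ a ∈ A, a ≠ 1 ∧ θ' a ≠ θ a) : msr A θ' < msr A θ := by
  classical
  haveI := Fintype.ofFinite {a : G // a ∈ A ∧ a ≠ 1}
  obtain ⟨a, ha, ha1, hna⟩ := hne
  simp only [msr, finsum_eq_sum_of_fintype]
  exact Finset.sum_lt_sum (fun b _ => Subgroup.card_le_of_le (hle b b.2.1 b.2.2))
    ⟨⟨a, ha, ha1⟩, Finset.mem_univ _, card_lt_of_lt (lt_of_le_of_ne (hle a ha ha1) hna)⟩

/-! ### Reduction modulo a member -/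

/-- The functor induced modulo a normal subgroup of a subgroup containing the values. -/
def thetaQuot {N : Subgroup G} {Q : Type u} [Group Q] (π : ↥N →* Q) (A : Subgroup G)
    (θ : G → Subgroup G) (x : Q) : Subgroup Q :=
  ⨆ a : {a : ↥N // (a : G) ∈ A ∧ π a = x}, ((θ (a : G)).subgroupOf N).map π

section quotient

variable [Finite G] [hp : Fact p.Prime]

theorem exists_completes_of_quot (hA : IsElementaryAbelian p A) (hA3 : p ^ 3 ≤ Nat.card ↥A)
    (hθ : IsSolvableSignalizerFunctor p A θ)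
    {X : Subgroup G} (hX : X ∈ signalizerFamily p A θ) (hX1 : X ≠ ⊥)
    (hN : ∀ a ∈ A, a ≠ 1 → θ a ≤ Subgroup.normalizer (X : Set G))
    (ih : ∀ (Q : Type u) [Group Q] [Finite Q] (B : Subgroup Q) (φ : Q → Subgroup Q),
      IsElementaryAbelian p B → Nat.card ↥B = Nat.card ↥A → IsSolvableSignalizerFunctor p B φ →
      msr B φ < msr A θ → Completes p B φ) :
    Completes p A θ := by
  classical
  haveI := hA.1
  set N := Subgroup.normalizer (X : Set G) with hNdef
  have hAN : A ≤ N := le_normalizer_of_mem hX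
  let π : ↥N →* ↥N ⧸ X.subgroupOf N := QuotientGroup.mk' (X.subgroupOf N)
  have hker : ∀ z : ↥N, π z = 1 ↔ (z : G) ∈ X := fun z => QuotientGroup.eq_one_iff z
  have hAX : ∀ a ∈ A, a ∈ X → a = (1 : G) := fun a ha haX => by
    exact Subgroup.disjoint_def.1 (Subgroup.disjoint_of_coprime_natCard
      (coprime_of_not_dvd hA le_rfl hX.2.1)) ha haX
  have hinj : ∀ a b : ↥N, (a : G) ∈ A → (b : G) ∈ A → π a = π b → a = b := by
    intro a b ha hb e
    have h1 : π (a⁻¹ * b) = 1 := by rw [map_mul, map_inv, e, inv_mul_cancel]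
    exact inv_mul_eq_one.1 (Subtype.ext (hAX _ (mul_mem (inv_mem ha) hb) ((hker _).1 h1)))
  set B := (A.subgroupOf N).map π with hBdef
  set φ := thetaQuot π A θ with hφdef
  have hBmem : ∀ x ∈ B, x ≠ 1 → ∃ a : ↥N, (a : G) ∈ A ∧ (a : G) ≠ 1 ∧ π a = x := by
    rintro _ ⟨a, ha, rfl⟩ h1
    exact ⟨a, ha, fun e => h1 (by rw [show a = 1 from Subtype.ext e, map_one]), rfl⟩
  have hφ : ∀ a : ↥N, (a : G) ∈ A → φ (π a) = ((θ (a : G)).subgroupOf N).map π := by
    intro a ha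
    apply le_antisymm
    · refine iSup_le fun b => ?_
      rw [hinj b.1 a b.2.1 ha b.2.2]
    · exact le_iSup (fun b : {b : ↥N // (b : G) ∈ A ∧ π b = π a} =>
        ((θ (b : G)).subgroupOf N).map π) ⟨a, ha, rfl⟩
  have hne : ∀ a : ↥N, (a : G) ∈ A → (a : G) ≠ 1 → π a ≠ 1 := fun a ha ha1 e =>
    ha1 (hAX _ ha ((hker a).1 e))
  have hdvd : ∀ a : ↥N, (a : G) ∈ A → (a : G) ≠ 1 → Nat.card ↥(φ (π a)) ∣ Nat.card ↥(θ (a : G)) := by
    intro a ha ha1
    rw [hφ a ha]
    exact (Subgroup.card_map_dvd _ _).trans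
      (dvd_of_eq (Nat.card_congr (Subgroup.subgroupOfEquivOfLe (hN a ha ha1)).toEquiv))
  have hB : IsElementaryAbelian p B := by
    refine PGroups.elemAb_map π (PGroups.elemAb_of_map N.subtype N.subtype_injective ?_)
    rw [Subgroup.subgroupOf_map_subtype]
    exact PGroups.elemAb_mono hA inf_le_left
  have hB3 : Nat.card ↥B = Nat.card ↥A := by
    refine Eq.symm ?_
    rw [← Nat.card_congr (Subgroup.subgroupOfEquivOfLe hAN).toEquiv]
    refine Nat.card_congr (Equiv.ofBijective (fun a => (⟨π a.1, a.1, a.2, rfl⟩ : ↥B)) ⟨?_, ?_⟩)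
    · intro a b e
      exact Subtype.ext (hinj _ _ a.2 b.2 (congrArg Subtype.val e))
    · rintro ⟨_, a, ha, rfl⟩
      exact ⟨⟨a, ha⟩, rfl⟩
  have hφs : IsSolvableSignalizerFunctor p B φ := by
    refine ⟨⟨?_, ?_, ?_, ?_⟩, ?_⟩
    · intro x hx hx1
      obtain ⟨a, ha, ha1, rfl⟩ := hBmem x hx hx1
      rw [hφ a ha]
      rintro _ ⟨t, ht, rfl⟩
      rw [Subgroup.mem_centralizer_singleton_iff, ← map_mul, ← map_mul]
      exact congrArg π (Subtype.ext (commute_theta hθ.1 ha ha1 ht))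
    · intro x hx hx1 hpd
      obtain ⟨a, ha, ha1, rfl⟩ := hBmem x hx hx1
      exact hθ.1.2.1 _ ha ha1 (hpd.trans (hdvd a ha ha1))
    · intro x hx hx1 y hy z hz
      obtain ⟨a, ha, ha1, rfl⟩ := hBmem x hx hx1
      obtain ⟨b, hb, rfl⟩ := hy
      rw [hφ a ha] at hz ⊢
      obtain ⟨t, ht, rfl⟩ := hz
      exact ⟨b * t * b⁻¹, hθ.1.2.2.1 _ ha ha1 _ hb _ ht, by simp⟩
    · intro x hx hx1 y hy hy1
      obtain ⟨a, ha, ha1, rfl⟩ := hBmem x hx hx1
      obtain ⟨b, hb, hb1, rfl⟩ := hBmem y hy hy1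
      rw [hφ a ha, hφ b hb]
      rintro _ ⟨⟨t, ht, rfl⟩, hzc⟩
      have ht' : (t : G) ∈ θ (a : G) := ht
      have hA' : A ≤ Subgroup.normalizer ((X ⊓ θ (a : G) : Subgroup G) : Set G) :=
        le_normalizer_inf' (le_normalizer_of_mem hX) (le_normalizer_theta hθ.1 ha ha1)
      have hZA : Subgroup.zpowers (b : G) ≤ A := Subgroup.zpowers_le.2 hb
      have hk : ∀ c ∈ Subgroup.zpowers (b : G),
          (t : G)⁻¹ * (c * t * c⁻¹) ∈ X ⊓ θ (a : G) := by
        intro c hc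
        refine ⟨?_, (θ (a : G)).mul_mem ((θ (a : G)).inv_mem ht')
          (hθ.1.2.2.1 _ ha ha1 c (hZA hc) _ ht')⟩
        obtain ⟨k, rfl⟩ := Subgroup.mem_zpowers_iff.1 hc
        have h1 : Commute (π (b ^ k)) (π t) := by
          rw [map_zpow]
          exact (show Commute (π b) (π t) from
            (Subgroup.mem_centralizer_singleton_iff.1 hzc).symm).zpow_left k
        have h2 : π (t⁻¹ * (b ^ k * t * (b ^ k)⁻¹)) = 1 := by
          rw [map_mul, map_mul, map_mul, map_inv, map_inv, h1.eq, mul_inv_cancel_right,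
            inv_mul_cancel]
        simpa using (hker _).1 h2
      obtain ⟨n, hn, hnc⟩ := Coprime.exists_mul_fixed (hZA.trans hA')
        (coprime_of_not_dvd hA hZA fun hd => hX.2.1 (hd.trans (Subgroup.card_dvd_of_le inf_le_left)))
        (Or.inr (haveI := hX.1
          Group.isSolvable_of_isSolvable_injective (Subgroup.inclusion_injective inf_le_left))) hk
      refine ⟨t * ⟨n, Subgroup.le_normalizer hn.1⟩, mem_theta_of_commute hθ.1 ha ha1 hb hb1
        (mul_mem ht' hn.2) (Subgroup.mem_centralizer_iff.1 hnc _ (Subgroup.mem_zpowers _)), ?_⟩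
      rw [map_mul, (hker ⟨n, Subgroup.le_normalizer hn.1⟩).2 hn.1, mul_one]
    · intro x hx hx1
      obtain ⟨a, ha, ha1, rfl⟩ := hBmem x hx hx1
      rw [hφ a ha]
      haveI := hθ.2 _ ha ha1
      haveI : Group.IsSolvable ↥((θ (a : G)).subgroupOf N) :=
        Group.isSolvable_of_isSolvable_injective
          (f := (Subgroup.subgroupOfEquivOfLe (hN _ ha ha1)).toMonoidHom)
          (Subgroup.subgroupOfEquivOfLe (hN _ ha ha1)).injective
      exact Group.isSolvable_of_surjective (π.subgroupMap_surjective _)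
  have hlt : msr B φ < msr A θ := by
    haveI := Fintype.ofFinite {a : G // a ∈ A ∧ a ≠ 1}
    haveI := Fintype.ofFinite {x : ↥N ⧸ X.subgroupOf N // x ∈ B ∧ x ≠ 1}
    let e : {a : G // a ∈ A ∧ a ≠ 1} → {x : ↥N ⧸ X.subgroupOf N // x ∈ B ∧ x ≠ 1} := fun a =>
      ⟨π ⟨a.1, hAN a.2.1⟩, ⟨⟨a.1, hAN a.2.1⟩, a.2.1, rfl⟩, hne _ a.2.1 a.2.2⟩
    have he : Function.Bijective e := by
      constructor
      · intro a b h
        exact Subtype.ext (congrArg (fun z : ↥N => (z : G))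
          (hinj ⟨a.1, hAN a.2.1⟩ ⟨b.1, hAN b.2.1⟩ a.2.1 b.2.1 (congrArg Subtype.val h)))
      · rintro ⟨x, hx, hx1⟩
        obtain ⟨a, ha, ha1, rfl⟩ := hBmem x hx hx1
        exact ⟨⟨a, ha, ha1⟩, rfl⟩
    simp only [msr, finsum_eq_sum_of_fintype]
    rw [← Fintype.sum_bijective e he (fun a => Nat.card ↥(φ (e a).1)) _ fun _ => rfl]
    obtain ⟨B₀, hB₀, hn⟩ : ∃ B₀, Hyp p A B₀ ∧ X ⊓ Subgroup.centralizer (B₀ : Set G) ≠ ⊥ := by
      by_contra hnone
      push Not at hnone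
      exact hX1 (le_bot_iff.1 (le_of_hyp hA (le_normalizer_of_mem hX) hX.2.1
        fun C hC => (hnone C hC).le))
    obtain ⟨b, hb, hb1⟩ := exists_ne_one_of_hyp hA3 hB₀
    obtain ⟨x, hx, hx1⟩ := (Subgroup.bot_or_exists_ne_one _).resolve_left hn
    have hxθ : x ∈ θ b := hX.2.2.2 b (hB₀.1 hb) hb1 ⟨hx.1,
      Subgroup.mem_centralizer_singleton_iff.2 (Subgroup.mem_centralizer_iff.1 hx.2 b hb).symm⟩
    refine Finset.sum_lt_sum
      (fun a _ => Nat.le_of_dvd Nat.card_pos (hdvd ⟨a.1, hAN a.2.1⟩ a.2.1 a.2.2))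
      ⟨⟨b, hB₀.1 hb, hb1⟩, Finset.mem_univ _, ?_⟩
    show Nat.card ↥(φ (π ⟨b, hAN (hB₀.1 hb)⟩)) < Nat.card ↥(θ b)
    rw [hφ ⟨b, hAN (hB₀.1 hb)⟩ (hB₀.1 hb),
      ← Nat.card_congr (Subgroup.subgroupOfEquivOfLe (hN b (hB₀.1 hb) hb1)).toEquiv]
    refine lt_of_le_of_ne (Nat.le_of_dvd Nat.card_pos (Subgroup.card_map_dvd _ _)) fun hc => hx1 ?_
    have hinj' := ((Nat.bijective_iff_surjective_and_card _).2
      ⟨π.subgroupMap_surjective ((θ b).subgroupOf N), hc.symm⟩).1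
    have h1 := @hinj' ⟨⟨x, hN b (hB₀.1 hb) hb1 hxθ⟩, hxθ⟩ 1
      (Subtype.ext ((hker ⟨x, hN b (hB₀.1 hb) hb1 hxθ⟩).2 hx.1 |>.trans (by simp)))
    exact congrArg (fun z => ((z.1 : ↥N) : G)) h1
  obtain ⟨V, hV, hle⟩ := ih _ B φ hB hB3 hφs hlt
  set W : Subgroup ↥N := V.comap π with hW
  have hWX : X.subgroupOf N ≤ W := fun z hz => by
    rw [hW, Subgroup.mem_comap, (hker z).2 hz]; exact one_mem _
  refine ⟨W.map N.subtype, ⟨?_, ?_, ?_, ?_⟩, ?_⟩
  · haveI := hV.1
    let f : ↥W →* ↥V := π.subgroupComap V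
    haveI : Group.IsSolvable ↥f.ker := by
      haveI := hX.1
      refine Group.isSolvable_of_isSolvable_injective
        (f := (N.subtype.comp (W.subtype.comp f.ker.subtype)).codRestrict X fun z => ?_) ?_
      · exact (hker (z.1 : ↥N)).1 (congrArg Subtype.val z.2)
      · intro z w e
        exact Subtype.ext (Subtype.ext (Subtype.ext (congrArg (fun z : ↥X => (z : G)) e)))
    haveI : Group.IsSolvable ↥W :=
      Group.isSolvable_of_ker_le_range f.ker.subtype f (by simp)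
    exact Group.isSolvable_of_surjective (N.subtype.subgroupMap_surjective W)
  · intro hd
    rw [Subgroup.card_map_of_injective N.subtype_injective] at hd
    have h1 : Nat.card ↥W = Nat.card ↥(X.subgroupOf N) * Nat.card ↥V := by
      rw [← Subgroup.card_mul_index ((X.subgroupOf N).subgroupOf W),
        Nat.card_congr (Subgroup.subgroupOfEquivOfLe hWX).toEquiv]
      congr 1
      have h2 := Subgroup.relIndex_comap (X.subgroupOf N |>.map π) π W
      rw [show ((X.subgroupOf N).map π).comap π = X.subgroupOf N by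
        rw [Subgroup.comap_map_eq_self]; exact fun z hz => (hker z).1 hz,
        hW, Subgroup.map_comap_eq_self_of_surjective (QuotientGroup.mk'_surjective _)] at h2
      rw [show ((X.subgroupOf N).subgroupOf W).index = (X.subgroupOf N).relIndex W from rfl, hW, h2,
        show (X.subgroupOf N).map π = ⊥ from (Subgroup.map_eq_bot_iff _).2 fun z hz => (hker z).2 hz]
      exact Subgroup.relIndex_bot_left _
    rw [h1, Nat.card_congr (Subgroup.subgroupOfEquivOfLe Subgroup.le_normalizer).toEquiv] at hd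
    exact (hp.out.dvd_mul.1 hd).elim hX.2.1 hV.2.1
  · rintro b hb _ ⟨w, hw, rfl⟩
    refine ⟨⟨b, hAN hb⟩ * w * ⟨b, hAN hb⟩⁻¹, ?_, rfl⟩
    show π _ ∈ V
    rw [map_mul, map_mul, map_inv]
    exact hV.2.2.1 _ ⟨⟨b, hAN hb⟩, hb, rfl⟩ _ hw
  · rintro a ha ha1 _ ⟨⟨w, hw, rfl⟩, hwc⟩
    have hc : (w : G) * a = a * w := Subgroup.mem_centralizer_singleton_iff.1 hwc
    have h1 : π w ∈ φ (π ⟨a, hAN ha⟩) := hV.2.2.2 _ ⟨⟨a, hAN ha⟩, ha, rfl⟩ (hne _ ha ha1)
      ⟨hw, Subgroup.mem_centralizer_singleton_iff.2 (by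
        rw [← map_mul, ← map_mul]; exact congrArg π (Subtype.ext hc))⟩
    rw [hφ _ ha] at h1
    obtain ⟨t, ht, e⟩ := h1
    have ht' : (t : G) ∈ θ a := ht
    have hx : ((t⁻¹ * w : ↥N) : G) ∈ θ a := hX.2.2.2 a ha ha1
      ⟨(hker _).1 (by rw [map_mul, map_inv, e, inv_mul_cancel]), by
        simp only [Subgroup.coe_mul, Subgroup.coe_inv]
        exact (Subgroup.centralizer {a}).mul_mem
          ((Subgroup.centralizer {a}).inv_mem (theta_le_centralizer hθ.1 ha ha1 ht')) hwc⟩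
    simpa using mul_mem ht' hx
  · intro a ha ha1 t ht
    refine ⟨⟨t, hN a ha ha1 ht⟩, ?_, rfl⟩
    show π _ ∈ V
    refine hle _ ⟨⟨a, hAN ha⟩, ha, rfl⟩ (hne _ ha ha1) ?_
    rw [hφ _ ha]
    exact ⟨⟨t, hN a ha ha1 ht⟩, ht, rfl⟩

end quotient

/-! ### The induction -/

theorem completes_of_msr (n : ℕ) : ∀ {p : ℕ} [Fact p.Prime] (G : Type u) [Group G] [Finite G]
    (A : Subgroup G) (θ : G → Subgroup G), IsElementaryAbelian p A → Nat.card ↥A = p ^ 3 →
    IsSolvableSignalizerFunctor p A θ → msr A θ = n → Completes p A θ := by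
  induction n using Nat.strong_induction_on with
  | _ n ih =>
    intro p _ G _ _ A θ hA hA3 hθ hn
    by_contra hnc
    have sub : ∀ θ' : G → Subgroup G, IsSolvableSignalizerFunctor p A θ' →
        (∀ a ∈ A, a ≠ 1 → θ' a ≤ θ a) → (∃ a ∈ A, a ≠ 1 ∧ θ' a ≠ θ a) → Completes p A θ' :=
      fun θ' h' hle hne => ih (msr A θ') (hn ▸ msr_lt hle hne) G A θ' hA hA3 h' rfl
    suffices h : Ctx p A θ by
      by_cases h2 : AtMostTwo A θ
      · exact h.false_of_two h2
      · simp only [AtMostTwo, not_forall, not_or] at h2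
        obtain ⟨a, b, c, ha, hb, hc, hab, hbc, hac⟩ := h2
        refine h.false_of_three fun x u => ?_
        by_contra hno
        push Not at hno
        have h3 : ∀ t, Pr A θ t → t = x ∨ t = u := fun t ht => (em (t = x)).imp_right (hno t ht)
        rcases h3 a ha with e1 | e1 <;> rcases h3 b hb with e2 | e2 <;> rcases h3 c hc with e3 | e3 <;>
          omega
    refine ⟨hA, hA3, hθ, hnc, fun X hX hX1 => ?_, sub⟩
    set N := Subgroup.normalizer (X : Set G) with hN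
    by_cases hall : ∀ a ∈ A, a ≠ 1 → θ a ≤ N
    · exact (hnc (exists_completes_of_quot hA hA3.ge hθ hX hX1 hall
        fun Q _ _ B φ hB hB3 hφ hlt => ih (msr B φ) (hn ▸ hlt) Q B φ hB (hB3.trans hA3) hφ rfl)).elim
    · push Not at hall
      obtain ⟨a, ha, ha1, hna⟩ := hall
      obtain ⟨W, hW, hle⟩ := sub (fun b => θ b ⊓ N)
        (isSolvableSignalizerFunctor_inf hθ ((le_normalizer_of_mem hX).trans Subgroup.le_normalizer))
        (fun _ _ _ => inf_le_left) ⟨a, ha, ha1, fun e => hna (e.ge.trans inf_le_right)⟩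
      refine ⟨W, ⟨hW.1, hW.2.1, hW.2.2.1, fun b hb hb1 =>
        (hW.2.2.2 b hb hb1).trans inf_le_left⟩, fun L hL hLN => ?_⟩
      refine le_of_hyp hA (le_normalizer_of_mem hL) hL.2.1 fun B hB => ?_
      obtain ⟨b, hb, hb1⟩ := exists_ne_one_of_hyp hA3.ge hB
      intro x hx
      exact hle b (hB.1 hb) hb1 ⟨hL.2.2.2 b (hB.1 hb) hb1 ⟨hx.1,
        Subgroup.mem_centralizer_singleton_iff.2 (Subgroup.mem_centralizer_iff.1 hx.2 b hb).symm⟩,
        hLN hx.1⟩

variable [Finite G] [hp : Fact p.Prime]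

/-- **The solvable signalizer functor theorem.** -/
theorem completes (hA : IsElementaryAbelian p A) (hA3 : p ^ 3 ≤ Nat.card ↥A)
    (hθ : IsSolvableSignalizerFunctor p A θ) : Completes p A θ := by
  haveI := hA.1
  have hdvd : p ^ 3 ∣ Nat.card ↥A := by
    obtain ⟨m, hm⟩ := IsPGroup.iff_card.1 (PGroups.elemAb_isPGroup hA)
    rw [hm] at hA3 ⊢
    exact pow_dvd_pow p ((Nat.pow_le_pow_iff_right hp.out.one_lt).1 hA3)
  obtain ⟨K, hK⟩ := Sylow.exists_subgroup_card_pow_prime p hdvd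
  set A₀ := K.map A.subtype with hA₀
  have hle : A₀ ≤ A := Subgroup.map_subtype_le _
  have hcard : Nat.card ↥A₀ = p ^ 3 := by
    rw [hA₀, Subgroup.card_map_of_injective A.subtype_injective, hK]
  have hA₀e : IsElementaryAbelian p A₀ := PGroups.elemAb_mono hA hle
  have hθ₀ : IsSolvableSignalizerFunctor p A₀ θ :=
    ⟨⟨fun a ha => hθ.1.1 a (hle ha), fun a ha => hθ.1.2.1 a (hle ha),
      fun a ha ha1 b hb => hθ.1.2.2.1 a (hle ha) ha1 b (hle hb),
      fun a ha ha1 b hb => hθ.1.2.2.2 a (hle ha) ha1 b (hle hb)⟩, fun a ha => hθ.2 a (hle ha)⟩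
  obtain ⟨U, hU, hUle⟩ := completes_of_msr (msr A₀ θ) G A₀ θ hA₀e hcard hθ₀ rfl
  have hpc : ∀ (a : G), a ∈ A → a ≠ 1 → θ a ≤ U := by
    intro a ha ha1
    refine le_of_hyp hA₀e (hle.trans (le_normalizer_theta hθ.1 ha ha1))
      (hθ.1.2.1 a ha ha1) fun B hB x hx => ?_
    obtain ⟨b, hb, hb1⟩ := exists_ne_one_of_hyp hcard.ge hB
    exact hUle b (hB.1 hb) hb1 (balance hθ.1 ha ha1 (hle (hB.1 hb)) hb1 ⟨hx.1,
      Subgroup.mem_centralizer_singleton_iff.2 (Subgroup.mem_centralizer_iff.1 hx.2 b hb).symm⟩)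
  have hgen : (⨆ b : {b : G // b ∈ A₀ ∧ b ≠ 1}, θ b) = U := by
    refine le_antisymm (iSup_le fun b => hUle b b.2.1 b.2.2)
      (le_of_hyp hA₀e (le_normalizer_of_mem hU) hU.2.1 fun B hB x hx => ?_)
    obtain ⟨b, hb, hb1⟩ := exists_ne_one_of_hyp hcard.ge hB
    exact le_iSup (fun b : {b : G // b ∈ A₀ ∧ b ≠ 1} => θ (b : G)) ⟨b, hB.1 hb, hb1⟩
      (hU.2.2.2 b (hB.1 hb) hb1 ⟨hx.1,
        Subgroup.mem_centralizer_singleton_iff.2 (Subgroup.mem_centralizer_iff.1 hx.2 b hb).symm⟩)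
  have hUA : A ≤ Subgroup.normalizer (U : Set G) := by
    intro a ha
    rw [← hgen, Subgroup.mem_normalizer_iff_map_conj_eq, Subgroup.map_iSup]
    exact iSup_congr fun b => Subgroup.mem_normalizer_iff_map_conj_eq.1
      (le_normalizer_theta hθ.1 (hle b.2.1) b.2.2 ha)
  refine ⟨U, ⟨hU.1, hU.2.1, le_normalizer_iff_conj_mem.1 hUA, fun a ha ha1 => ?_⟩, hpc⟩
  refine le_of_hyp hA₀e (le_normalizer_inf' (hle.trans hUA)
      (hle.trans (Balance.le_normalizer_centralizer_singleton (A := A) ha)))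
    (fun h => hU.2.1 (h.trans (Subgroup.card_dvd_of_le inf_le_left))) fun B hB x hx => ?_
  obtain ⟨b, hb, hb1⟩ := exists_ne_one_of_hyp hcard.ge hB
  exact balance hθ.1 (hle (hB.1 hb)) hb1 ha ha1 ⟨hU.2.2.2 b (hB.1 hb) hb1 ⟨hx.1.1,
    Subgroup.mem_centralizer_singleton_iff.2 (Subgroup.mem_centralizer_iff.1 hx.2 b hb).symm⟩, hx.1.2⟩

/-- **Completeness** for solvable `2`-signalizer functors. -/
theorem completes_two {A : Subgroup G} {θ : G → Subgroup G} (hA : IsElementaryAbelian 2 A)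
    (hA3 : 2 ^ 3 ≤ Nat.card ↥A) (hθ : IsSolvableSignalizerFunctor 2 A θ) : Completes 2 A θ :=
  haveI : Fact (Nat.Prime 2) := ⟨Nat.prime_two⟩
  completes hA hA3 hθ

/-- The closure is the completing member. -/
theorem Completes.closure (hA : IsElementaryAbelian p A) (hA3 : p ^ 3 ≤ Nat.card ↥A)
    (hθ : IsSignalizerFunctor p A θ) (h : Completes p A θ) :
    signalizerClosure A θ ∈ signalizerFamily p A θ ∧
      ∀ a ∈ A, a ≠ 1 → signalizerClosure A θ ⊓ Subgroup.centralizer {a} = θ a := by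
  obtain ⟨U, hU, hle⟩ := h
  have e : signalizerClosure A θ = U := by
    refine le_antisymm (iSup_le fun a => hle a a.2.1 a.2.2) ?_
    refine le_of_hyp hA (le_normalizer_of_mem hU) hU.2.1 fun B hB => ?_
    obtain ⟨b, hb, hb1⟩ := exists_ne_one_of_hyp hA3 hB
    intro x hx
    exact le_iSup (fun a : {a : G // a ∈ A ∧ a ≠ 1} => θ (a : G)) ⟨b, hB.1 hb, hb1⟩
      (hU.2.2.2 b (hB.1 hb) hb1 ⟨hx.1,
        Subgroup.mem_centralizer_singleton_iff.2 (Subgroup.mem_centralizer_iff.1 hx.2 b hb).symm⟩)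
  rw [e]
  exact ⟨hU, fun a ha ha1 => le_antisymm (hU.2.2.2 a ha ha1)
    (le_inf (hle a ha ha1) (theta_le_centralizer hθ ha ha1))⟩

/-- A completing member makes the functor complete. -/
theorem Completes.isComplete (hθ : IsSignalizerFunctor p A θ) (h : Completes p A θ) :
    IsCompleteSignalizerFunctor p A θ :=
  h.elim fun _ hU => complete_of_member hθ hU.1 hU.2

end Cfsg.Agent.Lib.Signalizer
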