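import Cfsg.Agent.Lib.Coprime.Commutator
import Cfsg.Agent.Lib.Coprime.Generation
import Cfsg.Agent.Lib.Coprime.Glauberman
import Cfsg.Agent.Lib.Cores.Basic
import Cfsg.Agent.Lib.PGroups.ElemAb
import Cfsg.Agent.Lib.PGroups.Frattini
import Cfsg.Agent.Lib.Shult.Reduce
import Cfsg.Agent.Lib.SubnormSet.Basic

/-!
# Elements lying in `O_q(H)` by their action on fixed points

Owner: helper33. Namespace `Cfsg.Agent.Lib.Signalizer`.
* `qc q H`: `O_q(H)` as a subgroup of the ambient group;
* `comm_mem_qc`: if `a` of order dividing `p` normalises the `q`-subgroup `P` of the solvable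
  `p'`-group `H`, `q` odd or `P` abelian, and `C_H(a)` normalises a `q`-group containing `P`,
  then `[P, a] ≤ O_q(H)`;
* `mem_qc_of_fixed`: a `q`-element of `H` lies in `O_q(H)` if each `[x, C_H(b)]`, `b ∈ B#`, consists
  of `q`-elements, `B` noncyclic abelian acting coprimely.
-/

set_option autoImplicit false
set_option linter.style.haveILetI false

open Cfsg
open scoped commutatorElement

namespace Cfsg.Agent.Lib.Signalizer

/-- An element of two groups of coprime prime power order is trivial. -/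
theorem eq_one_of_pGroups {G : Type*} [Group G] {s t : ℕ} [Fact s.Prime] [Fact t.Prime]
    (hne : s ≠ t) {K L : Subgroup G} (hK : IsPGroup s ↥K) (hL : IsPGroup t ↥L) {x : G}
    (hxK : x ∈ K) (hxL : x ∈ L) : x = 1 :=
  Subgroup.disjoint_def.1 (IsPGroup.disjoint_of_ne s t hne K L hK hL) hxK hxL

theorem coprime_card_pGroups {G H : Type*} [Group G] [Group H] [Finite G] [Finite H] {s t : ℕ}
    [hs : Fact s.Prime] [ht : Fact t.Prime] (hne : s ≠ t) {K : Subgroup G} {L : Subgroup H}
    (hK : IsPGroup s ↥K) (hL : IsPGroup t ↥L) : (Nat.card ↥K).Coprime (Nat.card ↥L) := by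
  obtain ⟨m, hm⟩ := IsPGroup.iff_card.1 hK
  obtain ⟨n, hn⟩ := IsPGroup.iff_card.1 hL
  rw [hm, hn]
  exact Nat.Coprime.pow _ _ ((Nat.coprime_primes hs.out ht.out).2 hne)

/-! ### Automorphisms of `t`-groups -/

section Aut

variable {V : Type*} [Group V]

/-- `V` inside `V ⋊ Aut V`. -/
theorem inr_conj_inl (e : MulAut V) (v : V) :
    (SemidirectProduct.inr e : V ⋊[MonoidHom.id (MulAut V)] MulAut V) * SemidirectProduct.inl v
      * (SemidirectProduct.inr e)⁻¹ = SemidirectProduct.inl (e v) := by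
  rw [← map_inv]
  exact (SemidirectProduct.inl_aut (φ := MonoidHom.id (MulAut V)) e v).symm

theorem inr_mem_normalizer_range (e : MulAut V) :
    (SemidirectProduct.inr e : V ⋊[MonoidHom.id (MulAut V)] MulAut V) ∈ Subgroup.normalizer
      (((SemidirectProduct.inl : V →* V ⋊[MonoidHom.id (MulAut V)] MulAut V).range : Subgroup _) :
        Set (V ⋊[MonoidHom.id (MulAut V)] MulAut V)) := by
  refine Subgroup.mem_normalizer_iff.2 fun x => ⟨?_, ?_⟩
  · rintro ⟨v, rfl⟩
    exact ⟨e v, (inr_conj_inl e v).symm⟩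
  · rintro ⟨v, hv⟩
    refine ⟨e⁻¹ v, ?_⟩
    rw [← inr_conj_inl, hv, map_inv]
    group

theorem inr_mem_centralizer_range_iff (e : MulAut V) :
    (SemidirectProduct.inr e : V ⋊[MonoidHom.id (MulAut V)] MulAut V) ∈ Subgroup.centralizer
      (((SemidirectProduct.inl : V →* V ⋊[MonoidHom.id (MulAut V)] MulAut V).range : Subgroup _) :
        Set (V ⋊[MonoidHom.id (MulAut V)] MulAut V)) ↔ e = 1 := by
  constructor
  · intro h
    ext v
    have h1 := Subgroup.mem_centralizer_iff.1 h _ ⟨v, rfl⟩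
    have h2 := inr_conj_inl e v
    rw [← h1, mul_inv_cancel_right] at h2
    exact (SemidirectProduct.inl_injective h2).symm
  · rintro rfl
    rw [map_one]
    exact one_mem _

theorem isPGroup_range_inl {t : ℕ} (hV : IsPGroup t V) :
    IsPGroup t ↥((SemidirectProduct.inl : V →* V ⋊[MonoidHom.id (MulAut V)] MulAut V).range) :=
  hV.of_surjective _ (MonoidHom.rangeRestrict_surjective _)

variable [Finite V]

/-- The elementary abelian case: a `q`-group of automorphisms, `q` odd, fixing the fixed points of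
an automorphism `σ` of order dividing `p` normalising it, commutes with `σ`. -/
theorem commute_of_fix_elementary {p q t : ℕ} [hp : Fact p.Prime] [hq : Fact q.Prime]
    [ht : Fact t.Prime] (hqt : q ≠ t) (hpt : p ≠ t) (hpq : p ≠ q)
    (hV : IsElementaryAbelian t (⊤ : Subgroup V)) {P : Subgroup (MulAut V)} (hP : IsPGroup q ↥P)
    (hq2 : q ≠ 2 ∨ IsMulCommutative ↥P)
    {σ : MulAut V} (hσ : σ ^ p = 1) (hσP : σ ∈ Subgroup.normalizer (P : Set (MulAut V)))
    (hfix : ∀ v, σ v = v → ∀ x ∈ P, x v = v) : ∀ x ∈ P, σ * x = x * σ := by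
  haveI : Finite (V ⋊[MonoidHom.id (MulAut V)] MulAut V) :=
    Finite.of_equiv _ SemidirectProduct.equivProd.symm
  rcases eq_or_ne σ 1 with rfl | hσ1
  · simp
  set il : V →* V ⋊[MonoidHom.id (MulAut V)] MulAut V := SemidirectProduct.inl with hil
  set ir : MulAut V →* V ⋊[MonoidHom.id (MulAut V)] MulAut V := SemidirectProduct.inr with hir
  by_contra hne
  push Not at hne
  obtain ⟨x₀, hx₀, hne⟩ := hne
  set V' := il.range with hV'def
  set P' := P.map ir with hP'def
  set X := Subgroup.zpowers (ir σ) with hXdef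
  have hV' : IsElementaryAbelian t V' := by
    rw [hV'def, MonoidHom.range_eq_map]; exact PGroups.elemAb_map _ hV
  haveI := hV'.1
  have hirV : ∀ e, ir e ∈ Subgroup.normalizer (V' : Set _) := inr_mem_normalizer_range
  have hXP : X ≤ Subgroup.normalizer (P' : Set _) :=
    (Subgroup.zpowers_le).2 (Subgroup.le_normalizer_map ir (Subgroup.mem_map_of_mem ir hσP))
  have hPV : P' ≤ Subgroup.normalizer (V' : Set _) := by
    rintro _ ⟨x, -, rfl⟩; exact hirV x
  have hXV : X ≤ Subgroup.normalizer (V' : Set _) := Subgroup.zpowers_le.2 (hirV σ)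
  set Γ := X ⊔ P' with hΓdef
  have hΓV : Γ ≤ Subgroup.normalizer (V' : Set _) := sup_le hXV hPV
  have hordσ : orderOf (ir σ) = p := by
    rw [orderOf_injective ir SemidirectProduct.inr_injective]
    exact orderOf_eq_prime hσ hσ1
  have hXcard : Nat.card ↥X = p := by rw [hXdef, Nat.card_zpowers, hordσ]
  have hP'q : IsPGroup q ↥P' := hP.map _
  have hV't : IsPGroup t ↥V' := PGroups.elemAb_isPGroup hV'
  have hcop : (Nat.card ↥Γ).Coprime (Nat.card ↥V') := by
    have hXq : (Nat.card ↥X).Coprime (Nat.card ↥P') := by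
      obtain ⟨n, hn⟩ := IsPGroup.iff_card.1 hP'q
      rw [hXcard, hn]
      exact ((Nat.coprime_primes hp.out hq.out).2 hpq).pow_right n
    rw [hΓdef, Coprime.card_sup_of_disjoint hXP (Subgroup.disjoint_of_coprime_natCard hXq), hXcard]
    refine Nat.Coprime.mul_left ?_ (coprime_card_pGroups hqt hP'q hV't)
    obtain ⟨n, hn⟩ := IsPGroup.iff_card.1 hV't
    rw [hn]
    exact ((Nat.coprime_primes hp.out ht.out).2 hpt).pow_right n
  have hΓs : Group.IsSolvable ↥Γ ∨ Group.IsSolvable ↥V' :=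
    Or.inr (Coprime.isSolvable_of_isMulCommutative _)
  set C := V' ⊓ Subgroup.centralizer (Γ : Set _) with hCdef
  set D := ⁅V', Γ⁆ with hDdef
  have hDV : D ≤ V' := Coprime.commutator_le_of_le_normalizer hΓV
  have hDt : IsElementaryAbelian t D := PGroups.elemAb_mono hV' hDV
  have hΓD : Γ ≤ Subgroup.normalizer (D : Set _) := Coprime.right_le_normalizer_commutator V' Γ
  have hCD : D ⊔ C = V' := Coprime.commutator_sup_centralizer hΓV hcop hΓs
  have hfaith : Γ ⊓ Subgroup.centralizer (D : Set _) = ⊥ := by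
    refine (Subgroup.eq_bot_iff_forall _).2 fun g hg => ?_
    obtain ⟨e, rfl⟩ : g ∈ ir.range := by
      refine (sup_le ?_ ?_ : Γ ≤ ir.range) hg.1
      · exact Subgroup.zpowers_le.2 ⟨σ, rfl⟩
      · rintro _ ⟨x, -, rfl⟩; exact ⟨x, rfl⟩
    have h1 : V' ≤ Subgroup.centralizer {ir e} := by
      rw [← hCD]
      refine sup_le (fun d hd => Subgroup.mem_centralizer_singleton_iff.2 ?_)
        (fun c hc => Subgroup.mem_centralizer_singleton_iff.2 ?_)
      · exact Subgroup.mem_centralizer_iff.1 hg.2 d hd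
      · exact (Subgroup.mem_centralizer_iff.1 hc.2 _ hg.1).symm
    rw [(inr_mem_centralizer_range_iff e).1 (Subgroup.mem_centralizer_iff.2 fun v hv =>
      Subgroup.mem_centralizer_singleton_iff.1 (h1 hv)), map_one]
  have hXf : X ⊓ Subgroup.centralizer (P' : Set _) = ⊥ := by
    haveI : Fact (Nat.card ↥X).Prime := ⟨hXcard.symm ▸ hp.out⟩
    rcases (X ⊓ Subgroup.centralizer (P' : Set _)).subgroupOf X |>.eq_bot_or_eq_top_of_prime_card
      with h | h
    · rwa [Subgroup.subgroupOf_eq_bot, disjoint_iff, inf_assoc, inf_comm _ X, ← inf_assoc,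
        inf_idem] at h
    · refine absurd ?_ hne
      have h1 := Subgroup.mem_centralizer_iff.1 ((Subgroup.subgroupOf_eq_top.1 h
        (Subgroup.mem_zpowers (ir σ))).2) _ (Subgroup.mem_map_of_mem ir hx₀)
      rw [← map_mul, ← map_mul] at h1
      exact (SemidirectProduct.inr_injective h1).symm
  have hCV : D ⊓ Subgroup.centralizer (X : Set _) = ⊥ := by
    rw [eq_bot_iff, ← Coprime.centralizer_inf_commutator_eq_bot hΓV hcop]
    rintro w ⟨hwD, hwX⟩
    refine ⟨⟨hDV hwD, ?_⟩, hwD⟩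
    obtain ⟨v, rfl⟩ := hDV hwD
    have h1 : σ v = v := by
      have h2 := inr_conj_inl σ v
      rw [Subgroup.mem_centralizer_iff.1 hwX _ (Subgroup.mem_zpowers (ir σ)),
        mul_inv_cancel_right] at h2
      exact (SemidirectProduct.inl_injective h2).symm
    refine Subgroup.mem_centralizer_iff.2 fun g hg => ?_
    refine (Subgroup.mem_centralizer_singleton_iff.1 ((sup_le ?_ ?_ :
      Γ ≤ Subgroup.centralizer {il v}) hg))
    · rw [hXdef, Subgroup.zpowers_le, Subgroup.mem_centralizer_singleton_iff]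
      exact Subgroup.mem_centralizer_iff.1 hwX _ (Subgroup.mem_zpowers (ir σ))
    · rintro _ ⟨x, hx, rfl⟩
      have h2 := inr_conj_inl x v
      rw [hfix v h1 x hx, mul_inv_eq_iff_eq_mul] at h2
      exact Subgroup.mem_centralizer_singleton_iff.2 h2
  have hcases := Shult.fixedPoint_cases ht.out hq.out hp.out hqt.symm hpt.symm hpq.symm X P' D hXcard
    hP'q hXP hXf hDt (le_sup_left.trans hΓD) (le_sup_right.trans hΓD) hfaith hCV
  rcases hq2 with h | h
  · exact h hcases.1
  · exact hcases.2.2 (by rw [hP'def]; haveI := h; infer_instance)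

/-- The reduction of automorphisms to the Frattini quotient. -/
noncomputable def frattiniAut (V : Type*) [Group V] : MulAut V →* MulAut (V ⧸ frattini V) :=
  MonoidHom.mk' (fun e => QuotientGroup.congr _ _ e
    (Subgroup.characteristic_iff_map_eq.1 inferInstance e)) fun e e' => by
      ext z
      obtain ⟨z, rfl⟩ := QuotientGroup.mk'_surjective _ z
      rfl

omit [Finite V] in
theorem frattiniAut_apply (e : MulAut V) (v : V) :
    frattiniAut V e (QuotientGroup.mk' _ v) = QuotientGroup.mk' _ (e v) := rfl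

/-- A `q`-group of automorphisms of a `t`-group, `q` odd, fixing the fixed points of an
automorphism `σ` of order dividing `p` normalising it, commutes with `σ`. -/
theorem commute_of_fix {p q t : ℕ} [hp : Fact p.Prime] [hq : Fact q.Prime]
    [ht : Fact t.Prime] (hqt : q ≠ t) (hpt : p ≠ t) (hpq : p ≠ q)
    (hV : IsPGroup t V) {P : Subgroup (MulAut V)} (hP : IsPGroup q ↥P)
    (hq2 : q ≠ 2 ∨ IsMulCommutative ↥P)
    {σ : MulAut V} (hσ : σ ^ p = 1) (hσP : σ ∈ Subgroup.normalizer (P : Set (MulAut V)))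
    (hfix : ∀ v, σ v = v → ∀ x ∈ P, x v = v) : ∀ x ∈ P, σ * x = x * σ := by
  haveI : Finite (V ⋊[MonoidHom.id (MulAut V)] MulAut V) :=
    Finite.of_equiv _ SemidirectProduct.equivProd.symm
  set f := QuotientGroup.mk' (frattini V)
  set il : V →* V ⋊[MonoidHom.id (MulAut V)] MulAut V := SemidirectProduct.inl with hil
  set ir : MulAut V →* V ⋊[MonoidHom.id (MulAut V)] MulAut V := SemidirectProduct.inr with hir
  -- lift fixed points
  have hfix' : ∀ z, frattiniAut V σ z = z → ∀ y ∈ P.map (frattiniAut V), y z = z := by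
    rintro z hz _ ⟨x, hx, rfl⟩
    obtain ⟨v, rfl⟩ := QuotientGroup.mk'_surjective _ z
    set N := (frattini V).map il with hN
    have hΦ : ∀ (e : MulAut V), ∀ w ∈ frattini V, e w ∈ frattini V := fun e w hw => by
      rw [← Subgroup.characteristic_iff_map_eq.1 (inferInstance : (frattini V).Characteristic) e]
      exact Subgroup.mem_map_of_mem _ hw
    have hirN : ∀ e : MulAut V, ir e ∈ Subgroup.normalizer (N : Set _) := by
      intro e
      refine Subgroup.mem_normalizer_iff.2 fun g => ⟨?_, ?_⟩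
      · rintro ⟨w, hw, rfl⟩
        exact ⟨e w, hΦ e w hw, (inr_conj_inl e w).symm⟩
      · rintro ⟨w, hw, hwe⟩
        refine ⟨e⁻¹ w, hΦ _ _ hw, ?_⟩
        rw [hil, ← inr_conj_inl, ← hil, hwe, map_inv, ← hir]
        group
    have hNt : IsPGroup t ↥N := (hV.to_subgroup _).map _
    have hcop : (Nat.card ↥(Subgroup.zpowers (ir σ))).Coprime (Nat.card ↥N) := by
      obtain ⟨n, hn⟩ := IsPGroup.iff_card.1 hNt
      rw [hn, Nat.card_zpowers]
      refine Nat.Coprime.coprime_dvd_left (orderOf_dvd_of_pow_eq_one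
        (by rw [← map_pow, hσ, map_one])) ?_
      exact ((Nat.coprime_primes hp.out ht.out).2 hpt).pow_right n
    obtain ⟨n, hn, hc⟩ := Coprime.exists_mul_fixed (A := Subgroup.zpowers (ir σ))
      (Subgroup.zpowers_le.2 (hirN σ)) hcop (Or.inl (Coprime.isSolvable_zpowers _)) (k := il v)
      (by
        rintro _ ⟨k, rfl⟩
        show (il v)⁻¹ * (ir σ ^ k * il v * (ir σ ^ k)⁻¹) ∈ N
        rw [← map_zpow, hil, inr_conj_inl, ← map_inv, ← map_mul]
        refine Subgroup.mem_map_of_mem _ ?_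
        rw [← QuotientGroup.eq]
        show QuotientGroup.mk' _ v = QuotientGroup.mk' _ ((σ ^ k) v)
        rw [← frattiniAut_apply, map_zpow]
        have hmem : frattiniAut V σ ∈ MulAction.stabilizer (MulAut (V ⧸ frattini V))
            (QuotientGroup.mk' (frattini V) v) := hz
        exact (MulAction.mem_stabilizer_iff.1 (Subgroup.zpow_mem _ hmem k)).symm)
    obtain ⟨w, hw, rfl⟩ := hn
    have h1 : σ (v * w) = v * w := by
      refine SemidirectProduct.inl_injective (φ := MonoidHom.id (MulAut V)) ?_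
      rw [← inr_conj_inl]
      show ir σ * il (v * w) * (ir σ)⁻¹ = il (v * w)
      rw [map_mul, Subgroup.mem_centralizer_iff.1 hc _ (Subgroup.mem_zpowers (ir σ)),
        mul_inv_cancel_right]
    have h2 : QuotientGroup.mk' (frattini V) (v * w) = QuotientGroup.mk' (frattini V) v := by
      rw [map_mul, (QuotientGroup.eq_one_iff w).2 hw |> (fun h => show
        QuotientGroup.mk' (frattini V) w = 1 from h), mul_one]
    calc frattiniAut V x (QuotientGroup.mk' _ v)
        = frattiniAut V x (QuotientGroup.mk' _ (v * w)) := by rw [h2]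
      _ = QuotientGroup.mk' _ (v * w) := by rw [frattiniAut_apply, hfix _ h1 x hx]
      _ = QuotientGroup.mk' _ v := h2
  intro x hx
  have h1 := commute_of_fix_elementary hqt hpt hpq (PGroups.frattiniQuotient_elemAb hV)
    (hP.map (frattiniAut V)) (hq2.imp_right fun h => by haveI := h; infer_instance)
    (σ := frattiniAut V σ) (by rw [← map_pow, hσ, map_one])
    (Subgroup.le_normalizer_map _ (Subgroup.mem_map_of_mem _ hσP)) hfix' _
    (Subgroup.mem_map_of_mem _ hx)
  set y := σ * x * σ⁻¹ * x⁻¹ with hy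
  have hyP : y ∈ P := mul_mem ((Subgroup.mem_normalizer_iff.1 hσP x).1 hx) (inv_mem hx)
  have hy1 : frattiniAut V y = 1 := by
    rw [hy, map_mul, map_mul, map_mul, h1, map_inv, map_inv]; group
  suffices y = 1 by
    rw [hy, mul_inv_eq_one, mul_inv_eq_iff_eq_mul] at this
    exact this
  set K := il.range
  have hK := Coprime.le_centralizer_of_frattini (A := Subgroup.zpowers (ir y)) (K := K)
    (Subgroup.zpowers_le.2 (inr_mem_normalizer_range y))
    (coprime_card_pGroups hqt ((hP.map ir).to_le (Subgroup.zpowers_le.2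
      (Subgroup.mem_map_of_mem ir hyP))) ((isPGroup_range_inl hV).to_subgroup _))
    (by
      rintro _ ⟨k, rfl⟩ _ ⟨v, rfl⟩
      show ir y ^ k * il v * (ir y ^ k)⁻¹ * (il v)⁻¹ ∈ _
      rw [← map_zpow, hil, inr_conj_inl, ← map_inv, ← map_mul]
      have hm : (y ^ k) v * v⁻¹ ∈ frattini V := by
        rw [← QuotientGroup.eq_one_iff]
        show QuotientGroup.mk' (frattini V) ((y ^ k) v * v⁻¹) = 1
        rw [map_mul, ← frattiniAut_apply, map_zpow, hy1, one_zpow, MulAut.one_apply, ← map_mul,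
          mul_inv_cancel, map_one]
      refine ⟨MonoidHom.rangeRestrict il ((y ^ k) v * v⁻¹), ?_, rfl⟩
      exact frattini_le_comap_frattini_of_surjective (φ := il.rangeRestrict)
        (MonoidHom.rangeRestrict_surjective _) hm)
  exact (inr_mem_centralizer_range_iff y).1 (hK (Subgroup.mem_zpowers _))

end Aut

/-! ### `O_q(H)` as a subgroup of the ambient group -/

variable {G : Type*} [Group G] {q : ℕ} {H K N : Subgroup G}

/-- `O_q(H)` as a subgroup of the ambient group. -/
def qc (q : ℕ) (H : Subgroup G) : Subgroup G := (pCore q ↥H).map H.subtype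

theorem qc_le (H : Subgroup G) : qc q H ≤ H := Subgroup.map_subtype_le _

/-- A characteristic subgroup of `H` is normalised by the normaliser of `H`. -/
theorem normalizer_le_normalizer_char (C : Subgroup ↥H) [hC : C.Characteristic] :
    Subgroup.normalizer (H : Set G) ≤
      Subgroup.normalizer ((C.map H.subtype : Subgroup G) : Set G) := by
  have key : ∀ g ∈ Subgroup.normalizer (H : Set G), ∀ x ∈ C.map H.subtype,
      g * x * g⁻¹ ∈ C.map H.subtype := by
    rintro g hg _ ⟨c, hc, rfl⟩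
    exact ⟨_, (Subgroup.characteristic_iff_map_le.1 hC) (H.normalizerMonoidHom ⟨g, hg⟩)
      ⟨c, hc, rfl⟩, rfl⟩
  intro g hg
  refine Subgroup.mem_normalizer_iff.2 fun x => ⟨key g hg x, fun h => ?_⟩
  simpa [mul_assoc] using key g⁻¹ (inv_mem hg) _ h

theorem normalizer_le_normalizer_qc (H : Subgroup G) :
    Subgroup.normalizer (H : Set G) ≤ Subgroup.normalizer (qc q H : Set G) :=
  normalizer_le_normalizer_char _

theorem le_normalizer_qc (H : Subgroup G) : H ≤ Subgroup.normalizer (qc q H : Set G) :=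
  Subgroup.le_normalizer.trans (normalizer_le_normalizer_qc H)

theorem le_qc (hNH : N ≤ H) (hn : H ≤ Subgroup.normalizer (N : Set G)) (hN : IsPGroup q ↥N) :
    N ≤ qc q H := by
  have h : N.subgroupOf H ≤ pCore q ↥H := by
    haveI : (N.subgroupOf H).Normal := Subgroup.normal_subgroupOf_of_le_normalizer hn
    exact Cores.le_pCore hN.comap_subtype
  rw [← Subgroup.map_subgroupOf_eq_of_le hNH]
  exact Subgroup.map_mono h

variable [Finite G]

theorem qc_isPGroup (H : Subgroup G) : IsPGroup q ↥(qc q H) :=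
  (Cores.pCore_isPGroup q).map _

theorem qc_mono_normal (hKH : K ≤ H) (hn : H ≤ Subgroup.normalizer (K : Set G)) :
    qc q K ≤ qc q H :=
  le_qc ((qc_le K).trans hKH) (hn.trans (normalizer_le_normalizer_qc K)) (qc_isPGroup K)

theorem qc_inf_qc {t : ℕ} [Fact q.Prime] [Fact t.Prime] (hqt : q ≠ t) (H : Subgroup G) :
    qc q H ⊓ qc t H = ⊥ :=
  disjoint_iff.1 (IsPGroup.disjoint_of_ne q t hqt _ _ (qc_isPGroup H) (qc_isPGroup H))

/-- An automorphism-invariant action on the cores of `H ⧸ O_q(H)`. -/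
theorem mem_qc_of_centralizes_cores [hq : Fact q.Prime] {x : ↥H} (hs : Group.IsSolvable ↥H)
    (hx : ∃ k : ℕ, x ^ q ^ k = 1)
    (hc : ∀ t : ℕ, t.Prime → t ≠ q → ∀ v ∈ pCore t (↥H ⧸ pCore q ↥H),
      QuotientGroup.mk' (pCore q ↥H) x * v = v * QuotientGroup.mk' (pCore q ↥H) x) :
    (x : G) ∈ qc q H := by
  set Q := ↥H ⧸ pCore q ↥H
  set z : Q := QuotientGroup.mk' (pCore q ↥H) x with hz
  haveI : Group.IsSolvable Q :=
    Group.isSolvable_of_surjective (QuotientGroup.mk'_surjective (pCore q ↥H))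
  have hbot : pCore q Q = ⊥ := Cores.pCore_quotient_pCore q
  have h1 : z ∈ fittingSubgroup Q := by
    refine Cores.centralizer_fittingSubgroup_le (Subgroup.mem_centralizer_iff.2 fun w hw => ?_)
    rw [Cores.fittingSubgroup_eq_iSup_pCore] at hw
    refine Subgroup.mem_centralizer_singleton_iff.1 ((iSup_le fun t => ?_ :
      (⨆ t : Nat.Primes, pCore (t : ℕ) Q) ≤ Subgroup.centralizer {z}) hw)
    intro v hv
    rw [Subgroup.mem_centralizer_singleton_iff]
    by_cases htq : (t : ℕ) = q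
    · rw [htq, hbot, Subgroup.mem_bot] at hv
      simp [hv]
    · exact (hc _ t.2 htq v hv).symm
  haveI : Group.IsNilpotent ↥(fittingSubgroup Q) := Cores.fittingSubgroup_isNilpotent
  obtain ⟨k, hk⟩ := hx
  have hzq : IsPGroup q ↥(Subgroup.zpowers z) := by
    obtain ⟨j, -, hj⟩ := (Nat.dvd_prime_pow hq.out).1
      (orderOf_dvd_of_pow_eq_one (show z ^ q ^ k = 1 by rw [hz, ← map_pow, hk, map_one]))
    exact IsPGroup.of_card (by rw [Nat.card_zpowers, hj])
  have h2 : Subgroup.zpowers z ≤ pCore q Q :=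
    Cores.IsSubnormal.le_pCore (Subgroup.IsSubnormal.trans (Subgroup.zpowers_le.2 h1)
      (SubnormSet.isSubnormal_of_isNilpotent _) (Subgroup.Normal.isSubnormal inferInstance)) hzq
  rw [hbot] at h2
  exact Subgroup.mem_map_of_mem _ ((QuotientGroup.eq_one_iff x).1 (h2 (Subgroup.mem_zpowers z)))

/-- The action of `N(H)` on `O_t(H / O_q(H))`. -/
noncomputable def sectionAut (q t : ℕ) (H : Subgroup G) :
    ↥(Subgroup.normalizer (H : Set G)) →* MulAut ↥(pCore t (↥H ⧸ pCore q ↥H)) :=
  (MonoidHom.mk' (fun e : MulAut (↥H ⧸ pCore q ↥H) =>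
    ((e.subgroupMap (pCore t (↥H ⧸ pCore q ↥H))).trans
      (MulEquiv.subgroupCongr (Cores.map_pCore_equiv e)) : MulAut _)) fun e e' => by ext v; rfl).comp
  ((MonoidHom.mk' (fun e : MulAut ↥H =>
    (QuotientGroup.congr (pCore q ↥H) (pCore q ↥H) e (Cores.map_pCore_equiv e) : MulAut _))
    fun e e' => by
      ext z
      obtain ⟨z, rfl⟩ := QuotientGroup.mk'_surjective _ z
      rfl).comp H.normalizerMonoidHom)

omit [Finite G] in
theorem sectionAut_apply {t : ℕ} (g : ↥(Subgroup.normalizer (H : Set G))) (h : ↥H)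
    (hh : QuotientGroup.mk' (pCore q ↥H) h ∈ pCore t (↥H ⧸ pCore q ↥H)) :
    ((sectionAut q t H g ⟨_, hh⟩ : ↥(pCore t (↥H ⧸ pCore q ↥H))) : ↥H ⧸ pCore q ↥H) =
      QuotientGroup.mk' (pCore q ↥H) (H.normalizerMonoidHom g h) := rfl

omit [Finite G] in
theorem sectionAut_of_mem {t : ℕ} (x : ↥H) (v : ↥(pCore t (↥H ⧸ pCore q ↥H))) :
    ((sectionAut q t H ⟨x, Subgroup.le_normalizer x.2⟩ v : ↥(pCore t (↥H ⧸ pCore q ↥H))) :
      ↥H ⧸ pCore q ↥H) = QuotientGroup.mk' (pCore q ↥H) x * v *
        (QuotientGroup.mk' (pCore q ↥H) x)⁻¹ := by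
  obtain ⟨z, hz⟩ := v
  obtain ⟨h, rfl⟩ := QuotientGroup.mk'_surjective _ z
  show _ = QuotientGroup.mk' (pCore q ↥H) x * QuotientGroup.mk' (pCore q ↥H) h *
    (QuotientGroup.mk' (pCore q ↥H) x)⁻¹
  rw [sectionAut_apply, ← map_inv, ← map_mul, ← map_mul]
  rfl

omit [Finite G] in
/-- A commutator of `x` and `c` lying in `P` vanishes on a `t`-core of `H / O_q(H)`, `t ≠ q`. -/
theorem commute_of_commutator_mem {t : ℕ} [Fact q.Prime] [Fact t.Prime] (htq : t ≠ q) [Finite G]
    {P : Subgroup G} (hP : IsPGroup q ↥P) {x c : ↥H} (hxc : ⁅(x : G), (c : G)⁆ ∈ P)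
    (hc : QuotientGroup.mk' (pCore q ↥H) c ∈ pCore t (↥H ⧸ pCore q ↥H)) :
    QuotientGroup.mk' (pCore q ↥H) x * QuotientGroup.mk' (pCore q ↥H) c =
      QuotientGroup.mk' (pCore q ↥H) c * QuotientGroup.mk' (pCore q ↥H) x := by
  rw [← commutatorElement_eq_one_iff_mul_comm]
  refine eq_one_of_pGroups htq (Cores.pCore_isPGroup t)
    ((hP.comap_subtype (K := H)).map (QuotientGroup.mk' (pCore q ↥H))) ?_ ?_
  · rw [commutatorElement_def]
    exact mul_mem ((Subgroup.Normal.conj_mem inferInstance _ hc) _) (inv_mem hc)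
  · refine ⟨⁅x, c⁆, ?_, by rw [map_commutatorElement]⟩
    show ((⁅x, c⁆ : ↥H) : G) ∈ P
    simpa [commutatorElement_def] using hxc

/-- If `a` of order dividing `p` normalises the `q`-subgroup `P` of the solvable `p'`-group `H`,
`q` odd or `P` abelian, and `C_H(a)` normalises a `q`-group containing `P`, then `[P, a] ≤ O_q(H)`. -/
theorem comm_mem_qc {p : ℕ} [hp : Fact p.Prime] [hq : Fact q.Prime] (hs : Group.IsSolvable ↥H)
    (hpH : ¬ p ∣ Nat.card ↥H) (hpq : p ≠ q) {a : G} (ha : a ^ p = 1)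
    (haH : a ∈ Subgroup.normalizer (H : Set G)) {P : Subgroup G} (hq2 : q ≠ 2 ∨ IsMulCommutative ↥P)
    (hPH : P ≤ H) (haP : a ∈ Subgroup.normalizer (P : Set G))
    {P' : Subgroup G} (hP'q : IsPGroup q ↥P') (hPP' : P ≤ P')
    (hC : H ⊓ Subgroup.centralizer {a} ≤ Subgroup.normalizer (P' : Set G)) :
    ⁅P, Subgroup.zpowers a⁆ ≤ qc q H := by
  have hgen : ∀ b ∈ Subgroup.zpowers a, ∀ x ∈ P, b * x * b⁻¹ * x⁻¹ ∈ qc q H := by
    intro b hb x hx
    have hbN : b ∈ Subgroup.normalizer (H : Set G) := Subgroup.zpowers_le.2 haH hb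
    have hbP : b * x * b⁻¹ ∈ P :=
      (Subgroup.mem_normalizer_iff.1 (Subgroup.zpowers_le.2 haP hb) x).1 hx
    have hyP : b * x * b⁻¹ * x⁻¹ ∈ P := mul_mem hbP (inv_mem hx)
    have hP : IsPGroup q ↥P := hP'q.to_le hPP'
    refine mem_qc_of_centralizes_cores (x := ⟨_, hPH hyP⟩) hs ?_ fun t ht htq v hv => ?_
    · obtain ⟨k, hk⟩ := hP ⟨_, hyP⟩
      exact ⟨k, Subtype.ext (by simpa using congrArg Subtype.val hk)⟩
    haveI := Fact.mk ht
    set ρ := sectionAut q t H
    set PN := P.subgroupOf (Subgroup.normalizer (H : Set G)) with hPN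
    set aN : ↥(Subgroup.normalizer (H : Set G)) := ⟨a, haH⟩ with haN
    have hcore : IsPGroup t ↥(pCore t (↥H ⧸ pCore q ↥H)) := Cores.pCore_isPGroup t
    rcases eq_or_ne t p with rfl | htp
    · -- there are no `p`-elements
      obtain ⟨n, hn⟩ := IsPGroup.iff_card.1 hcore
      rcases Nat.eq_zero_or_pos n with rfl | hpos
      · rw [pow_zero, Subgroup.card_eq_one] at hn
        rw [hn, Subgroup.mem_bot] at hv
        simp [hv]
      · exact absurd ((dvd_pow_self t hpos.ne').trans (hn ▸ (Subgroup.card_subgroup_dvd_card _).trans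
          (Subgroup.card_quotient_dvd_card _))) hpH
    have hfix : ∀ w, ρ aN w = w → ∀ y ∈ PN.map ρ, y w = w := by
      rintro ⟨z, hz⟩ hw _ ⟨y, hy, rfl⟩
      obtain ⟨h, rfl⟩ := QuotientGroup.mk'_surjective _ z
      have hcop : (Nat.card ↥(Subgroup.zpowers a)).Coprime (Nat.card ↥(qc q H)) := by
        obtain ⟨n, hn⟩ := IsPGroup.iff_card.1 (qc_isPGroup (q := q) H)
        rw [hn, Nat.card_zpowers]
        exact (((Nat.coprime_primes hp.out hq.out).2 hpq).pow_right n).coprime_dvd_left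
          (orderOf_dvd_of_pow_eq_one ha)
      obtain ⟨n, hn, hc⟩ := Coprime.exists_mul_fixed (A := Subgroup.zpowers a)
        (Subgroup.zpowers_le.2 (normalizer_le_normalizer_qc H haH)) hcop
        (Or.inl (Coprime.isSolvable_zpowers a)) (k := (h : G)) (by
          rintro _ ⟨k, rfl⟩
          have hmem : ρ aN ∈ MulAction.stabilizer (MulAut ↥(pCore t (↥H ⧸ pCore q ↥H)))
              (⟨_, hz⟩ : ↥(pCore t (↥H ⧸ pCore q ↥H))) := hw
          have h1 : ρ (aN ^ k) ⟨_, hz⟩ = ⟨_, hz⟩ := by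
            rw [map_zpow]
            exact MulAction.mem_stabilizer_iff.1 (Subgroup.zpow_mem _ hmem k)
          have h2 : h⁻¹ * H.normalizerMonoidHom (aN ^ k) h ∈ pCore q ↥H := by
            rw [← QuotientGroup.eq]
            exact (congrArg Subtype.val h1).symm
          exact ⟨_, h2, rfl⟩)
      obtain ⟨⟨n, hnH⟩, hnN, rfl⟩ := hn
      set c : ↥H := h * ⟨n, hnH⟩ with hcdef
      have hceq : QuotientGroup.mk' (pCore q ↥H) h = QuotientGroup.mk' (pCore q ↥H) c := by
        rw [hcdef, map_mul, show QuotientGroup.mk' (pCore q ↥H) ⟨n, hnH⟩ = 1 from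
          (QuotientGroup.eq_one_iff _).2 hnN, mul_one]
      have hcn : (c : G) ∈ Subgroup.normalizer (P' : Set G) := hC
        ⟨c.2, Subgroup.mem_centralizer_singleton_iff.2
          (Subgroup.mem_centralizer_iff.1 hc a (Subgroup.mem_zpowers a)).symm⟩
      set x' : ↥H := ⟨(y : G), hPH hy⟩ with hx'
      have hcomm : ⁅(x' : G), (c : G)⁆ ∈ P' := by
        have e : ⁅(x' : G), (c : G)⁆ = (y : G) * ((c : G) * (y : G)⁻¹ * (c : G)⁻¹) := by
          rw [commutatorElement_def, hx']; group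
        rw [e]
        exact mul_mem (hPP' hy) ((Subgroup.mem_normalizer_iff.1 hcn _).1 (inv_mem (hPP' hy)))
      refine Subtype.ext ?_
      rw [show y = ⟨(x' : G), Subgroup.le_normalizer x'.2⟩ from rfl, sectionAut_of_mem]
      show QuotientGroup.mk' (pCore q ↥H) x' * QuotientGroup.mk' (pCore q ↥H) h *
        (QuotientGroup.mk' (pCore q ↥H) x')⁻¹ = QuotientGroup.mk' (pCore q ↥H) h
      rw [hceq, commute_of_commutator_mem htq hP'q hcomm (hceq ▸ hz), mul_inv_cancel_right]
    have hP' : IsPGroup q ↥(PN.map ρ) := (hP.comap_subtype).map _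
    have hnorm : ρ aN ∈ Subgroup.normalizer ((PN.map ρ : Subgroup _) : Set _) :=
      Subgroup.le_normalizer_map ρ (Subgroup.mem_map_of_mem ρ (by
        refine Subgroup.mem_normalizer_iff.2 fun g => ?_
        exact Subgroup.mem_normalizer_iff.1 haP (g : G)))
    have hρx := commute_of_fix (p := p) (q := q) (t := t) htq.symm htp.symm hpq hcore hP'
      (hq2.imp_right fun h => by haveI := h; infer_instance)
      (σ := ρ aN) (by rw [← map_pow, show aN ^ p = 1 from Subtype.ext (by simpa [haN] using ha),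
        map_one]) hnorm hfix
      _ (Subgroup.mem_map_of_mem ρ (x := ⟨x, Subgroup.le_normalizer (hPH hx)⟩) hx)
    obtain ⟨k, hk⟩ := Subgroup.mem_zpowers_iff.1 hb
    have hbN' : (⟨b, hbN⟩ : ↥(Subgroup.normalizer (H : Set G))) = aN ^ k :=
      Subtype.ext (by simp [haN, hk])
    have h3 : ρ ⟨_, Subgroup.le_normalizer (hPH hyP)⟩ = 1 := by
      rw [show (⟨_, Subgroup.le_normalizer (hPH hyP)⟩ : ↥(Subgroup.normalizer (H : Set G))) =
        aN ^ k * ⟨x, Subgroup.le_normalizer (hPH hx)⟩ * (aN ^ k)⁻¹ *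
          ⟨x, Subgroup.le_normalizer (hPH hx)⟩⁻¹ by rw [← hbN']; rfl]
      simp only [map_mul, map_inv, map_zpow]
      rw [((show Commute (ρ aN) _ from hρx).zpow_left k).eq]
      group
    have h4 := congrArg (fun e : MulAut ↥(pCore t (↥H ⧸ pCore q ↥H)) =>
      (e ⟨v, hv⟩ : ↥H ⧸ pCore q ↥H)) h3
    simp only [MulAut.one_apply] at h4
    exact mul_inv_eq_iff_eq_mul.1
      ((sectionAut_of_mem (t := t) ⟨_, hPH hyP⟩ ⟨v, hv⟩).symm.trans h4)
  rw [Subgroup.commutator_comm, Subgroup.commutator_le]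
  intro b hb x hx
  rw [commutatorElement_def]
  exact hgen b hb x hx

/-- A `q`-element `x` of the solvable group `H` lies in `O_q(H)` if each `[x, C_H(b)]`, `b ∈ B#`,
lies in a `q`-group, `B` noncyclic abelian of order prime to `|H|`. -/
theorem mem_qc_of_fixed [hq : Fact q.Prime] (hs : Group.IsSolvable ↥H) {B : Subgroup G}
    [IsMulCommutative ↥B] (hB : ¬ IsCyclic ↥B) (hBH : B ≤ Subgroup.normalizer (H : Set G))
    (hcop : (Nat.card ↥B).Coprime (Nat.card ↥H)) {x : G} (hxH : x ∈ H)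
    (hxq : ∃ k : ℕ, x ^ q ^ k = 1) (hfix : ∀ b ∈ B, b ≠ 1 → ∃ P : Subgroup G, IsPGroup q ↥P ∧
      ∀ w ∈ H, w * b = b * w → ⁅x, w⁆ ∈ P) :
    x ∈ qc q H := by
  refine mem_qc_of_centralizes_cores (x := ⟨x, hxH⟩) hs
    (hxq.imp fun k hk => Subtype.ext (by simpa using hk)) fun t ht htq v hv => ?_
  haveI := Fact.mk ht
  set π := QuotientGroup.mk' (pCore q ↥H)
  set V := (pCore t (↥H ⧸ pCore q ↥H)).comap π with hV
  set W := V.map H.subtype with hW
  haveI : V.Characteristic := by
    refine Subgroup.characteristic_iff_le_comap.2 fun e h hh => ?_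
    let e' := QuotientGroup.congr (pCore q ↥H) (pCore q ↥H) e (Cores.map_pCore_equiv e)
    show π (e h) ∈ pCore t _
    rw [show π (e h) = e' (π h) from rfl, ← Cores.map_pCore_equiv (p := t) e']
    exact Subgroup.mem_map_of_mem e'.toMonoidHom hh
  have hBW : B ≤ Subgroup.normalizer (W : Set G) :=
    hBH.trans (normalizer_le_normalizer_char _)
  have hgen := Coprime.iSup_centralizer_eq (K := W) hB hBW
    (hcop.coprime_dvd_right (Subgroup.card_dvd_of_le (Subgroup.map_subtype_le _)))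
  obtain ⟨h, rfl⟩ := QuotientGroup.mk'_surjective _ v
  have hmem : (h : G) ∈ W := Subgroup.mem_map_of_mem _ hv
  set T := ((Subgroup.centralizer {π ⟨x, hxH⟩}).comap π).map H.subtype with hT
  have hle : W ≤ T := by
    rw [← hgen]
    refine iSup₂_le fun b hb => ?_
    rintro w ⟨hwW, hwb⟩
    obtain ⟨P, hP, hPx⟩ := hfix b hb.1 hb.2
    obtain ⟨w', hw', rfl⟩ := hwW
    refine Subgroup.mem_map_of_mem _ (Subgroup.mem_centralizer_singleton_iff.2 ?_)
    exact (commute_of_commutator_mem htq hP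
      (hPx _ w'.2 (Subgroup.mem_centralizer_singleton_iff.1 hwb)) hw').symm
  obtain ⟨h', hh', he⟩ := hle hmem
  rw [H.subtype_injective he] at hh'
  exact (Subgroup.mem_centralizer_singleton_iff.1 hh').symm

end Cfsg.Agent.Lib.Signalizer
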