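import Cfsg.Agent.Lib.Signalizer.Basic
import Cfsg.Agent.Lib.Balance.CoprimeCore

/-!
# The transitivity theorem for signalizer functors

Owner: helper33. Namespace `Cfsg.Agent.Lib.Signalizer`.
* `IsMaxQ`: a maximal `q`-member of the family;
* `exists_maxQ`: every `q`-member lies in a maximal one;
* `maxQ_conj`: two maximal `q`-members are conjugate by an element of `⋂ θ a`;
* `exists_sylow_inf_member`, `sylow_centralizer`: their Sylow intersections;
* `complete_of_qGroup`: a functor whose values are `q`-groups is complete.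
-/

set_option autoImplicit false
set_option linter.style.haveILetI false
open Cfsg
open scoped Pointwise

namespace Cfsg.Agent.Lib.Signalizer

variable {G : Type*} [Group G] [Finite G] {p : ℕ} [hp : Fact p.Prime] {A : Subgroup G}
  {θ : G → Subgroup G} {q : ℕ} [hq : Fact q.Prime]

/-- A maximal element among the `q`-members of the family. -/
def IsMaxQ (p : ℕ) (A : Subgroup G) (θ : G → Subgroup G) (q : ℕ) (Q : Subgroup G) : Prop :=
  Q ∈ signalizerFamily p A θ ∧ IsPGroup q ↥Q ∧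
    ∀ R ∈ signalizerFamily p A θ, IsPGroup q ↥R → Q ≤ R → R = Q

omit hp hq in
theorem exists_maxQ {U : Subgroup G} (hU : U ∈ signalizerFamily p A θ) (hUq : IsPGroup q ↥U) :
    ∃ Q, IsMaxQ p A θ q Q ∧ U ≤ Q := by
  obtain ⟨Q, hUQ, ⟨hQ, hQq⟩, hmax⟩ := Finite.exists_le_maximal
    (p := fun V : Subgroup G => V ∈ signalizerFamily p A θ ∧ IsPGroup q ↥V) (a := U) ⟨hU, hUq⟩
  exact ⟨Q, ⟨hQ, hQq, fun R hR hRq hle => le_antisymm (hmax ⟨hR, hRq⟩ hle) hle⟩, hUQ⟩

theorem coprime_card_family (hA : IsElementaryAbelian p A) {U : Subgroup G}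
    (hU : U ∈ signalizerFamily p A θ) : (Nat.card ↥A).Coprime (Nat.card ↥U) := by
  obtain ⟨m, hm⟩ := IsPGroup.iff_card.1 (PGroups.elemAb_isPGroup hA)
  rw [hm]
  exact (hp.out.coprime_iff_not_dvd.2 hU.2.1).pow_left m

omit [Finite G] hq in
theorem conj_isPGroup {U : Subgroup G} (hU : IsPGroup q ↥U) (c : G) :
    IsPGroup q ↥(U.map (MulAut.conj c).toMonoidHom) := hU.map _

omit [Finite G] in
theorem map_conj_conj (U : Subgroup G) (c d : G) :
    (U.map (MulAut.conj c).toMonoidHom).map (MulAut.conj d).toMonoidHom =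
      U.map (MulAut.conj (d * c)).toMonoidHom := by
  rw [Subgroup.map_map]; congr 1; ext x; simp [mul_assoc]

omit [Finite G] in
theorem map_conj_one (U : Subgroup G) : U.map (MulAut.conj (1 : G)).toMonoidHom = U := by
  ext x; simp

omit [Finite G] in
theorem map_conj_eq_self {U : Subgroup G} {c : G} (h : c ∈ Subgroup.normalizer (U : Set G)) :
    U.map (MulAut.conj c).toMonoidHom = U :=
  Subgroup.mem_normalizer_iff_map_conj_eq.1 h

omit [Finite G] in
theorem map_conj_inv {U V : Subgroup G} {c : G} (h : U.map (MulAut.conj c).toMonoidHom = V) :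
    V.map (MulAut.conj c⁻¹).toMonoidHom = U := by
  rw [← h, map_conj_conj, inv_mul_cancel, map_conj_one]

omit hp hq in
theorem conj_isMaxQ (hθ : IsSignalizerFunctor p A θ) {Q : Subgroup G} (hQ : IsMaxQ p A θ q Q)
    {c : G} (hc : c ∈ signalizerInf A θ) : IsMaxQ p A θ q (Q.map (MulAut.conj c).toMonoidHom) := by
  refine ⟨conj_mem_family hθ hQ.1 hc, conj_isPGroup hQ.2.1 c, fun R hR hRq hle => ?_⟩
  have h := hQ.2.2 _ (conj_mem_family hθ hR (inv_mem hc)) (conj_isPGroup hRq c⁻¹) (by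
    have := Subgroup.map_mono (f := (MulAut.conj c⁻¹).toMonoidHom) hle
    rwa [map_conj_inv rfl] at this)
  rw [← h, map_conj_conj, mul_inv_cancel, map_conj_one]

/-- An `A`-invariant `q`-member joined with one normalizing it is a member. -/
theorem sup_mem_family (hA : IsElementaryAbelian p A) {D R : Subgroup G}
    (hD : D ∈ signalizerFamily p A θ) (hR : R ∈ signalizerFamily p A θ) (hDq : IsPGroup q ↥D)
    (hRq : IsPGroup q ↥R) (hqp : q ≠ p) (hRD : R ≤ Subgroup.normalizer (D : Set G)) :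
    D ⊔ R ∈ signalizerFamily p A θ ∧ IsPGroup q ↥(D ⊔ R) := by
  have hq' : IsPGroup q ↥(D ⊔ R) :=
    IsPGroup.to_sup_of_normal_left' hDq hRq hRD
  obtain ⟨m, hm⟩ := IsPGroup.iff_card.1 hq'
  refine ⟨⟨?_, ?_, le_normalizer_iff_conj_mem.1 ?_, ?_⟩, hq'⟩
  · haveI := hq'.isNilpotent
    infer_instance
  · rw [hm]
    exact fun h => hqp ((Nat.prime_dvd_prime_iff_eq hp.out hq.out).1 (hp.out.dvd_of_dvd_pow h)).symm
  · intro a ha
    rw [Subgroup.mem_normalizer_iff_map_conj_eq, Subgroup.map_sup,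
      Subgroup.mem_normalizer_iff_map_conj_eq.1 (le_normalizer_of_mem hD ha),
      Subgroup.mem_normalizer_iff_map_conj_eq.1 (le_normalizer_of_mem hR ha)]
  · intro a ha ha1 x hx
    have hmul : x ∈ (D : Set G) * (R : Set G) := by
      rw [← Subgroup.coe_mul_of_right_le_normalizer_left D R hRD]; exact hx.1
    obtain ⟨d, hd, r, hr, rfl⟩ := hmul
    have hza : Subgroup.zpowers a ≤ A := Subgroup.zpowers_le.2 ha
    have hcent : d * r ∈ Subgroup.centralizer (Subgroup.zpowers a : Set G) := by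
      rw [Subgroup.zpowers_eq_closure, Subgroup.centralizer_closure]; exact hx.2
    obtain ⟨d', hd', r', hr', he⟩ := Coprime.exists_mul_eq_of_fixed
      (hza.trans (le_normalizer_of_mem hD)) (hza.trans (le_normalizer_of_mem hR))
      ((coprime_card_family hA hD).coprime_dvd_left (Subgroup.card_dvd_of_le hza) |>.coprime_dvd_right
        (Subgroup.card_dvd_of_le inf_le_left))
      (Or.inl inferInstance) hd hr hcent
    show d * r ∈ θ a
    rw [he]
    have hle : Subgroup.centralizer (Subgroup.zpowers a : Set G) ≤ Subgroup.centralizer ({a} : Set G) :=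
      Subgroup.centralizer_le (Set.singleton_subset_iff.2 (Subgroup.mem_zpowers a))
    exact mul_mem (hD.2.2.2 a ha ha1 ⟨hd'.1, hle hd'.2⟩) (hR.2.2.2 a ha ha1 ⟨hr'.1, hle hr'.2⟩)

/-- **Transitivity theorem.** -/
theorem maxQ_conj (hA : IsElementaryAbelian p A) (hA3 : p ^ 3 ≤ Nat.card ↥A)
    (hθ : IsSolvableSignalizerFunctor p A θ) (hqp : q ≠ p) :
    ∀ Q₁ Q₂ : Subgroup G, IsMaxQ p A θ q Q₁ → IsMaxQ p A θ q Q₂ →
      ∃ c ∈ signalizerInf A θ, Q₁.map (MulAut.conj c).toMonoidHom = Q₂ := by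
  suffices key : ∀ (n : ℕ) (Q₁ Q₂ : Subgroup G), Nat.card G ≤ n + Nat.card ↥(Q₁ ⊓ Q₂ : Subgroup G) →
      IsMaxQ p A θ q Q₁ → IsMaxQ p A θ q Q₂ →
      ∃ c ∈ signalizerInf A θ, Q₁.map (MulAut.conj c).toMonoidHom = Q₂ from
    fun Q₁ Q₂ => key _ Q₁ Q₂ (Nat.le_add_right _ _)
  intro n
  induction n using Nat.strong_induction_on with
  | _ n IH =>
  intro Q₁ Q₂ hn h₁ h₂
  set D := Q₁ ⊓ Q₂ with hD
  by_cases hD₁ : D = Q₁
  · exact ⟨1, one_mem _, by
      rw [map_conj_one]; exact (h₁.2.2 Q₂ h₂.1 h₂.2.1 (hD₁.ge.trans inf_le_right)).symm⟩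
  by_cases hD₂ : D = Q₂
  · exact ⟨1, one_mem _, by
      rw [map_conj_one]; exact h₂.2.2 Q₁ h₁.1 h₁.2.1 (hD₂.ge.trans inf_le_left)⟩
  obtain ⟨a, ha, ha1, hX₁, hX₂⟩ := Balance.exists_common_not_le hA hA3 hqp h₁.2.1 h₂.2.1
    (le_normalizer_of_mem h₁.1) (le_normalizer_of_mem h₂.1) hD₁ hD₂
  have hAD : A ≤ Subgroup.normalizer (D : Set G) := fun g hg => by
    rw [Subgroup.mem_normalizer_iff_map_conj_eq, hD, Subgroup.map_inf _ _ _ (MulAut.conj g).injective,
      Subgroup.mem_normalizer_iff_map_conj_eq.1 (le_normalizer_of_mem h₁.1 hg),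
      Subgroup.mem_normalizer_iff_map_conj_eq.1 (le_normalizer_of_mem h₂.1 hg)]
  have hDW : D ∈ signalizerFamily p A θ := mem_family_of_le h₁.1 inf_le_left hAD
  set H := θ a ⊓ Subgroup.normalizer (D : Set G) with hH
  have hAH : A ≤ Subgroup.normalizer (H : Set G) := fun g hg => by
    rw [Subgroup.mem_normalizer_iff_map_conj_eq, hH, Subgroup.map_inf _ _ _ (MulAut.conj g).injective,
      Subgroup.mem_normalizer_iff_map_conj_eq.1 (le_normalizer_theta hθ.1 ha ha1 hg),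
      Subgroup.mem_normalizer_iff_map_conj_eq.1 (Subgroup.le_normalizer (hAD hg))]
  have hHW : H ∈ signalizerFamily p A θ :=
    mem_family_of_le (theta_mem_family hθ ha ha1) inf_le_left hAH
  have hcop := coprime_card_family hA hHW
  haveI := hA.1
  have hAs : Group.IsSolvable ↥A ∨ Group.IsSolvable ↥H := Or.inr hHW.1
  have hget : ∀ Q : Subgroup G, IsMaxQ p A θ q Q →
      Subgroup.normalizer (D : Set G) ⊓ Q ⊓ Subgroup.centralizer {a} ≤ H ∧
      ∃ P : Sylow q ↥H,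
        Subgroup.normalizer (D : Set G) ⊓ Q ⊓ Subgroup.centralizer {a}
          ≤ (P : Subgroup ↥H).map H.subtype ∧
        A ≤ Subgroup.normalizer (((P : Subgroup ↥H).map H.subtype : Subgroup G) : Set G) := by
    intro Q hQ
    have hle : Subgroup.normalizer (D : Set G) ⊓ Q ⊓ Subgroup.centralizer {a} ≤ H :=
      le_inf (le_trans (inf_le_inf_right _ inf_le_right) (hQ.1.2.2.2 a ha ha1))
        (inf_le_left.trans inf_le_left)
    refine ⟨hle, Coprime.exists_invariant_sylow_ge hAH hcop hAs q _ hle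
      (hQ.2.1.to_le (inf_le_left.trans inf_le_right)) fun g hg => ?_⟩
    have hga : g ∈ Subgroup.centralizer ({a} : Set G) :=
      Subgroup.mem_centralizer_singleton_iff.2 (PGroups.elemAb_comm hA hg ha)
    rw [Subgroup.mem_normalizer_iff_map_conj_eq, Subgroup.map_inf _ _ _ (MulAut.conj g).injective,
      Subgroup.map_inf _ _ _ (MulAut.conj g).injective,
      Subgroup.mem_normalizer_iff_map_conj_eq.1 (Subgroup.le_normalizer (hAD hg)),
      Subgroup.mem_normalizer_iff_map_conj_eq.1 (le_normalizer_of_mem hQ.1 hg),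
      Subgroup.mem_normalizer_iff_map_conj_eq.1 (Subgroup.le_normalizer hga)]
  obtain ⟨hle₁, P₁, hP₁, hAP₁⟩ := hget Q₁ h₁
  obtain ⟨hle₂, P₂, hP₂, hAP₂⟩ := hget Q₂ h₂
  obtain ⟨c, ⟨hcH, hcA⟩, hc⟩ := Coprime.exists_conj_invariant_sylow hAH hcop hAs P₁ P₂ hAP₁ hAP₂
  have hcθ : c ∈ signalizerInf A θ := by
    rw [signalizerInf_eq hθ.1 le_rfl ha ha1]
    exact ⟨hcH.1, hcA⟩
  rw [Coprime.conj_smul_eq_map] at hc
  set R := (P₂ : Subgroup ↥H).map H.subtype with hR
  have hRH : R ≤ H := Subgroup.map_subtype_le _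
  obtain ⟨hUW, hUq⟩ := sup_mem_family hA hDW (mem_family_of_le hHW hRH hAP₂)
    (h₁.2.1.to_le inf_le_left) (P₂.isPGroup'.map _) hqp (hRH.trans inf_le_right)
  obtain ⟨Q₃, h₃, hUQ₃⟩ := exists_maxQ hUW hUq
  have hsmall : ∀ Q Q' : Subgroup G, D ≤ Q → D ≤ Q' → (∃ x, x ∈ Q ∧ x ∈ Q' ∧ x ∉ D) →
      Nat.card ↥D < Nat.card ↥(Q ⊓ Q' : Subgroup G) := by
    intro Q Q' h h' ⟨x, hx, hx', hxD⟩
    refine lt_of_not_ge fun hge => hxD ?_
    rw [Subgroup.eq_of_le_of_card_ge (le_inf h h') hge]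
    exact ⟨hx, hx'⟩
  obtain ⟨x₁, hx₁, hx₁D⟩ := SetLike.not_le_iff_exists.1 hX₁
  obtain ⟨x₂, hx₂, hx₂D⟩ := SetLike.not_le_iff_exists.1 hX₂
  have hDU : D ≤ Q₃ := le_sup_left.trans hUQ₃
  have hcD : D.map (MulAut.conj c).toMonoidHom = D :=
    Subgroup.mem_normalizer_iff_map_conj_eq.1 hcH.2
  -- the conjugate of `Q₁`
  have hc1 := conj_isMaxQ hθ.1 h₁ hcθ
  have hlt₁ : Nat.card ↥D <
      Nat.card ↥(Q₁.map (MulAut.conj c).toMonoidHom ⊓ Q₃ : Subgroup G) := by
    refine hsmall _ _ (hcD.ge.trans (Subgroup.map_mono inf_le_left)) hDU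
      ⟨MulAut.conj c x₁, Subgroup.mem_map_of_mem _ hx₁.1.2, hUQ₃ (Subgroup.mem_sup_right ?_), ?_⟩
    · rw [← hc]; exact Subgroup.mem_map_of_mem _ (hP₁ hx₁)
    · intro h
      rw [← hcD] at h
      obtain ⟨y, hy, hye⟩ := h
      exact hx₁D ((MulAut.conj c).injective hye ▸ hy)
  have hlt₂ : Nat.card ↥D < Nat.card ↥(Q₃ ⊓ Q₂ : Subgroup G) :=
    hsmall _ _ hDU inf_le_right
      ⟨x₂, hUQ₃ (Subgroup.mem_sup_right (hP₂ hx₂)), hx₂.1.2, hx₂D⟩
  have hDG : Nat.card ↥(Q₃ ⊓ Q₂ : Subgroup G) ≤ Nat.card G := Subgroup.card_le_card_group _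
  obtain ⟨c₁, hc₁, he₁⟩ := IH (n - 1) (by omega) _ _ (by omega) hc1 h₃
  obtain ⟨c₂, hc₂, he₂⟩ := IH (n - 1) (by omega) _ _ (by omega) h₃ h₂
  exact ⟨c₂ * (c₁ * c), mul_mem hc₂ (mul_mem hc₁ hcθ), by
    rw [← map_conj_conj, ← map_conj_conj, he₁, he₂]⟩

/-- (a): some conjugate of a maximal `q`-member meets a member in a Sylow subgroup. -/
theorem exists_sylow_inf_member (hA : IsElementaryAbelian p A) (hA3 : p ^ 3 ≤ Nat.card ↥A)
    (hθ : IsSolvableSignalizerFunctor p A θ) (hqp : q ≠ p) {Q : Subgroup G} (hQ : IsMaxQ p A θ q Q)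
    {H : Subgroup G} (hH : H ∈ signalizerFamily p A θ) {U : Subgroup G} (hUH : U ≤ H)
    (hUq : IsPGroup q ↥U) (hUA : A ≤ Subgroup.normalizer (U : Set G)) :
    ∃ c ∈ signalizerInf A θ, ∃ S : Sylow q ↥H, U ≤ (S : Subgroup ↥H).map H.subtype ∧
      (S : Subgroup ↥H).map H.subtype = Q.map (MulAut.conj c).toMonoidHom ⊓ H := by
  obtain ⟨S, hUS, hAS⟩ := Coprime.exists_invariant_sylow_ge (le_normalizer_of_mem hH)
    (coprime_card_family hA hH) (Or.inr hH.1) q U hUH hUq hUA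
  obtain ⟨Q', hQ', hle⟩ := exists_maxQ (mem_family_of_le hH (Subgroup.map_subtype_le _) hAS)
    (S.isPGroup'.map _)
  obtain ⟨c, hc, he⟩ := maxQ_conj hA hA3 hθ hqp Q Q' hQ hQ'
  refine ⟨c, hc, S, hUS, ?_⟩
  rw [he]
  refine le_antisymm (le_inf hle (Subgroup.map_subtype_le _)) ?_
  have h1 : (S : Subgroup ↥H) ≤ (Q' ⊓ H).subgroupOf H := fun x hx =>
    ⟨hle (Subgroup.mem_map_of_mem _ hx), x.2⟩
  have h2 := S.is_maximal'
    ((hQ'.2.1.to_le (inf_le_left : Q' ⊓ H ≤ Q')).of_equiv (Subgroup.subgroupOfEquivOfLe inf_le_right).symm) h1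
  rw [← Subgroup.map_subgroupOf_eq_of_le (inf_le_right : Q' ⊓ H ≤ H), h2]

/-- (b): `C_Q(B)` is a Sylow subgroup of `⋂_{b ∈ B#} θ b`. -/
theorem sylow_centralizer (hA : IsElementaryAbelian p A) (hA3 : p ^ 3 ≤ Nat.card ↥A)
    (hθ : IsSolvableSignalizerFunctor p A θ) (hqp : q ≠ p) {Q : Subgroup G} (hQ : IsMaxQ p A θ q Q)
    {B : Subgroup G} (hBA : B ≤ A) (hB : B ≠ ⊥) :
    ∃ S : Sylow q ↥(signalizerInf B θ),
      (S : Subgroup ↥(signalizerInf B θ)).map (signalizerInf B θ).subtype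
        = Q ⊓ Subgroup.centralizer (B : Set G) := by
  have hU : A ≤ Subgroup.normalizer ((Q ⊓ Subgroup.centralizer (B : Set G) : Subgroup G) : Set G) := by
    intro g hg
    have hgB : g ∈ Subgroup.centralizer (B : Set G) :=
      Subgroup.mem_centralizer_iff.2 fun b hb => PGroups.elemAb_comm hA (hBA hb) hg
    rw [Subgroup.mem_normalizer_iff_map_conj_eq, Subgroup.map_inf _ _ _ (MulAut.conj g).injective,
      Subgroup.mem_normalizer_iff_map_conj_eq.1 (le_normalizer_of_mem hQ.1 hg),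
      Subgroup.mem_normalizer_iff_map_conj_eq.1 (Subgroup.le_normalizer hgB)]
  obtain ⟨c, hc, S, hUS, hS⟩ := exists_sylow_inf_member hA hA3 hθ hqp hQ
    (signalizerInf_mem_family hθ hBA hB) (inf_centralizer_le_signalizerInf hQ.1 hBA)
    (hQ.2.1.to_le inf_le_left) hU
  refine ⟨S, (Subgroup.eq_of_le_of_card_ge hUS ?_).symm⟩
  have hcB : c ∈ Subgroup.centralizer (B : Set G) :=
    Subgroup.mem_centralizer_iff.2 fun b hb => (signalizerInf_commute hθ.1 hc (hBA hb)).symm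
  obtain ⟨a, ha, ha1⟩ : ∃ a ∈ B, a ≠ (1 : G) := by
    by_contra h
    push Not at h
    exact hB ((Subgroup.eq_bot_iff_forall _).2 h)
  have hle : (S : Subgroup ↥(signalizerInf B θ)).map (signalizerInf B θ).subtype ≤
      (Q ⊓ Subgroup.centralizer (B : Set G)).map (MulAut.conj c).toMonoidHom := by
    rw [Subgroup.map_inf _ _ _ (MulAut.conj c).injective, hS,
      map_conj_eq_self (Subgroup.le_normalizer hcB)]
    refine inf_le_inf_left _ ?_
    rw [signalizerInf_eq hθ.1 hBA ha ha1]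
    exact inf_le_right
  exact (Subgroup.card_le_of_le hle).trans (Subgroup.card_map_of_injective (MulAut.conj c).injective).le

/-- One-prime completeness. -/
theorem complete_of_qGroup (hA : IsElementaryAbelian p A) (hA3 : p ^ 3 ≤ Nat.card ↥A)
    (hθ : IsSolvableSignalizerFunctor p A θ) (hθq : ∀ a ∈ A, a ≠ 1 → IsPGroup q ↥(θ a)) :
    IsCompleteSignalizerFunctor p A θ := by
  by_cases hqp : q = p
  · refine complete_of_member hθ.1 (bot_mem_family hp.out.ne_one) fun a ha ha1 => ?_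
    obtain ⟨m, hm⟩ := IsPGroup.iff_card.1 (hθq a ha ha1)
    rcases Nat.eq_zero_or_pos m with rfl | hpos
    · rw [pow_zero] at hm; exact (Subgroup.eq_bot_of_card_eq _ hm).le
    · exact absurd (hm ▸ hqp ▸ dvd_pow_self q hpos.ne') (hθ.1.2.1 a ha ha1)
  obtain ⟨Q, hQ, -⟩ := exists_maxQ (bot_mem_family (θ := θ) (A := A) hp.out.ne_one)
    (IsPGroup.of_bot (p := q))
  have hA0 : A ≠ ⊥ := by
    rintro rfl
    rw [Subgroup.card_bot] at hA3
    exact absurd hA3 (not_le_of_gt (Nat.one_lt_pow (by norm_num) hp.out.one_lt))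
  obtain ⟨a₀, ha₀, ha₀1⟩ : ∃ a ∈ A, a ≠ (1 : G) := by
    by_contra h
    push Not at h
    exact hA0 ((Subgroup.eq_bot_iff_forall _).2 h)
  obtain ⟨S, hS⟩ := sylow_centralizer hA hA3 hθ hqp hQ le_rfl hA0
  have hKQ : signalizerInf A θ ≤ Q := by
    have hK : IsPGroup q ↥(signalizerInf A θ) := (hθq a₀ ha₀ ha₀1).to_le (signalizerInf_le ha₀ ha₀1)
    have hStop : (S : Subgroup ↥(signalizerInf A θ)) = ⊤ :=
      (S.is_maximal' (hK.of_equiv Subgroup.topEquiv.symm) le_top).symm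
    rw [hStop, ← MonoidHom.range_eq_map, Subgroup.range_subtype] at hS
    exact hS.le.trans inf_le_left
  refine complete_of_member hθ.1 hQ.1 fun a ha ha1 => ?_
  obtain ⟨Q', hQ', hle⟩ := exists_maxQ (theta_mem_family hθ ha ha1) (hθq a ha ha1)
  obtain ⟨c, hc, he⟩ := maxQ_conj hA hA3 hθ hqp Q Q' hQ hQ'
  rw [map_conj_eq_self (Subgroup.le_normalizer (hKQ hc))] at he
  exact hle.trans he.ge

omit hq in
theorem ne_of_dvd_theta (hθ : IsSignalizerFunctor p A θ) (hq' : ∃ a ∈ A, a ≠ 1 ∧ q ∣ Nat.card ↥(θ a)) :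
    q ≠ p := by
  rintro rfl
  obtain ⟨a, ha, ha1, hd⟩ := hq'
  exact hθ.2.1 a ha ha1 hd

end Cfsg.Agent.Lib.Signalizer
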