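import Cfsg.Agent.Lib.Signalizer.CoreFixed
import Cfsg.Agent.Lib.Signalizer.Transitivity
import Cfsg.Agent.Lib.Balance.Factorization

/-!
# Maximal members of the family of a signalizer functor

Owner: helper33. Namespace `Cfsg.Agent.Lib.Signalizer`.
* `Hyp p A B`: `B ≤ A` of index at most `p`;
* `commutator_le_hyp`: `⁅H, c⁆` is generated by the `⁅C_H(B), c⁆`, `H` solvable;
* `Completes`: some member contains every value;
* `Ctx`: the properties of a minimal counterexample;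
* `pstar`, `ustar`: the subgroups `P*_B` and `U*_q`.
-/

set_option autoImplicit false
set_option linter.style.haveILetI false
set_option linter.unusedSectionVars false

open Cfsg
open scoped commutatorElement

namespace Cfsg.Agent.Lib.Signalizer

variable {G : Type*} [Group G] {p : ℕ} {A : Subgroup G} {θ : G → Subgroup G}

/-- A subgroup of index at most `p` in `A`. -/
def Hyp (p : ℕ) (A B : Subgroup G) : Prop := B ≤ A ∧ B.relIndex A ≤ p

theorem Hyp.le {B : Subgroup G} (h : Hyp p A B) : B ≤ A := h.1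

theorem hyp_self [hp : Fact p.Prime] : Hyp p A A :=
  ⟨le_rfl, by rw [Subgroup.relIndex_self]; exact hp.out.one_lt.le⟩

theorem le_normalizer_inf' {A K L : Subgroup G} (hK : A ≤ Subgroup.normalizer (K : Set G))
    (hL : A ≤ Subgroup.normalizer (L : Set G)) :
    A ≤ Subgroup.normalizer ((K ⊓ L : Subgroup G) : Set G) := fun a ha => by
  rw [Subgroup.mem_normalizer_iff_map_conj_eq, Subgroup.map_inf _ _ _ (MulAut.conj a).injective,
    Subgroup.mem_normalizer_iff_map_conj_eq.1 (hK ha), Subgroup.mem_normalizer_iff_map_conj_eq.1 (hL ha)]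

theorem le_normalizer_centralizer' {A K : Subgroup G} (hK : A ≤ Subgroup.normalizer (K : Set G)) :
    A ≤ Subgroup.normalizer ((Subgroup.centralizer (K : Set G) : Subgroup G) : Set G) := by
  refine le_normalizer_iff_conj_mem.2 fun a ha x hx => Subgroup.mem_centralizer_iff.2 fun k hk => ?_
  have h := Subgroup.mem_centralizer_iff.1 hx _
    ((Subgroup.mem_normalizer_iff.1 (hK (inv_mem ha)) k).1 hk)
  rw [inv_inv] at h
  calc k * (a * x * a⁻¹) = a * (a⁻¹ * k * a * x) * a⁻¹ := by group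
    _ = a * x * a⁻¹ * k := by rw [h]; group

theorem le_normalizer_centralizer_of_comm {B : Subgroup G} (hA : IsElementaryAbelian p A) (hB : B ≤ A) :
    A ≤ Subgroup.normalizer ((Subgroup.centralizer (B : Set G) : Subgroup G) : Set G) :=
  le_normalizer_centralizer' fun a ha => Subgroup.centralizer_le_normalizer (B : Set G)
    (Subgroup.mem_centralizer_iff.2 fun b hb => PGroups.elemAb_comm hA (hB hb) ha)

variable [Finite G] [hp : Fact p.Prime]

theorem hyp_card (hA3 : p ^ 3 ≤ Nat.card ↥A) {B : Subgroup G} (hB : Hyp p A B) :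
    p ^ 2 ≤ Nat.card ↥B := by
  have h := Subgroup.card_mul_index (B.subgroupOf A)
  rw [Nat.card_congr (Subgroup.subgroupOfEquivOfLe hB.1).toEquiv] at h
  have h2 : Nat.card ↥B * p ≥ p ^ 2 * p := by
    rw [← pow_succ]
    calc Nat.card ↥B * p ≥ Nat.card ↥B * B.relIndex A := Nat.mul_le_mul_left _ hB.2
      _ = Nat.card ↥A := h
      _ ≥ p ^ 3 := hA3
  exact Nat.le_of_mul_le_mul_right h2 hp.out.pos

theorem hyp_elem (hA : IsElementaryAbelian p A) {B : Subgroup G} (hB : Hyp p A B) :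
    IsElementaryAbelian p B := PGroups.elemAb_mono hA hB.1

theorem hyp_not_cyclic (hA : IsElementaryAbelian p A) (hA3 : p ^ 3 ≤ Nat.card ↥A) {B : Subgroup G}
    (hB : Hyp p A B) : ¬ IsCyclic ↥B :=
  Balance.not_isCyclic_of_sq_le (hyp_elem hA hB) (hyp_card hA3 hB)

theorem hyp_ne_bot (hA3 : p ^ 3 ≤ Nat.card ↥A) {B : Subgroup G} (hB : Hyp p A B) : B ≠ ⊥ := by
  rintro rfl
  have := hyp_card hA3 hB
  rw [Subgroup.card_bot] at this
  exact absurd this (not_le_of_gt (Nat.one_lt_pow (by norm_num) hp.out.one_lt))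

theorem exists_ne_one_of_hyp (hA3 : p ^ 3 ≤ Nat.card ↥A) {B : Subgroup G} (hB : Hyp p A B) :
    ∃ b ∈ B, b ≠ (1 : G) :=
  B.bot_or_exists_ne_one.resolve_left (hyp_ne_bot hA3 hB)

theorem exists_ne_one_inf (hA3 : p ^ 3 ≤ Nat.card ↥A) {B B' : Subgroup G} (hB : Hyp p A B)
    (hB' : Hyp p A B') : ∃ f, f ∈ B ∧ f ∈ B' ∧ f ≠ (1 : G) := by
  by_contra hne
  push Not at hne
  have h1 : B ⊓ B' = ⊥ := (Subgroup.eq_bot_iff_forall _).2 fun f hf => hne f hf.1 hf.2
  have h := Subgroup.card_mul_index ((B ⊓ B').subgroupOf A)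
  rw [Nat.card_congr (Subgroup.subgroupOfEquivOfLe (inf_le_left.trans hB.1)).toEquiv, h1,
    Subgroup.card_bot, one_mul] at h
  have h2 : (B ⊓ B').relIndex A ≤ p * p := Subgroup.relIndex_inf_le.trans (Nat.mul_le_mul hB.2 hB'.2)
  rw [h1] at h2
  have h3 : Nat.card ↥A ≤ p * p := h ▸ h2
  have h4 : p * p < p ^ 3 := by
    rw [pow_succ, pow_two]
    exact lt_mul_of_one_lt_right (Nat.mul_pos hp.out.pos hp.out.pos) hp.out.one_lt
  omega

/-- An invariant `p'`-subgroup lies in `D` if all its fixed point subgroups of hyperplanes do. -/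
theorem le_of_hyp (hA : IsElementaryAbelian p A) {K D : Subgroup G}
    (hAK : A ≤ Subgroup.normalizer (K : Set G)) (hK : ¬ p ∣ Nat.card ↥K)
    (h : ∀ B, Hyp p A B → K ⊓ Subgroup.centralizer (B : Set G) ≤ D) : K ≤ D := by
  by_contra hne
  obtain ⟨B, hB, hi, hn⟩ := Balance.exists_hyperplane_not_le hA hAK
    ((hp.out.coprime_iff_not_dvd.2 hK).symm) hne
  exact hn (h B ⟨hB, hi⟩)

theorem coprime_of_not_dvd (hA : IsElementaryAbelian p A) {B K : Subgroup G} (hBA : B ≤ A)
    (hK : ¬ p ∣ Nat.card ↥K) : (Nat.card ↥B).Coprime (Nat.card ↥K) := by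
  obtain ⟨m, hm⟩ := IsPGroup.iff_card.1 ((PGroups.elemAb_isPGroup hA).to_le hBA)
  rw [hm]
  exact (hp.out.coprime_iff_not_dvd.2 hK).pow_left m

omit [Finite G] hp in
theorem commutator_mono_conj {N H : Subgroup G} (h : N ≤ H) {n x : G} (hn : n ∈ N)
    (hH : ∀ k : ℕ, H ≤ Subgroup.normalizer (Cores.derivedIn H k : Set G)) {k : ℕ}
    (hx : x ∈ Cores.derivedIn H k) : n * x * n⁻¹ ∈ Cores.derivedIn H k :=
  (Subgroup.mem_normalizer_iff.1 (hH k (h hn)) x).1 hx

/-- For `H` solvable, `⁅H, c⁆` is generated by the `⁅C_H(B), c⁆`. -/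
theorem commutator_le_hyp (hA : IsElementaryAbelian p A) {H : Subgroup G}
    (hs : Group.IsSolvable ↥H) (hH : ¬ p ∣ Nat.card ↥H) (hAH : A ≤ Subgroup.normalizer (H : Set G))
    {c : G} (hc : c ∈ A) {D : Subgroup G}
    (hD : ∀ B, Hyp p A B → ⁅H ⊓ Subgroup.centralizer (B : Set G), Subgroup.zpowers c⁆ ≤ D) :
    ⁅H, Subgroup.zpowers c⁆ ≤ D := by
  haveI := hA.1
  have hcA : Subgroup.zpowers c ≤ A := Subgroup.zpowers_le.2 hc
  set C := Subgroup.zpowers c with hC
  set H1 := ⁅H, C⁆ with hH1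
  have hH1H : H1 ≤ H := Coprime.commutator_le_of_le_normalizer (hcA.trans hAH)
  have hAH1 : A ≤ Subgroup.normalizer (H1 : Set G) :=
    Balance.le_normalizer_commutator hAH (fun a ha => Subgroup.centralizer_le_normalizer (C : Set G)
      (Subgroup.mem_centralizer_iff.2 fun b hb => PGroups.elemAb_comm hA (hcA hb) ha))
  have hH1p : ¬ p ∣ Nat.card ↥H1 := fun h => hH (h.trans (Subgroup.card_dvd_of_le hH1H))
  have hperf : ⁅H1, C⁆ = H1 :=
    Coprime.commutator_commutator_eq (hcA.trans hAH) (coprime_of_not_dvd hA hcA hH) (Or.inr hs)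
  set Δ := Cores.derivedIn H1 with hΔ
  have hΔH : ∀ k, Δ k ≤ H1 := fun k => by
    rw [hΔ, Cores.derivedIn_eq_map]; exact Subgroup.map_subtype_le _
  have hn : ∀ (L : Subgroup G), L ≤ Subgroup.normalizer (H1 : Set G) →
      ∀ k, L ≤ Subgroup.normalizer (Δ k : Set G) := by
    intro L hL k
    induction k with
    | zero => exact hL
    | succ k ih => exact Balance.le_normalizer_commutator ih ih
  set S := {B : Subgroup G | Hyp p A B}
  set N := ⨆ B ∈ S, ⁅H1 ⊓ Subgroup.centralizer (B : Set G), C⁆ with hN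
  have hNH : N ≤ H1 := iSup₂_le fun B _ => (Subgroup.commutator_mono inf_le_left le_rfl).trans
    (Coprime.commutator_le_of_le_normalizer (hcA.trans hAH1))
  have hND : N ≤ D := iSup₂_le fun B hB =>
    (Subgroup.commutator_mono (inf_le_inf_right _ hH1H) le_rfl).trans (hD B hB)
  have hCN : C ≤ Subgroup.normalizer (N : Set G) := by
    intro x hx
    refine Subgroup.mem_normalizer_iff_map_conj_eq.2 ?_
    rw [hN, Subgroup.map_iSup]
    refine iSup_congr fun B => ?_
    rw [Subgroup.map_iSup]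
    refine iSup_congr fun hB => ?_
    exact Subgroup.mem_normalizer_iff_map_conj_eq.1
      (Coprime.right_le_normalizer_commutator _ C hx)
  have key : ∀ k, H1 ≤ N ⊔ Δ k := by
    intro k
    induction k with
    | zero => exact le_sup_right
    | succ k ih =>
      set L := (N ⊓ Δ k) ⊔ Δ (k + 1) with hL
      have hLΔ : L ≤ Δ k := sup_le inf_le_right (Subgroup.commutator_le_self _)
      have hΔL : Δ k ≤ Subgroup.normalizer (L : Set G) := by
        refine le_normalizer_iff_conj_mem.2 fun d hd l hl => ?_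
        have h1 : ⁅d, l⁆ ∈ Δ (k + 1) := Subgroup.commutator_mem_commutator hd (hLΔ hl)
        have e : d * l * d⁻¹ = ⁅d, l⁆ * l := by rw [commutatorElement_def]; group
        rw [e]
        exact mul_mem (Subgroup.mem_sup_right h1) hl
      have hNL : N ≤ Subgroup.normalizer (L : Set G) := by
        intro n hn'
        refine Subgroup.mem_normalizer_iff_map_conj_eq.2 ?_
        rw [hL, Subgroup.map_sup, Subgroup.mem_normalizer_iff_map_conj_eq.1
            (hn N (hNH.trans Subgroup.le_normalizer) (k + 1) hn'),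
          Subgroup.mem_normalizer_iff_map_conj_eq.1
            (le_normalizer_inf' (Subgroup.le_normalizer (H := N))
              (hn N (hNH.trans Subgroup.le_normalizer) k) hn')]
      -- the elements of `Δ k` whose commutator with `C` lies in `L`
      let T : Subgroup G :=
        { carrier := {d | d ∈ Δ k ∧ ∀ x ∈ C, ⁅d, x⁆ ∈ L}
          one_mem' := ⟨one_mem _, fun x _ => by
            rw [show ⁅(1 : G), x⁆ = 1 by rw [commutatorElement_def]; group]; exact one_mem _⟩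
          mul_mem' := by
            rintro d d' ⟨hd, hdx⟩ ⟨hd', hdx'⟩
            refine ⟨mul_mem hd hd', fun x hx => ?_⟩
            rw [show ⁅d * d', x⁆ = d * ⁅d', x⁆ * d⁻¹ * ⁅d, x⁆ by
              simp only [commutatorElement_def]; group]
            exact mul_mem ((Subgroup.mem_normalizer_iff.1 (hΔL hd) _).1 (hdx' x hx)) (hdx x hx)
          inv_mem' := by
            rintro d ⟨hd, hdx⟩
            refine ⟨inv_mem hd, fun x hx => ?_⟩
            rw [show ⁅d⁻¹, x⁆ = d⁻¹ * ⁅d, x⁆⁻¹ * d⁻¹⁻¹ by simp only [commutatorElement_def]; group]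
            exact (Subgroup.mem_normalizer_iff.1 (hΔL (inv_mem hd)) _).1 (inv_mem (hdx x hx)) }
      have hT : Δ k ≤ T := by
        refine le_of_hyp hA (hn A hAH1 k)
          (fun h => hH1p (h.trans (Subgroup.card_dvd_of_le (hΔH k)))) fun B hB => ?_
        rintro d ⟨hd, hdB⟩
        refine ⟨hd, fun x hx => Subgroup.mem_sup_left ⟨?_, ?_⟩⟩
        · exact le_iSup₂ (f := fun B (_ : B ∈ S) => ⁅H1 ⊓ Subgroup.centralizer (B : Set G), C⁆) B hB
            (Subgroup.commutator_mem_commutator ⟨hΔH k hd, hdB⟩ hx)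
        · rw [commutatorElement_def, show d * x * d⁻¹ * x⁻¹ = d * (x * d⁻¹ * x⁻¹) by group]
          exact mul_mem hd
            ((Subgroup.mem_normalizer_iff.1 (hn A hAH1 k (hcA hx)) _).1 (inv_mem hd))
      rw [← hperf, Subgroup.commutator_le]
      intro h hh x hx
      obtain ⟨n, hn', v, hv, rfl⟩ : ∃ n ∈ N, ∃ v ∈ Δ k, n * v = h := by
        have := ih hh
        rwa [← SetLike.mem_coe, Subgroup.coe_mul_of_left_le_normalizer_right _ _
          (hn N (hNH.trans Subgroup.le_normalizer) k)] at this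
      rw [show ⁅n * v, x⁆ = n * ⁅v, x⁆ * n⁻¹ * ⁅n, x⁆ by simp only [commutatorElement_def]; group]
      refine mul_mem ?_ (Subgroup.mem_sup_left ?_)
      · exact (sup_le (inf_le_left.trans le_sup_left) le_sup_right : L ≤ N ⊔ Δ (k + 1))
          ((Subgroup.mem_normalizer_iff.1 (hNL hn') _).1 ((hT hv).2 x hx))
      · rw [commutatorElement_def, show n * x * n⁻¹ * x⁻¹ = n * (x * n⁻¹ * x⁻¹) by group]
        exact mul_mem hn' ((Subgroup.mem_normalizer_iff.1 (hCN hx) _).1 (inv_mem hn'))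
  obtain ⟨n, hn'⟩ := (Group.isSolvable_of_isSolvable_injective
    (Subgroup.inclusion_injective hH1H) : Group.IsSolvable ↥H1).solvable
  have h := key n
  rw [hΔ, Cores.derivedIn_eq_map, hn', Subgroup.map_bot, sup_bot_eq] at h
  exact h.trans hND

/-! ### Completion and the minimal counterexample -/

/-- Some member of the family contains every value. -/
def Completes (p : ℕ) (A : Subgroup G) (θ : G → Subgroup G) : Prop :=
  ∃ U ∈ signalizerFamily p A θ, ∀ a ∈ A, a ≠ 1 → θ a ≤ U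

/-- A maximal member. -/
def IsMaxMem (p : ℕ) (A : Subgroup G) (θ : G → Subgroup G) (M : Subgroup G) : Prop :=
  M ∈ signalizerFamily p A θ ∧ ∀ L ∈ signalizerFamily p A θ, M ≤ L → L = M

/-- Every member normalising `X` lies in `H`. -/
def Ctl (p : ℕ) (A : Subgroup G) (θ : G → Subgroup G) (X H : Subgroup G) : Prop :=
  ∀ L ∈ signalizerFamily p A θ, L ≤ Subgroup.normalizer (X : Set G) → L ≤ H

/-- The properties of a minimal counterexample to the completeness theorem. -/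
structure Ctx (p : ℕ) (A : Subgroup G) (θ : G → Subgroup G) : Prop where
  elem : IsElementaryAbelian p A
  card_eq : Nat.card ↥A = p ^ 3
  functor : IsSolvableSignalizerFunctor p A θ
  not_completes : ¬ Completes p A θ
  locally : ∀ X ∈ signalizerFamily p A θ, X ≠ ⊥ →
    ∃ W ∈ signalizerFamily p A θ, Ctl p A θ X W
  sub : ∀ θ' : G → Subgroup G, IsSolvableSignalizerFunctor p A θ' →
    (∀ a ∈ A, a ≠ 1 → θ' a ≤ θ a) → (∃ a ∈ A, a ≠ 1 ∧ θ' a ≠ θ a) → Completes p A θ'

omit [Finite G] hp in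
theorem Ctx.rank (h : Ctx p A θ) : p ^ 3 ≤ Nat.card ↥A := h.card_eq.ge

omit hp in
theorem exists_isMaxMem {U : Subgroup G} (hU : U ∈ signalizerFamily p A θ) :
    ∃ M, IsMaxMem p A θ M ∧ U ≤ M := by
  obtain ⟨M, hUM, hM, hmax⟩ := Finite.exists_le_maximal
    (p := fun V : Subgroup G => V ∈ signalizerFamily p A θ) (a := U) hU
  exact ⟨M, ⟨hM, fun L hL h => le_antisymm (hmax hL h) h⟩, hUM⟩

/-! ### `P*_B` and `U*_q` -/

/-- `P*_B`: elements of `θ(C(B))` lying in every `O_q(θ b)`. -/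
def pstar (q : ℕ) (θ : G → Subgroup G) (B : Subgroup G) : Subgroup G :=
  signalizerInf B θ ⊓ ⨅ b : {b : G // b ∈ B ∧ b ≠ 1}, qc q (θ b)

/-- `U*_q`. -/
def ustar (p : ℕ) (A : Subgroup G) (θ : G → Subgroup G) (q : ℕ) : Subgroup G :=
  ⨆ B ∈ {B : Subgroup G | Hyp p A B}, pstar q θ B

omit [Finite G] hp in
theorem mem_pstar {q : ℕ} {B : Subgroup G} {x : G} :
    x ∈ pstar q θ B ↔ x ∈ signalizerInf B θ ∧ ∀ b ∈ B, b ≠ 1 → x ∈ qc q (θ b) := by
  simp only [pstar, Subgroup.mem_inf, Subgroup.mem_iInf, Subtype.forall, and_imp]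

omit [Finite G] hp in
theorem pstar_le_qc {q : ℕ} {B : Subgroup G} {b : G} (hb : b ∈ B) (hb1 : b ≠ 1) :
    pstar q θ B ≤ qc q (θ b) := fun _ hx => (mem_pstar.1 hx).2 b hb hb1

omit [Finite G] hp in
theorem pstar_le_ustar {q : ℕ} {B : Subgroup G} (hB : Hyp p A B) :
    pstar q θ B ≤ ustar p A θ q :=
  le_iSup₂ (f := fun B (_ : B ∈ {B : Subgroup G | Hyp p A B}) => pstar q θ B) B hB

namespace Ctx

variable (h : Ctx p A θ) {q : ℕ} [hq : Fact q.Prime]
include h

omit hq in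
theorem mem_of_le {U V : Subgroup G} (hU : U ∈ signalizerFamily p A θ) (hVU : V ≤ U)
    (hV : A ≤ Subgroup.normalizer (V : Set G)) : V ∈ signalizerFamily p A θ :=
  mem_family_of_le hU hVU hV

omit hq in
theorem qc_mem {U : Subgroup G} (hU : U ∈ signalizerFamily p A θ) (q : ℕ) :
    qc q U ∈ signalizerFamily p A θ :=
  h.mem_of_le hU (qc_le U) ((le_normalizer_of_mem hU).trans (normalizer_le_normalizer_qc U))

omit hq in
theorem exists_ctl {X : Subgroup G} (hX : X ∈ signalizerFamily p A θ) (hX1 : X ≠ ⊥) :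
    ∃ H, IsMaxMem p A θ H ∧ Ctl p A θ X H ∧ X ≤ H := by
  obtain ⟨W, hW, hc⟩ := h.locally X hX hX1
  obtain ⟨H, hH, hWH⟩ := exists_isMaxMem hW
  exact ⟨H, hH, fun L hL hn => (hc L hL hn).trans hWH, (hc X hX Subgroup.le_normalizer).trans hWH⟩

omit hq in
theorem ctl_of_normal {X M : Subgroup G} (hM : IsMaxMem p A θ M)
    (hX : X ∈ signalizerFamily p A θ) (hX1 : X ≠ ⊥)
    (hn : M ≤ Subgroup.normalizer (X : Set G)) : Ctl p A θ X M := by
  obtain ⟨W, hW, hc⟩ := h.locally X hX hX1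
  intro L hL hLn
  exact (hc L hL hLn).trans (hM.2 W hW (hc M hM.1 hn)).le

omit hq in
theorem ctl_qc {M : Subgroup G} (hM : IsMaxMem p A θ M) {t : ℕ} (ht : qc t M ≠ ⊥) :
    Ctl p A θ (qc t M) M :=
  h.ctl_of_normal hM (h.qc_mem hM.1 t) ht (le_normalizer_qc M)

omit hq in
theorem centralizing_le {X H C : Subgroup G} (hc : Ctl p A θ X H) (hC : C ∈ signalizerFamily p A θ)
    (hCX : C ≤ Subgroup.centralizer (X : Set G)) : C ≤ H :=
  hc C hC (hCX.trans (Subgroup.centralizer_le_normalizer (X : Set G)))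

omit hq in
theorem theta_mem {a : G} (ha : a ∈ A) (ha1 : a ≠ 1) : θ a ∈ signalizerFamily p A θ :=
  theta_mem_family h.functor ha ha1

omit hq in
theorem inf_centralizer_mem {U B : Subgroup G} (hU : U ∈ signalizerFamily p A θ) (hB : B ≤ A) :
    U ⊓ Subgroup.centralizer (B : Set G) ∈ signalizerFamily p A θ :=
  h.mem_of_le hU inf_le_left
    (le_normalizer_inf' (le_normalizer_of_mem hU) (le_normalizer_centralizer_of_comm h.elem hB))

omit hq in
theorem le_of_hyp_mem {U D : Subgroup G} (hU : U ∈ signalizerFamily p A θ)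
    (hD : ∀ B, Hyp p A B → U ⊓ Subgroup.centralizer (B : Set G) ≤ D) : U ≤ D :=
  le_of_hyp h.elem (le_normalizer_of_mem hU) hU.2.1 hD

omit hq in
theorem theta_le_of_hyp {b : G} (hb : b ∈ A) (hb1 : b ≠ 1) {D : Subgroup G}
    (hD : ∀ B, Hyp p A B → b ∈ B → signalizerInf B θ ≤ D) : θ b ≤ D := by
  refine h.le_of_hyp_mem (h.theta_mem hb hb1) fun B hB => ?_
  rintro x ⟨hxb, hxB⟩
  by_cases hbB : b ∈ B
  · exact hD B hB hbB (inf_centralizer_le_signalizerInf (h.theta_mem hb hb1) hB.1 ⟨hxb, hxB⟩)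
  · -- then `x` centralises `A`
    have hgen : A ≤ Subgroup.centralizer {x} := by
      intro a ha
      have hzb : B < B ⊔ Subgroup.zpowers b := lt_of_le_of_ne le_sup_left fun e => hbB (by
        rw [e]; exact Subgroup.mem_sup_right (Subgroup.mem_zpowers b))
      have htop : B ⊔ Subgroup.zpowers b = A := by
        have hle : B ⊔ Subgroup.zpowers b ≤ A := sup_le hB.1 (Subgroup.zpowers_le.2 hb)
        refine Subgroup.eq_of_le_of_card_ge hle ?_
        have h1 := Subgroup.card_mul_index (B.subgroupOf A)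
        rw [Nat.card_congr (Subgroup.subgroupOfEquivOfLe hB.1).toEquiv] at h1
        obtain ⟨m, hm⟩ := IsPGroup.iff_card.1 ((PGroups.elemAb_isPGroup h.elem).to_le hB.1)
        obtain ⟨n, hn⟩ := IsPGroup.iff_card.1 ((PGroups.elemAb_isPGroup h.elem).to_le hle)
        have hlt : Nat.card ↥B < Nat.card ↥(B ⊔ Subgroup.zpowers b) :=
          lt_of_not_ge fun hge => hzb.ne (Subgroup.eq_of_le_of_card_ge le_sup_left hge)
        rw [hm, hn] at hlt
        have hmn : m < n := (Nat.pow_lt_pow_iff_right hp.out.one_lt).1 hlt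
        calc Nat.card ↥A = Nat.card ↥B * B.relIndex A := h1.symm
          _ ≤ p ^ m * p := by rw [hm]; exact Nat.mul_le_mul_left _ hB.2
          _ = p ^ (m + 1) := (pow_succ p m).symm
          _ ≤ _ := by rw [hn]; exact Nat.pow_le_pow_right hp.out.pos hmn
      rw [← htop] at ha
      refine (sup_le (fun y hy => ?_) ?_ : B ⊔ Subgroup.zpowers b ≤ Subgroup.centralizer {x}) ha
      · exact Subgroup.mem_centralizer_singleton_iff.2 (Subgroup.mem_centralizer_iff.1 hxB y hy)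
      · rw [Subgroup.zpowers_le, Subgroup.mem_centralizer_singleton_iff]
        exact (commute_theta h.functor.1 hb hb1 hxb).symm
    refine hD A hyp_self hb (inf_centralizer_le_signalizerInf (h.theta_mem hb hb1) le_rfl
      ⟨hxb, Subgroup.mem_centralizer_iff.2 fun a ha => ?_⟩)
    exact Subgroup.mem_centralizer_singleton_iff.1 (hgen ha)

omit hq in
theorem ne_of_dvd {U : Subgroup G} (hU : U ∈ signalizerFamily p A θ) {q : ℕ}
    (hd : q ∣ Nat.card ↥U) : q ≠ p := fun e => hU.2.1 (e ▸ hd)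

theorem qc_dvd {U : Subgroup G} (hne : qc q U ≠ ⊥) : q ∣ Nat.card ↥U := by
  obtain ⟨n, hn⟩ := IsPGroup.iff_card.1 (qc_isPGroup (q := q) U)
  rcases Nat.eq_zero_or_pos n with rfl | hpos
  · rw [pow_zero] at hn; exact absurd (Subgroup.eq_bot_of_card_eq _ hn) hne
  · exact (dvd_pow_self q hpos.ne').trans (hn ▸ Subgroup.card_dvd_of_le (qc_le U))

/-- A `q`-member normalised by `⋂ θ a` lies in every maximal `q`-member. -/
theorem le_maxQ (hqp : q ≠ p) {R Q : Subgroup G} (hR : R ∈ signalizerFamily p A θ)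
    (hRq : IsPGroup q ↥R) (hK : signalizerInf A θ ≤ Subgroup.normalizer (R : Set G))
    (hQ : IsMaxQ p A θ q Q) : R ≤ Q := by
  obtain ⟨Q', hQ', hle⟩ := exists_maxQ hR hRq
  obtain ⟨c, hc, e⟩ := maxQ_conj h.elem h.rank h.functor hqp Q' Q hQ' hQ
  rw [← map_conj_eq_self (hK hc), ← e]
  exact Subgroup.map_mono hle

theorem qc_theta_le_maxQ (hqp : q ≠ p) {b : G} (hb : b ∈ A) (hb1 : b ≠ 1) {Q : Subgroup G}
    (hQ : IsMaxQ p A θ q Q) : qc q (θ b) ≤ Q :=
  h.le_maxQ hqp (h.qc_mem (h.theta_mem hb hb1) q) (qc_isPGroup _)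
    ((signalizerInf_le_normalizer_theta hb hb1).trans (normalizer_le_normalizer_qc _)) hQ

omit hq in
theorem pstar_mem {B : Subgroup G} (hB : Hyp p A B) :
    pstar q θ B ∈ signalizerFamily p A θ := by
  obtain ⟨b, hb, hb1⟩ := exists_ne_one_of_hyp h.rank hB
  refine h.mem_of_le (h.qc_mem (h.theta_mem (hB.1 hb) hb1) q) (pstar_le_qc hb hb1)
    (le_normalizer_iff_conj_mem.2 fun a ha x hx => mem_pstar.2 ⟨?_, fun c hc hc1 => ?_⟩)
  · exact (signalizerInf_mem_family h.functor hB.1 (hyp_ne_bot h.rank hB)).2.2.1 a ha x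
      (mem_pstar.1 hx).1
  · exact (h.qc_mem (h.theta_mem (hB.1 hc) hc1) q).2.2.1 a ha x ((mem_pstar.1 hx).2 c hc hc1)

theorem ustar_le_maxQ (hqp : q ≠ p) {Q : Subgroup G} (hQ : IsMaxQ p A θ q Q) :
    ustar p A θ q ≤ Q := iSup₂_le fun B hB => by
  obtain ⟨b, hb, hb1⟩ := exists_ne_one_of_hyp h.rank hB
  exact (pstar_le_qc hb hb1).trans (h.qc_theta_le_maxQ hqp (hB.1 hb) hb1 hQ)

theorem exists_maxQ' (q : ℕ) : ∃ Q, IsMaxQ p A θ q Q :=
  (exists_maxQ (bot_mem_family (θ := θ) (A := A) hp.out.ne_one)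
    (IsPGroup.of_bot (p := q))).imp fun _ hQ => hQ.1

omit hq in
theorem ustar_normalizer : A ≤ Subgroup.normalizer (ustar p A θ q : Set G) := by
  intro a ha
  refine Subgroup.mem_normalizer_iff_map_conj_eq.2 ?_
  rw [ustar, Subgroup.map_iSup]
  refine iSup_congr fun B => ?_
  rw [Subgroup.map_iSup]
  exact iSup_congr fun hB =>
    Subgroup.mem_normalizer_iff_map_conj_eq.1 (le_normalizer_of_mem (h.pstar_mem hB) ha)

theorem ustar_mem (hqp : q ≠ p) :
    ustar p A θ q ∈ signalizerFamily p A θ ∧ IsPGroup q ↥(ustar p A θ q) := by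
  obtain ⟨Q, hQ⟩ := h.exists_maxQ' q
  exact ⟨h.mem_of_le hQ.1 (h.ustar_le_maxQ hqp hQ) h.ustar_normalizer,
    hQ.2.1.to_le (h.ustar_le_maxQ hqp hQ)⟩

/-- Distinct `U*` commute elementwise. -/
theorem ustar_commute {r : ℕ} [Fact r.Prime] (hne : q ≠ r) :
    ustar p A θ q ≤ Subgroup.centralizer (ustar p A θ r : Set G) := by
  refine iSup₂_le fun B hB => ?_
  rw [Subgroup.le_centralizer_iff]
  refine iSup₂_le fun B' hB' => ?_
  intro y hy
  refine Subgroup.mem_centralizer_iff.2 fun x hx => ?_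
  obtain ⟨f, hf, hf', hf1⟩ := exists_ne_one_inf h.rank hB hB'
  obtain ⟨x', hx', rfl⟩ := pstar_le_qc hf hf1 hx
  obtain ⟨y', hy', rfl⟩ := pstar_le_qc hf' hf1 hy
  exact congrArg Subtype.val (Subgroup.commute_of_normal_of_disjoint (pCore q ↥(θ f)) (pCore r ↥(θ f))
    inferInstance inferInstance (IsPGroup.disjoint_of_ne q r hne _ _ (Cores.pCore_isPGroup q)
    (Cores.pCore_isPGroup r)) _ _ hx' hy').eq

/-- An element of `P*_B` lies in `O_q` of every member containing it. -/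
theorem pstar_mem_qc {B : Subgroup G} (hB : Hyp p A B) {H : Subgroup G}
    (hH : H ∈ signalizerFamily p A θ) {x : G} (hx : x ∈ pstar q θ B) (hxH : x ∈ H) :
    x ∈ qc q H := by
  haveI := (hyp_elem h.elem hB).1
  obtain ⟨b, hb, hb1⟩ := exists_ne_one_of_hyp h.rank hB
  refine mem_qc_of_fixed hH.1 (hyp_not_cyclic h.elem h.rank hB) (hB.1.trans (le_normalizer_of_mem hH))
    (coprime_of_not_dvd h.elem hB.1 hH.2.1) hxH ?_ fun c hc hc1 => ⟨qc q (θ c), qc_isPGroup _, ?_⟩
  · obtain ⟨k, hk⟩ := qc_isPGroup (q := q) (θ b) ⟨x, pstar_le_qc hb hb1 hx⟩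
    exact ⟨k, by simpa using congrArg Subtype.val hk⟩
  · intro w hw hwc
    have hwθ : w ∈ θ c := hH.2.2.2 c (hB.1 hc) hc1 ⟨hw, Subgroup.mem_centralizer_singleton_iff.2 hwc⟩
    have hxq := pstar_le_qc hc hc1 hx
    rw [commutatorElement_def, show x * w * x⁻¹ * w⁻¹ = x * (w * x⁻¹ * w⁻¹) by group]
    exact mul_mem hxq ((Subgroup.mem_normalizer_iff.1 (le_normalizer_qc _ hwθ) _).1 (inv_mem hxq))

theorem ustar_le_qc {H : Subgroup G} (hH : H ∈ signalizerFamily p A θ) (hle : ustar p A θ q ≤ H) :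
    ustar p A θ q ≤ qc q H :=
  iSup₂_le fun _ hB x hx => h.pstar_mem_qc hB hH hx (hle (pstar_le_ustar hB hx))

omit hq in
/-- A member whose pieces `C_P(B)` lie in the `O_q(θ b)` lies in `U*_q`. -/
theorem le_ustar_of_pieces {P : Subgroup G} (hP : P ∈ signalizerFamily p A θ)
    (hB : ∀ B, Hyp p A B → ∀ b ∈ B, b ≠ 1 → P ⊓ Subgroup.centralizer (B : Set G) ≤ qc q (θ b)) :
    P ≤ ustar p A θ q :=
  h.le_of_hyp_mem hP fun B hBh _ hx => pstar_le_ustar hBh (mem_pstar.2
    ⟨inf_centralizer_le_signalizerInf hP hBh.1 hx, fun b hb hb1 => hB B hBh b hb hb1 hx⟩)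

/-- A `q`-member `Y` normalised by `θ a` has `⁅Y, a⁆ ≤ U*_q`, for `q` odd or abelian pieces. -/
theorem commutator_le_ustar {Y : Subgroup G} (hY : Y ∈ signalizerFamily p A θ) (hYq : IsPGroup q ↥Y)
    (hqp : q ≠ p) {a : G} (ha : a ∈ A) (ha1 : a ≠ 1) (hn : θ a ≤ Subgroup.normalizer (Y : Set G))
    (hq2 : q ≠ 2 ∨ ∀ B, Hyp p A B →
      IsMulCommutative ↥(⁅Y ⊓ Subgroup.centralizer (B : Set G), Subgroup.zpowers a⁆)) :
    ⁅Y, Subgroup.zpowers a⁆ ≤ ustar p A θ q := by
  haveI := h.elem.1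
  have haA : Subgroup.zpowers a ≤ A := Subgroup.zpowers_le.2 ha
  refine commutator_le_hyp h.elem hY.1 hY.2.1 (le_normalizer_of_mem hY) ha fun B hB => ?_
  have hC := h.inf_centralizer_mem hY hB.1
  have hPle := Coprime.commutator_le_of_le_normalizer (haA.trans (le_normalizer_of_mem hC))
  intro x hx
  refine pstar_le_ustar hB (mem_pstar.2 ⟨inf_centralizer_le_signalizerInf hY hB.1 (hPle hx),
    fun b hb hb1 => ?_⟩)
  have hbθ := h.theta_mem (hB.1 hb) hb1
  have hle : Y ⊓ Subgroup.centralizer (B : Set G) ≤ Y ⊓ θ b := le_inf inf_le_left fun y hy =>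
    hY.2.2.2 b (hB.1 hb) hb1
      ⟨hy.1, Subgroup.mem_centralizer_singleton_iff.2 (Subgroup.mem_centralizer_iff.1 hy.2 b hb).symm⟩
  have hperf := Coprime.commutator_commutator_eq (haA.trans (le_normalizer_of_mem hC))
    (coprime_of_not_dvd h.elem haA hC.2.1) (Or.inr hC.1)
  refine (comm_mem_qc (P := ⁅Y ⊓ Subgroup.centralizer (B : Set G), Subgroup.zpowers a⁆)
    (P' := Y ⊓ θ b) hbθ.1 hbθ.2.1 hqp.symm (PGroups.elemAb_pow h.elem ha)
    (le_normalizer_of_mem hbθ ha) (hq2.imp_right fun h2 => h2 B hB)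
    ((hPle.trans hle).trans inf_le_right)
    (Coprime.right_le_normalizer_commutator _ _ (Subgroup.mem_zpowers a))
    (hYq.to_le inf_le_left) (hPle.trans hle) ?_) (hperf.ge hx)
  rintro w ⟨hwb, hwa⟩
  rw [Subgroup.mem_normalizer_iff_map_conj_eq, Subgroup.map_inf _ _ _ (MulAut.conj w).injective,
    Subgroup.mem_normalizer_iff_map_conj_eq.1
      (hn (balance h.functor.1 (hB.1 hb) hb1 ha ha1 ⟨hwb, hwa⟩)),
    Subgroup.mem_normalizer_iff_map_conj_eq.1 (Subgroup.le_normalizer hwb)]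

theorem ne_p_of_qc {H : Subgroup G} (hH : H ∈ signalizerFamily p A θ) (hne : qc q H ≠ ⊥) : q ≠ p :=
  h.ne_of_dvd hH (h.qc_dvd hne)

/-- If `H ≥ θ a` and `q` is odd then `⁅O_q(H), a⁆ ≤ U*_q`. -/
theorem commutator_qc_le_ustar {H : Subgroup G} (hH : H ∈ signalizerFamily p A θ) {a : G}
    (ha : a ∈ A) (ha1 : a ≠ 1) (hq2 : q ≠ 2) (haH : θ a ≤ H) :
    ⁅qc q H, Subgroup.zpowers a⁆ ≤ ustar p A θ q := by
  rcases eq_or_ne (qc q H) ⊥ with hbot | hne
  · rw [hbot, Subgroup.commutator_bot_left]; exact bot_le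
  exact h.commutator_le_ustar (h.qc_mem hH q) (qc_isPGroup H) (h.ne_p_of_qc hH hne) ha ha1
    (haH.trans (le_normalizer_qc H)) (Or.inl hq2)

end Ctx

end Cfsg.Agent.Lib.Signalizer
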