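import Mathlib
import Cfsg.Prelude.Def_Balance

/-!
# Signalizer functors: elementary API

`θ` is an `A`-signalizer functor, `signalizerFamily p A θ` its family of solvable `A`-invariant
`p'`-subgroups. Results here need no coprime action.
-/

set_option autoImplicit false
set_option linter.style.haveILetI false

namespace Cfsg.Agent.Lib.Signalizer

open Cfsg

variable {G : Type*} [Group G] {p : ℕ} {A B : Subgroup G} {θ : G → Subgroup G}

theorem mem_family_iff {U : Subgroup G} :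
    U ∈ signalizerFamily p A θ ↔ Group.IsSolvable ↥U ∧ ¬ p ∣ Nat.card ↥U ∧
      (∀ b ∈ A, ∀ u ∈ U, b * u * b⁻¹ ∈ U) ∧
      ∀ a ∈ A, a ≠ 1 → U ⊓ Subgroup.centralizer {a} ≤ θ a :=
  Iff.rfl

/-- Invariance under conjugation, as a normalizer. -/
theorem le_normalizer_iff_conj_mem {K U : Subgroup G} :
    K ≤ Subgroup.normalizer (U : Set G) ↔ ∀ b ∈ K, ∀ u ∈ U, b * u * b⁻¹ ∈ U := by
  constructor
  · intro h b hb u hu
    exact (Subgroup.mem_normalizer_iff.1 (h hb) u).1 hu
  · intro h b hb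
    refine Subgroup.mem_normalizer_iff.2 fun u => ⟨h b hb u, fun hu => ?_⟩
    simpa [mul_assoc] using h b⁻¹ (K.inv_mem hb) _ hu

theorem le_normalizer_of_mem {U : Subgroup G} (hU : U ∈ signalizerFamily p A θ) :
    A ≤ Subgroup.normalizer (U : Set G) :=
  le_normalizer_iff_conj_mem.2 hU.2.2.1

/-! ### The values -/

section functor

variable (hθ : IsSignalizerFunctor p A θ) {a b : G}
include hθ

theorem theta_le_centralizer (ha : a ∈ A) (ha1 : a ≠ 1) : θ a ≤ Subgroup.centralizer {a} :=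
  hθ.1 a ha ha1

theorem not_dvd_card_theta (ha : a ∈ A) (ha1 : a ≠ 1) : ¬ p ∣ Nat.card (θ a) :=
  hθ.2.1 a ha ha1

theorem le_normalizer_theta (ha : a ∈ A) (ha1 : a ≠ 1) :
    A ≤ Subgroup.normalizer (θ a : Set G) :=
  le_normalizer_iff_conj_mem.2 (hθ.2.2.1 a ha ha1)

theorem balance (ha : a ∈ A) (ha1 : a ≠ 1) (hb : b ∈ A) (hb1 : b ≠ 1) :
    θ a ⊓ Subgroup.centralizer {b} ≤ θ b :=
  hθ.2.2.2 a ha ha1 b hb hb1

theorem theta_inf_centralizer_comm (ha : a ∈ A) (ha1 : a ≠ 1) (hb : b ∈ A) (hb1 : b ≠ 1) :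
    θ a ⊓ Subgroup.centralizer {b} = θ b ⊓ Subgroup.centralizer {a} :=
  le_antisymm
    (le_inf (balance hθ ha ha1 hb hb1) (inf_le_left.trans (theta_le_centralizer hθ ha ha1)))
    (le_inf (balance hθ hb hb1 ha ha1) (inf_le_left.trans (theta_le_centralizer hθ hb hb1)))

theorem mem_theta_of_commute (ha : a ∈ A) (ha1 : a ≠ 1) (hb : b ∈ A) (hb1 : b ≠ 1) {x : G}
    (hx : x ∈ θ a) (hxb : b * x = x * b) : x ∈ θ b :=
  balance hθ ha ha1 hb hb1 ⟨hx, Subgroup.mem_centralizer_singleton_iff.2 hxb.symm⟩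

theorem commute_theta (ha : a ∈ A) (ha1 : a ≠ 1) {x : G} (hx : x ∈ θ a) : x * a = a * x :=
  Subgroup.mem_centralizer_singleton_iff.1 (theta_le_centralizer hθ ha ha1 hx)

end functor

theorem signalizerFunctor_of_solvable (hθ : IsSolvableSignalizerFunctor p A θ) :
    IsSignalizerFunctor p A θ :=
  hθ.1

/-- Each value of a solvable signalizer functor is a member of the family. -/
theorem theta_mem_family (hθ : IsSolvableSignalizerFunctor p A θ) {a : G} (ha : a ∈ A)
    (ha1 : a ≠ 1) : θ a ∈ signalizerFamily p A θ :=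
  ⟨hθ.2 a ha ha1, hθ.1.2.1 a ha ha1, hθ.1.2.2.1 a ha ha1,
    fun _ hb hb1 => balance hθ.1 ha ha1 hb hb1⟩

/-- An `A`-invariant subgroup of a member is a member. -/
theorem mem_family_of_le {U V : Subgroup G} (hU : U ∈ signalizerFamily p A θ) (hVU : V ≤ U)
    (hV : A ≤ Subgroup.normalizer (V : Set G)) : V ∈ signalizerFamily p A θ := by
  haveI := hU.1
  refine ⟨Group.isSolvable_of_isSolvable_injective (Subgroup.inclusion_injective hVU),
    fun h => hU.2.1 (h.trans (Subgroup.card_dvd_of_le hVU)), le_normalizer_iff_conj_mem.1 hV,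
    fun a ha ha1 => (inf_le_inf_right _ hVU).trans (hU.2.2.2 a ha ha1)⟩

theorem bot_mem_family (hp : p ≠ 1) : (⊥ : Subgroup G) ∈ signalizerFamily p A θ := by
  refine ⟨inferInstance, by simpa using hp, ?_, fun a _ _ => inf_le_left.trans bot_le⟩
  intro b _ u hu
  rw [Subgroup.mem_bot.1 hu]; simp

/-! ### `signalizerInf` -/

theorem mem_signalizerInf_iff {x : G} :
    x ∈ signalizerInf B θ ↔ ∀ b ∈ B, b ≠ 1 → x ∈ θ b := by
  simp only [signalizerInf, Subgroup.mem_iInf, Subtype.forall, and_imp]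

theorem signalizerInf_anti {B' : Subgroup G} (h : B ≤ B') :
    signalizerInf B' θ ≤ signalizerInf B θ := fun _ hx =>
  mem_signalizerInf_iff.2 fun b hb hb1 => mem_signalizerInf_iff.1 hx b (h hb) hb1

theorem signalizerInf_le {b : G} (hb : b ∈ B) (hb1 : b ≠ 1) : signalizerInf B θ ≤ θ b :=
  fun _ hx => mem_signalizerInf_iff.1 hx b hb hb1

/-- `⋂_{b ∈ B#} θ b = θ a ∩ C(B)` for `a ∈ B#`. -/
theorem signalizerInf_eq (hθ : IsSignalizerFunctor p A θ) (hBA : B ≤ A) {a : G} (ha : a ∈ B)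
    (ha1 : a ≠ 1) : signalizerInf B θ = θ a ⊓ Subgroup.centralizer (B : Set G) := by
  apply le_antisymm
  · refine le_inf (signalizerInf_le ha ha1) fun x hx => Subgroup.mem_centralizer_iff.2 fun b hb => ?_
    rcases eq_or_ne b 1 with rfl | hb1
    · simp
    · exact (commute_theta hθ (hBA hb) hb1 (mem_signalizerInf_iff.1 hx b hb hb1)).symm
  · rintro x ⟨hxa, hxB⟩
    exact mem_signalizerInf_iff.2 fun b hb hb1 =>
      mem_theta_of_commute hθ (hBA ha) ha1 (hBA hb) hb1 hxa
        (Subgroup.mem_centralizer_iff.1 hxB b hb)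

/-- A member meets `C(B)` inside `⋂_{b ∈ B#} θ b`. -/
theorem inf_centralizer_le_signalizerInf {U : Subgroup G} (hU : U ∈ signalizerFamily p A θ)
    (hBA : B ≤ A) : U ⊓ Subgroup.centralizer (B : Set G) ≤ signalizerInf B θ := by
  rintro x ⟨hxU, hxB⟩
  exact mem_signalizerInf_iff.2 fun b hb hb1 => hU.2.2.2 b (hBA hb) hb1
    ⟨hxU, Subgroup.mem_centralizer_singleton_iff.2 (Subgroup.mem_centralizer_iff.1 hxB b hb).symm⟩

theorem signalizerInf_mem_family (hθ : IsSolvableSignalizerFunctor p A θ)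
    (hBA : B ≤ A) (hB : B ≠ ⊥) :
    signalizerInf B θ ∈ signalizerFamily p A θ := by
  obtain ⟨a, ha, ha1⟩ : ∃ a ∈ B, a ≠ (1 : G) := by
    by_contra h
    push Not at h
    exact hB ((Subgroup.eq_bot_iff_forall _).2 h)
  refine mem_family_of_le (theta_mem_family hθ (hBA ha) ha1) (signalizerInf_le ha ha1) ?_
  refine le_normalizer_iff_conj_mem.2 fun b hb u hu =>
    mem_signalizerInf_iff.2 fun c hc hc1 => ?_
  exact hθ.1.2.2.1 c (hBA hc) hc1 b hb u (mem_signalizerInf_iff.1 hu c hc hc1)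

theorem signalizerInf_commute (hθ : IsSignalizerFunctor p A θ) {c a : G}
    (hc : c ∈ signalizerInf A θ) (ha : a ∈ A) : c * a = a * c := by
  rcases eq_or_ne a 1 with rfl | ha1
  · simp
  · exact commute_theta hθ ha ha1 (mem_signalizerInf_iff.1 hc a ha ha1)

/-- `⋂ θ a` normalises every `θ a`. -/
theorem signalizerInf_le_normalizer_theta {a : G} (ha : a ∈ A) (ha1 : a ≠ 1) :
    signalizerInf A θ ≤ Subgroup.normalizer (θ a : Set G) :=
  (signalizerInf_le ha ha1).trans Subgroup.le_normalizer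

/-- A conjugate of a member by an element of `⋂ θ a` is a member. -/
theorem conj_mem_family (hθ : IsSignalizerFunctor p A θ) {U : Subgroup G}
    (hU : U ∈ signalizerFamily p A θ) {c : G} (hc : c ∈ signalizerInf A θ) :
    U.map (MulAut.conj c).toMonoidHom ∈ signalizerFamily p A θ := by
  have hinj : Function.Injective (MulAut.conj c).toMonoidHom := (MulAut.conj c).injective
  refine ⟨?_, ?_, ?_, ?_⟩
  · haveI := hU.1
    exact Group.isSolvable_of_surjective ((MulAut.conj c).toMonoidHom.subgroupMap_surjective U)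
  · rw [Subgroup.card_map_of_injective hinj]; exact hU.2.1
  · rintro b hb _ ⟨u, hu, rfl⟩
    refine ⟨b * u * b⁻¹, hU.2.2.1 b hb u hu, ?_⟩
    have h : Commute c b := signalizerInf_commute hθ hc hb
    simp only [MulEquiv.coe_toMonoidHom, MulAut.conj_apply]
    calc c * (b * u * b⁻¹) * c⁻¹ = (c * b) * u * (b⁻¹ * c⁻¹) := by group
      _ = (b * c) * u * (c⁻¹ * b⁻¹) := by rw [h.eq, h.inv_inv.eq]
      _ = b * (c * u * c⁻¹) * b⁻¹ := by group
  · rintro a ha ha1 _ ⟨⟨u, hu, rfl⟩, hcen⟩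
    have h : Commute c a := signalizerInf_commute hθ hc ha
    have h1 := Subgroup.mem_centralizer_singleton_iff.1 hcen
    simp only [MulEquiv.coe_toMonoidHom, MulAut.conj_apply] at h1 ⊢
    have h2 : u * a = a * u := by
      have h3 : c * (u * a) * c⁻¹ = c * (a * u) * c⁻¹ := by
        calc c * (u * a) * c⁻¹ = c * u * c⁻¹ * (c * a * c⁻¹) := by group
          _ = c * u * c⁻¹ * a := by rw [h.eq, mul_inv_cancel_right]
          _ = a * (c * u * c⁻¹) := h1
          _ = c * a * c⁻¹ * (c * u * c⁻¹) := by rw [h.eq, mul_inv_cancel_right]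
          _ = c * (a * u) * c⁻¹ := by group
      simpa using h3
    exact (Subgroup.mem_normalizer_iff.1 (signalizerInf_le_normalizer_theta ha ha1 hc) u).1
      (hU.2.2.2 a ha ha1 ⟨hu, Subgroup.mem_centralizer_singleton_iff.2 h2⟩)

/-- A member containing all values witnesses completeness. -/
theorem complete_of_member (hθ : IsSignalizerFunctor p A θ) {X : Subgroup G}
    (hX : X ∈ signalizerFamily p A θ) (hle : ∀ a ∈ A, a ≠ 1 → θ a ≤ X) :
    IsCompleteSignalizerFunctor p A θ :=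
  ⟨hθ, X, hX.2.2.1, hX.2.1, fun a ha ha1 =>
    le_antisymm (hX.2.2.2 a ha ha1) (le_inf (hle a ha ha1) (theta_le_centralizer hθ ha ha1))⟩

/-- The restriction to an `A`-invariant subgroup `H`. -/
theorem isSignalizerFunctor_inf (hθ : IsSignalizerFunctor p A θ) {H : Subgroup G}
    (hH : A ≤ Subgroup.normalizer (H : Set G)) :
    IsSignalizerFunctor p A (fun a => θ a ⊓ H) := by
  refine ⟨fun a ha ha1 => inf_le_left.trans (theta_le_centralizer hθ ha ha1),
    fun a ha ha1 h => not_dvd_card_theta hθ ha ha1 (h.trans (Subgroup.card_dvd_of_le inf_le_left)),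
    fun a ha ha1 b hb x hx => ⟨hθ.2.2.1 a ha ha1 b hb x hx.1,
      le_normalizer_iff_conj_mem.1 hH b hb x hx.2⟩, ?_⟩
  rintro a ha ha1 b hb hb1 x ⟨⟨hxa, hxH⟩, hxb⟩
  exact ⟨balance hθ ha ha1 hb hb1 ⟨hxa, hxb⟩, hxH⟩

theorem isSolvableSignalizerFunctor_inf (hθ : IsSolvableSignalizerFunctor p A θ) {H : Subgroup G}
    (hH : A ≤ Subgroup.normalizer (H : Set G)) :
    IsSolvableSignalizerFunctor p A (fun a => θ a ⊓ H) := by
  refine ⟨isSignalizerFunctor_inf hθ.1 hH, fun a ha ha1 => ?_⟩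
  haveI := hθ.2 a ha ha1
  exact Group.isSolvable_of_isSolvable_injective (Subgroup.inclusion_injective inf_le_left)

end Cfsg.Agent.Lib.Signalizer
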