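import Cfsg.Agent.Lib.Signalizer.Pencil
import Cfsg.Agent.Lib.Balance.Locals

/-!
# The maximal members attached to the points of `A`

Owner: helper33. Namespace `Cfsg.Agent.Lib.Signalizer`.
* `Ctx.qc_le_qc`: Bender's comparison of the cores of two members;
* `Ctx.exists_moved`, `Ctx.exists_ctl_mv`: each `a` moves some core, whose member has a controller;
* `Ctx.qc_centralizes_ustar`: the cores for other primes centralise `U*_q`.
-/

set_option autoImplicit false
set_option linter.style.haveILetI false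
set_option linter.unusedSectionVars false

open Cfsg
open scoped commutatorElement

namespace Cfsg.Agent.Lib.Signalizer

variable {G : Type*} [Group G] [Finite G] {p : ℕ} [hp : Fact p.Prime] {A : Subgroup G}
  {θ : G → Subgroup G}

/-- `⁅O_t(M), a⁆`. -/
def mv (t : ℕ) (M : Subgroup G) (a : G) : Subgroup G := ⁅qc t M, Subgroup.zpowers a⁆

theorem qc_eq_bot_of_not_dvd {t : ℕ} [ht : Fact t.Prime] {U : Subgroup G}
    (h : ¬ t ∣ Nat.card ↥U) : qc t U = ⊥ := by
  by_contra hne
  obtain ⟨n, hn⟩ := IsPGroup.iff_card.1 (qc_isPGroup (q := t) U)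
  rcases Nat.eq_zero_or_pos n with rfl | hpos
  · rw [pow_zero] at hn; exact hne (Subgroup.eq_bot_of_card_eq _ hn)
  · exact h ((dvd_pow_self t hpos.ne').trans (hn ▸ Subgroup.card_dvd_of_le (qc_le U)))

namespace Ctx

variable (h : Ctx p A θ)
include h

theorem qc_p (U : Subgroup G) (hU : U ∈ signalizerFamily p A θ) : qc p U = ⊥ :=
  qc_eq_bot_of_not_dvd hU.2.1

theorem ustar_mem' {q : ℕ} [hq : Fact q.Prime] :
    ustar p A θ q ∈ signalizerFamily p A θ ∧ IsPGroup q ↥(ustar p A θ q) := by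
  rcases eq_or_ne q p with rfl | hqp
  · have hb : ustar q A θ q = ⊥ := le_bot_iff.1 (iSup₂_le fun B hB => by
      obtain ⟨b, hb, hb1⟩ := exists_ne_one_of_hyp h.rank hB
      rw [← h.qc_p (θ b) (h.theta_mem (hB.1 hb) hb1)]
      exact pstar_le_qc hb hb1)
    rw [hb]
    exact ⟨bot_mem_family hp.out.ne_one, IsPGroup.of_bot⟩
  · exact h.ustar_mem hqp

theorem zpowers_le {a : G} (ha : a ∈ A) : Subgroup.zpowers a ≤ A := Subgroup.zpowers_le.2 ha

theorem mv_le {t : ℕ} {M : Subgroup G} (hM : M ∈ signalizerFamily p A θ) {a : G} (ha : a ∈ A) :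
    mv t M a ≤ qc t M :=
  Coprime.commutator_le_of_le_normalizer
    ((h.zpowers_le ha).trans (le_normalizer_of_mem (h.qc_mem hM t)))

theorem mv_mem {t : ℕ} {M : Subgroup G} (hM : M ∈ signalizerFamily p A θ) {a : G} (ha : a ∈ A) :
    mv t M a ∈ signalizerFamily p A θ :=
  h.mem_of_le (h.qc_mem hM t) (h.mv_le hM ha)
    (Balance.le_normalizer_commutator (le_normalizer_of_mem (h.qc_mem hM t))
      (h.le_normalizer_zpowers ha))

theorem mv_mv {t : ℕ} {M : Subgroup G} (hM : M ∈ signalizerFamily p A θ) {a : G} (ha : a ∈ A) :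
    ⁅mv t M a, Subgroup.zpowers a⁆ = mv t M a :=
  Coprime.commutator_commutator_eq ((h.zpowers_le ha).trans (le_normalizer_of_mem (h.qc_mem hM t)))
    (coprime_of_not_dvd h.elem (h.zpowers_le ha) (h.qc_mem hM t).2.1) (Or.inr (h.qc_mem hM t).1)

/-- `O_t(M)` lies in a member containing `⁅O_t(M), a⁆` and `θ a`. -/
theorem qc_le_of_mv {t : ℕ} {M L : Subgroup G} (hM : M ∈ signalizerFamily p A θ) {a : G}
    (ha : a ∈ A) (ha1 : a ≠ 1) (hL : mv t M a ≤ L) (haL : θ a ≤ L) : qc t M ≤ L := by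
  rw [← Coprime.commutator_sup_centralizer
    ((h.zpowers_le ha).trans (le_normalizer_of_mem (h.qc_mem hM t)))
    (coprime_of_not_dvd h.elem (h.zpowers_le ha) (h.qc_mem hM t).2.1) (Or.inr (h.qc_mem hM t).1)]
  refine sup_le hL fun x hx => haL ((h.qc_mem hM t).2.2.2 a ha ha1 ⟨hx.1, ?_⟩)
  exact Subgroup.mem_centralizer_singleton_iff.2
    (Subgroup.mem_centralizer_iff.1 hx.2 a (Subgroup.mem_zpowers a)).symm

variable {q : ℕ} [hq : Fact q.Prime]

theorem mv_le_ustar {M : Subgroup G} (hM : M ∈ signalizerFamily p A θ) {a : G}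
    (ha : a ∈ A) (ha1 : a ≠ 1) (hq2 : q ≠ 2) (haM : θ a ≤ M) : mv q M a ≤ ustar p A θ q :=
  h.commutator_qc_le_ustar hM ha ha1 hq2 haM

/-- Cores of two members, each in the other, for different primes, commute. -/
theorem qc_commute {t u : ℕ} [Fact t.Prime] [Fact u.Prime] (hne : t ≠ u) {H L : Subgroup G}
    (hHL : qc t H ≤ L) (hLH : qc u L ≤ H) :
    qc t H ≤ Subgroup.centralizer (qc u L : Set G) := by
  intro x hx
  refine Subgroup.mem_centralizer_iff.2 fun y hy => ?_
  refine (commutatorElement_eq_one_iff_mul_comm.1 (eq_one_of_pGroups hne (qc_isPGroup H)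
    (qc_isPGroup L) (x := ⁅x, y⁆) ?_ ?_)).symm
  · rw [commutatorElement_def, show x * y * x⁻¹ * y⁻¹ = x * (y * x⁻¹ * y⁻¹) by group]
    exact mul_mem hx ((Subgroup.mem_normalizer_iff.1 (le_normalizer_qc H (hLH hy)) _).1 (inv_mem hx))
  · rw [commutatorElement_def]
    exact mul_mem ((Subgroup.mem_normalizer_iff.1 (le_normalizer_qc L (hHL hx)) _).1 hy) (inv_mem hy)

omit hq in
/-- Bender's comparison. -/
theorem qc_le_qc {t : ℕ} {H L : Subgroup G} (hH : H ∈ signalizerFamily p A θ)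
    (hL : L ∈ signalizerFamily p A θ) (hHL : qc t H ≤ L)
    (hcomm : ∀ u : ℕ, u.Prime → u ≠ t → qc t H ≤ Subgroup.centralizer (qc u L : Set G))
    (hC : ∀ C ∈ signalizerFamily p A θ,
      (∀ u : ℕ, u.Prime → u ≠ t → C ≤ Subgroup.centralizer (qc u L : Set G)) → C ≤ H) :
    qc t H ≤ qc t L := by
  set C := L ⊓ ⨅ u : {u : ℕ // u.Prime ∧ u ≠ t}, Subgroup.centralizer (qc (u : ℕ) L : Set G) with hCdef
  have hCc : ∀ u : ℕ, u.Prime → u ≠ t → C ≤ Subgroup.centralizer (qc u L : Set G) := fun u hu hut =>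
    inf_le_right.trans (iInf_le_of_le ⟨u, hu, hut⟩ le_rfl)
  have hnorm : Subgroup.normalizer (L : Set G) ≤ Subgroup.normalizer (C : Set G) := by
    refine le_normalizer_iff_conj_mem.2 fun g hg x hx => ⟨(Subgroup.mem_normalizer_iff.1 hg x).1 hx.1,
      Subgroup.mem_iInf.2 fun u => ?_⟩
    exact le_normalizer_iff_conj_mem.1
      (le_normalizer_centralizer' (normalizer_le_normalizer_qc L)) g hg x (Subgroup.mem_iInf.1 hx.2 u)
  have hCm : C ∈ signalizerFamily p A θ :=
    h.mem_of_le hL inf_le_left ((le_normalizer_of_mem hL).trans hnorm)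
  have hCH : C ≤ H := hC C hCm hCc
  have hN : qc t H ≤ C := le_inf hHL (le_iInf fun u => hcomm u u.2.1 u.2.2)
  exact (le_qc hN (hCH.trans (le_normalizer_qc H)) (qc_isPGroup H)).trans
    (qc_mono_normal inf_le_left (Subgroup.le_normalizer.trans hnorm))

omit hq in
/-- Equality of one nontrivial core of two maximal members forces equality. -/
theorem eq_of_qc_eq {t : ℕ} {H L : Subgroup G} (hH : IsMaxMem p A θ H) (hL : IsMaxMem p A θ L)
    (he : qc t H = qc t L) (hne : qc t H ≠ ⊥) : H = L :=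
  (hH.2 L hL.1 (h.ctl_qc hL (he ▸ hne) H hH.1 (he ▸ le_normalizer_qc H))).symm

theorem mv_centralizes {t : ℕ} [Fact t.Prime] (hne : t ≠ q) {M : Subgroup G}
    (hM : M ∈ signalizerFamily p A θ) {a : G} (ha : a ∈ A) :
    mv t M a ≤ Subgroup.centralizer (mv q M a : Set G) :=
  ((h.mv_le hM ha).trans (h.qc_commute hne (qc_le M) (qc_le M))).trans
    (Subgroup.centralizer_le (h.mv_le hM ha))

/-- A maximal member controlling `⁅O_q(M), a⁆` contains `θ a`. -/
theorem exists_ctl_mv {a : G} (ha : a ∈ A) (ha1 : a ≠ 1) {M : Subgroup G}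
    (hM : M ∈ signalizerFamily p A θ) (haM : θ a ≤ M) (hne : mv q M a ≠ ⊥) :
    ∃ H, IsMaxMem p A θ H ∧ Ctl p A θ (mv q M a) H ∧ mv q M a ≤ H ∧ θ a ≤ H := by
  obtain ⟨H, hH, hctl, hXH⟩ := h.exists_ctl (h.mv_mem hM ha) hne
  refine ⟨H, hH, hctl, hXH, hctl _ (h.theta_mem ha ha1) fun x hx => ?_⟩
  rw [mv, Subgroup.mem_normalizer_iff_map_conj_eq, Subgroup.map_commutator,
    Subgroup.mem_normalizer_iff_map_conj_eq.1 (le_normalizer_qc M (haM hx)),
    MonoidHom.map_zpowers]
  congr 2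
  show x * a * x⁻¹ = a
  rw [commute_theta h.functor.1 ha ha1 hx, mul_inv_cancel_right]

/-- Every element of `A#` moves some core. -/
theorem exists_moved {a : G} (ha : a ∈ A) (ha1 : a ≠ 1) {M : Subgroup G} (hMmax : IsMaxMem p A θ M)
    (haM : θ a ≤ M) :
    ∃ t : ℕ, t.Prime ∧ mv t M a ≠ ⊥ := by
  by_contra hall
  push Not at hall
  haveI := h.elem.1
  haveI := hMmax.1.1
  set C := Subgroup.zpowers a with hC
  have hCn : C ≤ Subgroup.normalizer (M : Set G) := (h.zpowers_le ha).trans (le_normalizer_of_mem hMmax.1)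
  have hcoreC : ∀ t : ℕ, t.Prime → qc t M ≤ Subgroup.centralizer (C : Set G) := fun t ht =>
    Subgroup.commutator_eq_bot_iff_le_centralizer.1 (hall t ht)
  -- `⁅M, a⁆` centralises every core
  set D := ⁅M, C⁆ with hD
  have hDM : D ≤ M := Coprime.commutator_le_of_le_normalizer hCn
  have hDc : ∀ t : ℕ, t.Prime → D ≤ Subgroup.centralizer (qc t M : Set G) := by
    intro t ht
    rw [← Subgroup.commutator_eq_bot_iff_le_centralizer]
    apply Subgroup.commutator_commutator_eq_bot_of_rotate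
    · rw [Subgroup.commutator_comm C, hall t ht |> fun e : ⁅qc t M, C⁆ = ⊥ => e,
        Subgroup.commutator_bot_left]
    · rw [Subgroup.commutator_eq_bot_iff_le_centralizer]
      refine le_trans ?_ (hcoreC t ht)
      rw [Subgroup.commutator_le]
      intro x hx y hy
      rw [commutatorElement_def, show x * y * x⁻¹ * y⁻¹ = x * (y * x⁻¹ * y⁻¹) by group]
      exact mul_mem hx ((Subgroup.mem_normalizer_iff.1 (le_normalizer_qc M hy) _).1 (inv_mem hx))
  have hFit : D.subgroupOf M ≤ Subgroup.centralizer (fittingSubgroup ↥M : Set ↥M) := by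
    intro x hx
    refine Subgroup.mem_centralizer_iff.2 fun y hy => ?_
    rw [Cores.fittingSubgroup_eq_iSup_pCore] at hy
    refine Subgroup.mem_centralizer_singleton_iff.1 ((iSup_le fun t => ?_ :
      (⨆ t : Nat.Primes, pCore (t : ℕ) ↥M) ≤ Subgroup.centralizer {x}) hy)
    intro v hv
    refine Subgroup.mem_centralizer_singleton_iff.2 (Subtype.ext ?_)
    exact Subgroup.mem_centralizer_iff.1 (hDc t t.2 hx) v (Subgroup.mem_map_of_mem _ hv)
  have hFC : (fittingSubgroup ↥M).map M.subtype ≤ Subgroup.centralizer (C : Set G) := by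
    rw [Cores.fittingSubgroup_eq_iSup_pCore, Subgroup.map_iSup]
    exact iSup_le fun t => hcoreC t t.2
  have hDC : D ≤ Subgroup.centralizer (C : Set G) := by
    rw [← Subgroup.map_subgroupOf_eq_of_le hDM]
    exact (Subgroup.map_mono (hFit.trans Cores.centralizer_fittingSubgroup_le)).trans hFC
  have hD1 : D = ⊥ := by
    rw [hD, ← Coprime.commutator_commutator_eq hCn (coprime_of_not_dvd h.elem (h.zpowers_le ha) hMmax.1.2.1)
      (Or.inr hMmax.1.1), Subgroup.commutator_eq_bot_iff_le_centralizer]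
    exact hDC
  have hMθ : M = θ a := by
    refine le_antisymm (fun x hx => hMmax.1.2.2.2 a ha ha1 ⟨hx, ?_⟩) haM
    exact Subgroup.mem_centralizer_singleton_iff.2 (Subgroup.mem_centralizer_iff.1
      (Subgroup.commutator_eq_bot_iff_le_centralizer.1 hD1 hx) a (Subgroup.mem_zpowers a)).symm
  rcases eq_or_ne M ⊥ with hMbot | hMne
  · -- then no member is nontrivial
    refine h.not_completes ⟨⊥, bot_mem_family hp.out.ne_one, fun b hb hb1 => ?_⟩
    obtain ⟨L, hL, hle⟩ := exists_isMaxMem (h.theta_mem hb hb1)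
    rw [hMmax.2 L hL.1 (hMbot ▸ bot_le), hMbot] at hle
    exact hle
  -- a core `R` of `M`
  obtain ⟨t, ht, htne⟩ : ∃ t : ℕ, t.Prime ∧ qc t M ≠ ⊥ := by
    by_contra hall2
    push Not at hall2
    haveI : Nontrivial ↥M := (Subgroup.nontrivial_iff_ne_bot M).2 hMne
    refine Cores.fittingSubgroup_ne_bot (G := ↥M) (le_bot_iff.1 ?_)
    rw [Cores.fittingSubgroup_eq_iSup_pCore]
    exact iSup_le fun t => le_of_eq ((Subgroup.map_eq_bot_iff_of_injective _
      M.subtype_injective).1 (hall2 t t.2))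
  haveI := Fact.mk ht
  obtain ⟨Q, hQ, hle⟩ := exists_maxQ (h.qc_mem hMmax.1 t) (qc_isPGroup M)
  have htp : t ≠ p := fun e => htne (by subst e; exact h.qc_p M hMmax.1)
  refine h.anchor (q := t) hQ (fun hb => htne (le_bot_iff.1 (hb ▸ hle))) ha ha1 fun x hx => ?_
  -- `a` centralises `Q`
  set P := qc t M with hP
  have hQC : Q ⊓ Subgroup.centralizer (P : Set G) ≤ Subgroup.centralizer {a} := by
    refine le_trans ?_ (theta_le_centralizer h.functor.1 ha ha1)
    rw [← hMθ]
    exact h.centralizing_le (h.ctl_qc hMmax htne)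
      (h.mem_of_le hQ.1 inf_le_left (le_normalizer_inf' (le_normalizer_of_mem hQ.1)
        (le_normalizer_centralizer' (le_normalizer_of_mem (h.qc_mem hMmax.1 t))))) inf_le_right
  have haP : a ∈ Subgroup.centralizer (P : Set G) := Subgroup.mem_centralizer_iff.2 fun y hy =>
    (Subgroup.mem_centralizer_iff.1 (hcoreC t ht hy) a (Subgroup.mem_zpowers a)).symm
  have hord : (orderOf a).Coprime t :=
    ((Nat.coprime_primes hp.out ht).2 htp.symm).coprime_dvd_left
      (orderOf_dvd_of_pow_eq_one (PGroups.elemAb_pow h.elem ha))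
  exact Subgroup.mem_centralizer_singleton_iff.2 (Subgroup.mem_centralizer_iff.1
    (Balance.mem_centralizer_pGroup hQ.2.1 (qc_isPGroup M) (hle.trans Subgroup.le_normalizer)
      (le_normalizer_of_mem hQ.1 ha) hord haP hQC) x hx)

/-- `x`-elements of two members centralise `O_q(J)`. -/
theorem centralizes_qc {r : ℕ} [Fact r.Prime] (hrq : r ≠ q) {X H J R : Subgroup G}
    (hctl : Ctl p A θ X H) (hJ : J ∈ signalizerFamily p A θ)
    (hH : H ∈ signalizerFamily p A θ) (hX : X ≤ qc q J) (hXH : X ≤ H) (hR : R ≤ qc r H)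
    (hRJ : R ≤ J) : R ≤ Subgroup.centralizer (qc q J : Set G) := by
  intro x hx
  set P := qc q J ⊓ H with hP
  refine Balance.mem_centralizer_pGroup (P := P) (qc_isPGroup J) ((qc_isPGroup J).to_le inf_le_left)
    (inf_le_left.trans Subgroup.le_normalizer) (le_normalizer_qc J (hRJ hx)) ?_ ?_ ?_
  · obtain ⟨k, hk⟩ := qc_isPGroup (q := r) H ⟨x, hR hx⟩
    exact ((Nat.Coprime.pow_left k ((Nat.coprime_primes Fact.out hq.out).2 hrq))).coprime_dvd_left
      (orderOf_dvd_of_pow_eq_one (by simpa using congrArg Subtype.val hk))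
  · refine Subgroup.mem_centralizer_iff.2 fun y hy => ?_
    refine (commutatorElement_eq_one_iff_mul_comm.1 (eq_one_of_pGroups hrq.symm (qc_isPGroup J)
      (qc_isPGroup H) (x := ⁅x, y⁆) ?_ ?_)).symm
    · rw [commutatorElement_def]
      exact mul_mem ((Subgroup.mem_normalizer_iff.1 (le_normalizer_qc J (hRJ hx)) _).1 hy.1)
        (inv_mem hy.1)
    · rw [commutatorElement_def, show x * y * x⁻¹ * y⁻¹ = x * (y * x⁻¹ * y⁻¹) by group]
      exact mul_mem (hR hx)
        ((Subgroup.mem_normalizer_iff.1 (le_normalizer_qc H hy.2) _).1 (inv_mem (hR hx)))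
  · intro w hw
    have hm : qc q J ⊓ Subgroup.centralizer (P : Set G) ∈ signalizerFamily p A θ :=
      h.mem_of_le (h.qc_mem hJ q) inf_le_left (le_normalizer_inf'
        (le_normalizer_of_mem (h.qc_mem hJ q)) (le_normalizer_centralizer' (le_normalizer_inf'
          (le_normalizer_of_mem (h.qc_mem hJ q)) (le_normalizer_of_mem hH))))
    have hwH : w ∈ H := h.centralizing_le hctl hm
      (inf_le_right.trans (Subgroup.centralizer_le (le_inf hX hXH))) hw
    refine Subgroup.mem_centralizer_singleton_iff.2 ?_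
    refine commutatorElement_eq_one_iff_mul_comm.1 (eq_one_of_pGroups hrq.symm (qc_isPGroup J)
      (qc_isPGroup H) (x := ⁅w, x⁆) ?_ ?_)
    · rw [commutatorElement_def, show w * x * w⁻¹ * x⁻¹ = w * (x * w⁻¹ * x⁻¹) by group]
      exact mul_mem hw.1
        ((Subgroup.mem_normalizer_iff.1 (le_normalizer_qc J (hRJ hx)) _).1 (inv_mem hw.1))
    · rw [commutatorElement_def]
      exact mul_mem ((Subgroup.mem_normalizer_iff.1 (le_normalizer_qc H hwH) _).1 (hR hx))
        (inv_mem (hR hx))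

theorem center_mem {Q : Subgroup G} (hQ : Q ∈ signalizerFamily p A θ) :
    Q ⊓ Subgroup.centralizer (Q : Set G) ∈ signalizerFamily p A θ :=
  h.mem_of_le hQ inf_le_left (le_normalizer_inf' (le_normalizer_of_mem hQ)
    (le_normalizer_centralizer' (le_normalizer_of_mem hQ)))

omit hq in
theorem center_ne_bot {t : ℕ} [Fact t.Prime] {Q : Subgroup G} (hQ : IsPGroup t ↥Q) (hne : Q ≠ ⊥) :
    Q ⊓ Subgroup.centralizer (Q : Set G) ≠ ⊥ := by
  haveI : Nontrivial ↥Q := (Subgroup.nontrivial_iff_ne_bot Q).2 hne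
  haveI := hQ.center_nontrivial
  obtain ⟨⟨z, hz⟩, hz1⟩ := exists_ne (1 : Subgroup.center ↥Q)
  intro hb
  have hzZ : (z : G) ∈ Q ⊓ Subgroup.centralizer (Q : Set G) :=
    ⟨z.2, fun y hy => congrArg Subtype.val (Subgroup.mem_center_iff.1 hz ⟨y, hy⟩)⟩
  rw [hb, Subgroup.mem_bot] at hzZ
  exact hz1 (Subtype.ext (Subtype.ext hzZ))

/-- The cores for other primes of a member controlling `⁅O_q, a⁆` centralise `U*_q`. -/
theorem qc_centralizes_ustar {r : ℕ} [Fact r.Prime] (hrq : r ≠ q) {X H : Subgroup G}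
    (hH : H ∈ signalizerFamily p A θ) (hctl : Ctl p A θ X H) (hXH : X ≤ H)
    (hX : X ≤ ustar p A θ q) (hX1 : X ≠ ⊥) :
    qc r H ≤ Subgroup.centralizer (ustar p A θ q : Set G) := by
  have hu1 : ustar p A θ q ≠ ⊥ := fun hb => hX1 (le_bot_iff.1 (hb ▸ hX))
  have hqp : q ≠ p := by
    intro e
    obtain ⟨n, hn⟩ := IsPGroup.iff_card.1 (h.ustar_mem' (q := q)).2
    rcases Nat.eq_zero_or_pos n with rfl | hpos
    · exact hu1 (Subgroup.eq_bot_of_card_eq _ (by simpa using hn))
    · refine (h.ustar_mem' (q := q)).1.2.1 ?_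
      rw [hn, ← e]
      exact dvd_pow_self q hpos.ne'
  obtain ⟨Q, hQ⟩ := h.exists_maxQ' q
  have huQ := h.ustar_le_maxQ hqp hQ
  set Z := Q ⊓ Subgroup.centralizer (Q : Set G) with hZ
  have hZ1 : Z ≠ ⊥ := h.center_ne_bot hQ.2.1 fun hb => hu1 (le_bot_iff.1 (hb ▸ huQ))
  have hZm := h.center_mem hQ.1
  have hZH : Z ≤ H := h.centralizing_le hctl hZm
    (inf_le_right.trans (Subgroup.centralizer_le (hX.trans huQ)))
  obtain ⟨J, hJ, hJctl, -⟩ := h.exists_ctl hZm hZ1
  have hQJ : Q ≤ J := h.centralizing_le hJctl hQ.1 (Subgroup.le_centralizer_iff.1 inf_le_right)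
  have huJ : ustar p A θ q ≤ qc q J := h.ustar_le_qc hJ.1 (huQ.trans hQJ)
  set R := qc r H with hR
  have hRm := h.qc_mem hH r
  set N0 := R ⊓ Subgroup.centralizer (ustar p A θ q : Set G) with hN0
  -- the part centralised by `Z`
  set P0 := R ⊓ Subgroup.centralizer (Z : Set G) with hP0
  have hP0N : P0 ≤ N0 := by
    refine le_inf inf_le_left (le_trans ?_ (Subgroup.centralizer_le huJ))
    have hP0m : P0 ∈ signalizerFamily p A θ :=
      h.mem_of_le hRm inf_le_left (le_normalizer_inf' (le_normalizer_of_mem hRm)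
        (le_normalizer_centralizer' (le_normalizer_of_mem hZm)))
    exact h.centralizes_qc hrq hctl hJ.1 hH (hX.trans huJ) hXH inf_le_left
      (h.centralizing_le hJctl hP0m inf_le_right)
  -- commutators with `Z`
  have hgen : ∀ B, Hyp p A B → ∀ y ∈ R ⊓ Subgroup.centralizer (B : Set G), ∀ z ∈ Z, ⁅y, z⁆ ∈ N0 := by
    intro B hB y hy z hz
    refine ⟨?_, Subgroup.le_centralizer_iff.1 ((iSup₂_le fun B' hB' => ?_) :
      ustar p A θ q ≤ Subgroup.centralizer ((Subgroup.zpowers ⁅y, z⁆ : Subgroup G) : Set G))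
      (Subgroup.mem_zpowers _)⟩
    · rw [commutatorElement_def, show y * z * y⁻¹ * z⁻¹ = y * (z * y⁻¹ * z⁻¹) by group]
      exact mul_mem hy.1
        ((Subgroup.mem_normalizer_iff.1 (le_normalizer_qc H (hZH hz)) _).1 (inv_mem hy.1))
    · intro x hx
      obtain ⟨f, hf, hf', hf1⟩ := exists_ne_one_inf h.rank hB hB'
      have hxq := pstar_le_qc hf' hf1 hx
      have hyθ : y ∈ θ f := hRm.2.2.2 f (hB.1 hf) hf1 ⟨hy.1,
        Subgroup.mem_centralizer_singleton_iff.2 (Subgroup.mem_centralizer_iff.1 hy.2 f hf).symm⟩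
      have hfix : ∀ v ∈ qc q (θ f), z * v = v * z := fun v hv =>
        (Subgroup.mem_centralizer_iff.1 hz.2 v (h.qc_theta_le_maxQ hqp (hB.1 hf) hf1 hQ hv)).symm
      have h1 : y⁻¹ * x * y ∈ qc q (θ f) := by
        simpa using (Subgroup.mem_normalizer_iff.1 (inv_mem (le_normalizer_qc _ hyθ)) x).1 hxq
      have h2 := hfix _ hxq
      have h3 := hfix _ h1
      have hw : ⁅y, z⁆ * x = x * ⁅y, z⁆ := by
        rw [commutatorElement_def]
        calc y * z * y⁻¹ * z⁻¹ * x = y * z * y⁻¹ * (z⁻¹ * x) := by group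
          _ = y * z * y⁻¹ * (x * z⁻¹) := by
            rw [((show Commute z x from h2).inv_left).eq]
          _ = y * (z * (y⁻¹ * x * y)) * y⁻¹ * z⁻¹ := by group
          _ = y * ((y⁻¹ * x * y) * z) * y⁻¹ * z⁻¹ := by rw [h3]
          _ = x * (y * z * y⁻¹ * z⁻¹) := by group
      refine Subgroup.mem_centralizer_iff.2 fun w hwz => ?_
      obtain ⟨k, rfl⟩ := Subgroup.mem_zpowers_iff.1 hwz
      exact ((show Commute ⁅y, z⁆ x from hw).zpow_left k).eq
  suffices hR0 : R ≤ N0 from hR0.trans inf_le_right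
  by_contra hnle
  have hlt : N0.subgroupOf R ≠ ⊤ := fun e => hnle (Subgroup.subgroupOf_eq_top.1 e)
  obtain ⟨Mx, hMx, hle⟩ := (eq_top_or_exists_le_coatom (N0.subgroupOf R)).resolve_left hlt
  haveI : Group.IsNilpotent ↥R := (qc_isPGroup H).isNilpotent
  haveI hMxn : Mx.Normal :=
    Subgroup.NormalizerCondition.normal_of_coatom Mx Group.normalizerCondition_of_isNilpotent hMx
  set M1 := Mx.map R.subtype with hM1
  have hM1R : R ≤ Subgroup.normalizer (M1 : Set G) := by
    have h1 := Subgroup.le_normalizer_map (H := Mx) R.subtype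
    rwa [Subgroup.normalizer_eq_top, ← MonoidHom.range_eq_map, Subgroup.range_subtype] at h1
  have hN0M : N0 ≤ M1 := by
    exact (Subgroup.map_subgroupOf_eq_of_le (inf_le_left : N0 ≤ R)).ge.trans (Subgroup.map_mono hle)
  let T : Subgroup G :=
    { carrier := {y | y ∈ R ∧ ∀ z ∈ Z, ⁅y, z⁆ ∈ M1}
      one_mem' := ⟨one_mem _, fun z _ => by
        rw [show ⁅(1 : G), z⁆ = 1 by rw [commutatorElement_def]; group]; exact one_mem _⟩
      mul_mem' := by
        rintro d d' ⟨hd, hdx⟩ ⟨hd', hdx'⟩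
        refine ⟨mul_mem hd hd', fun z hz => ?_⟩
        rw [show ⁅d * d', z⁆ = d * ⁅d', z⁆ * d⁻¹ * ⁅d, z⁆ by simp only [commutatorElement_def]; group]
        exact mul_mem ((Subgroup.mem_normalizer_iff.1 (hM1R hd) _).1 (hdx' z hz)) (hdx z hz)
      inv_mem' := by
        rintro d ⟨hd, hdx⟩
        refine ⟨inv_mem hd, fun z hz => ?_⟩
        rw [show ⁅d⁻¹, z⁆ = d⁻¹ * ⁅d, z⁆⁻¹ * d⁻¹⁻¹ by simp only [commutatorElement_def]; group]
        exact (Subgroup.mem_normalizer_iff.1 (hM1R (inv_mem hd)) _).1 (inv_mem (hdx z hz)) }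
  have hRT : R ≤ T :=
    h.le_of_hyp_mem hRm fun B hB y hy => ⟨hy.1, fun z hz => hN0M (hgen B hB y hy z hz)⟩
  have hRM : R ≤ M1 := by
    have hcop : (Nat.card ↥Z).Coprime (Nat.card ↥R) :=
      coprime_card_pGroups hrq.symm (hQ.2.1.to_le inf_le_left) (qc_isPGroup H)
    refine (Coprime.commutator_sup_centralizer (K := R) (hZH.trans (le_normalizer_qc H)) hcop
      (Or.inr hRm.1)).ge.trans (sup_le ?_ (hP0N.trans hN0M))
    rw [Subgroup.commutator_le]
    exact fun y hy z hz => (hRT hy).2 z hz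
  refine hMx.1 (eq_top_iff.2 fun y _ => ?_)
  obtain ⟨y', hy', e⟩ := hRM y.2
  rwa [← R.subtype_injective e]

end Ctx

end Cfsg.Agent.Lib.Signalizer
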