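import Cfsg.Agent.Lib.Signalizer.Bender

/-!
# Pure and mixed members

Owner: helper33. Namespace `Cfsg.Agent.Lib.Signalizer`.
* `Ctx.mixed_pure_false`, `Ctx.mixed_eq`: comparison of members controlling subgroups of `U*_q`.
-/

set_option autoImplicit false
set_option linter.style.haveILetI false
set_option linter.unusedSectionVars false

open Cfsg
open scoped commutatorElement

namespace Cfsg.Agent.Lib.Signalizer

variable {G : Type*} [Group G] [Finite G] {p : ℕ} [hp : Fact p.Prime] {A : Subgroup G}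
  {θ : G → Subgroup G}

namespace Ctx

variable (h : Ctx p A θ)
include h

variable {q : ℕ} [hq : Fact q.Prime]

/-- A member is pure of type `q`. -/
def Pure (_h : Ctx p A θ) (q : ℕ) (L : Subgroup G) : Prop :=
  ∀ t : ℕ, t.Prime → t ≠ q → qc t L = ⊥

theorem fitting_le_of_pure {L : Subgroup G} (hp' : h.Pure q L) :
    fittingSubgroup ↥L ≤ pCore q ↥L := by
  rw [Cores.fittingSubgroup_eq_iSup_pCore]
  refine iSup_le fun t => ?_
  by_cases htq : (t : ℕ) = q
  · rw [htq]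
  · exact le_of_eq_of_le ((Subgroup.map_eq_bot_iff_of_injective _ L.subtype_injective).1
      (hp' t t.2 htq)) bot_le

theorem le_qc_of_pure {L : Subgroup G} (hL : L ∈ signalizerFamily p A θ) (hp' : h.Pure q L)
    {R : Subgroup G} (hRL : R ≤ L) (hR : R ≤ Subgroup.centralizer (qc q L : Set G)) :
    R ≤ qc q L := by
  haveI := hL.1
  intro x hx
  have h1 : (⟨x, hRL hx⟩ : ↥L) ∈ Subgroup.centralizer (fittingSubgroup ↥L : Set ↥L) := by
    refine Subgroup.mem_centralizer_iff.2 fun y hy => Subtype.ext ?_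
    exact Subgroup.mem_centralizer_iff.1 (hR hx) y
      (Subgroup.mem_map_of_mem _ (h.fitting_le_of_pure hp' hy))
  exact Subgroup.mem_map_of_mem _
    (h.fitting_le_of_pure hp' (Cores.centralizer_fittingSubgroup_le h1))

theorem eq_bot_of_pure {L : Subgroup G} (hL : L ∈ signalizerFamily p A θ) (hp' : h.Pure q L)
    {R : Subgroup G} {t : ℕ} [Fact t.Prime] (htq : t ≠ q) (hRt : IsPGroup t ↥R) (hRL : R ≤ L)
    (hR : R ≤ Subgroup.centralizer (qc q L : Set G)) : R = ⊥ :=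
  (Subgroup.eq_bot_iff_forall _).2 fun _ hx =>
    eq_one_of_pGroups htq hRt (qc_isPGroup L) hx (h.le_qc_of_pure hL hp' hRL hR hx)

/-- A mixed and a pure controlling member cannot both exist. -/
theorem mixed_pure_false {H L X Y : Subgroup G} (hH : IsMaxMem p A θ H) (hL : IsMaxMem p A θ L)
    (hcH : Ctl p A θ X H) (hcL : Ctl p A θ Y L) (hXH : X ≤ H) (hX1 : X ≠ ⊥)
    (hXu : X ≤ ustar p A θ q) (hYu : Y ≤ ustar p A θ q) (hLp : h.Pure q L)
    (hKL : signalizerInf A θ ≤ L) {r : ℕ} [hr : Fact r.Prime] (hrq : r ≠ q) (hR : qc r H ≠ ⊥) :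
    False := by
  have hu1 : ustar p A θ q ≠ ⊥ := fun hb => hX1 (le_bot_iff.1 (hb ▸ hXu))
  have hqp : q ≠ p := by
    intro e
    obtain ⟨n, hn⟩ := IsPGroup.iff_card.1 (h.ustar_mem' (q := q)).2
    rcases Nat.eq_zero_or_pos n with rfl | hpos
    · exact hu1 (Subgroup.eq_bot_of_card_eq _ (by simpa using hn))
    · refine (h.ustar_mem' (q := q)).1.2.1 ?_
      rw [hn, ← e]
      exact dvd_pow_self q hpos.ne'
  obtain ⟨Q, hQ⟩ := h.exists_maxQ' q
  have huQ := h.ustar_le_maxQ hqp hQ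
  set Z := Q ⊓ Subgroup.centralizer (Q : Set G) with hZ
  have hZ1 : Z ≠ ⊥ := h.center_ne_bot hQ.2.1 fun hb => hu1 (le_bot_iff.1 (hb ▸ huQ))
  have hZm := h.center_mem hQ.1
  have hZc : ∀ W, W ≤ Q → Z ≤ Subgroup.centralizer (W : Set G) := fun W hW =>
    inf_le_right.trans (Subgroup.centralizer_le hW)
  have hZH : Z ≤ H := h.centralizing_le hcH hZm (hZc X (hXu.trans huQ))
  have hZL : Z ≤ L := h.centralizing_le hcL hZm (hZc Y (hYu.trans huQ))
  have hLQ : qc q L ≤ Q := h.le_maxQ hqp (h.qc_mem hL.1 q) (qc_isPGroup L)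
    (hKL.trans (le_normalizer_qc L)) hQ
  have hZqL : Z ≤ qc q L := h.le_qc_of_pure hL.1 hLp hZL (hZc _ hLQ)
  obtain ⟨J, hJ, hJc, -⟩ := h.exists_ctl hZm hZ1
  have hQJ : Q ≤ J := h.centralizing_le hJc hQ.1 (Subgroup.le_centralizer_iff.1 inf_le_right)
  have huJ : ustar p A θ q ≤ qc q J := h.ustar_le_qc hJ.1 (huQ.trans hQJ)
  have hJp : h.Pure q J := by
    intro t ht htq
    haveI := Fact.mk ht
    have htL : qc t J ≤ L := h.centralizing_le hcL (h.qc_mem hJ.1 t)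
      ((h.qc_commute htq (qc_le J) (qc_le J)).trans (Subgroup.centralizer_le (hYu.trans huJ)))
    exact h.eq_bot_of_pure hL.1 hLp htq (qc_isPGroup J) htL
      (h.qc_commute htq htL (hLQ.trans hQJ))
  have hRu := h.qc_centralizes_ustar hrq hH.1 hcH hXH hXu hX1
  have hRL : qc r H ≤ L := h.centralizing_le hcL (h.qc_mem hH.1 r)
    (hRu.trans (Subgroup.centralizer_le hYu))
  have hRZ : qc r H ≤ Subgroup.centralizer (Z : Set G) := by
    intro x hx
    refine Subgroup.mem_centralizer_iff.2 fun z hz => ?_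
    refine (commutatorElement_eq_one_iff_mul_comm.1 (eq_one_of_pGroups hrq (qc_isPGroup H)
      (qc_isPGroup L) (x := ⁅x, z⁆) ?_ ?_)).symm
    · rw [commutatorElement_def, show x * z * x⁻¹ * z⁻¹ = x * (z * x⁻¹ * z⁻¹) by group]
      exact mul_mem hx ((Subgroup.mem_normalizer_iff.1 (le_normalizer_qc H (hZH hz)) _).1 (inv_mem hx))
    · rw [commutatorElement_def]
      exact mul_mem ((Subgroup.mem_normalizer_iff.1 (le_normalizer_qc L (hRL hx)) _).1 (hZqL hz))
        (inv_mem (hZqL hz))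
  have hRJ : qc r H ≤ J := h.centralizing_le hJc (h.qc_mem hH.1 r) hRZ
  exact hR (h.eq_bot_of_pure hJ.1 hJp hrq (qc_isPGroup H) hRJ
    (h.centralizes_qc hrq hcH hJ.1 hH.1 (hXu.trans huJ) hXH le_rfl hRJ))

/-- Two mixed controlling members are equal. -/
theorem mixed_eq {H L X Y : Subgroup G} (hH : IsMaxMem p A θ H) (hL : IsMaxMem p A θ L)
    (hcH : Ctl p A θ X H) (hcL : Ctl p A θ Y L) (hXH : X ≤ H) (hYL : Y ≤ L) (hX1 : X ≠ ⊥)
    (hY1 : Y ≠ ⊥) (hXu : X ≤ ustar p A θ q) (hYu : Y ≤ ustar p A θ q) {r s : ℕ} [Fact r.Prime]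
    [Fact s.Prime] (hrq : r ≠ q) (hsq : s ≠ q) (hR : qc r H ≠ ⊥) (hS : qc s L ≠ ⊥) : H = L := by
  have hu : ∀ (H X : Subgroup G) (r : ℕ) [Fact r.Prime], r ≠ q → IsMaxMem p A θ H → Ctl p A θ X H →
      X ≤ H → X ≠ ⊥ → X ≤ ustar p A θ q → qc r H ≠ ⊥ → ustar p A θ q ≤ qc q H := by
    intro H X r _ hrq hH hc hXH hX1 hXu hR
    refine h.ustar_le_qc hH.1 (h.centralizing_le (h.ctl_qc hH hR) h.ustar_mem'.1 ?_)
    exact Subgroup.le_centralizer_iff.1 (h.qc_centralizes_ustar hrq hH.1 hc hXH hXu hX1)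
  have hle : ∀ (H L X Y : Subgroup G), IsMaxMem p A θ H → IsMaxMem p A θ L → Ctl p A θ X H →
      Ctl p A θ Y L → X ≤ H → Y ≤ L → X ≠ ⊥ → Y ≠ ⊥ → X ≤ ustar p A θ q → Y ≤ ustar p A θ q →
      ustar p A θ q ≤ qc q L → ∀ t : ℕ, t.Prime → t ≠ q → qc t H ≤ qc t L := by
    intro H L X Y hH hL hcH hcL hXH hYL hX1 hY1 hXu hYu huL t ht htq
    haveI := Fact.mk ht
    have hin : qc t H ≤ L := h.centralizing_le hcL (h.qc_mem hH.1 t)
      ((h.qc_centralizes_ustar htq hH.1 hcH hXH hXu hX1).trans (Subgroup.centralizer_le hYu))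
    refine h.qc_le_qc hH.1 hL.1 hin (fun u hu hut => ?_) fun C hC hCc => ?_
    · haveI := Fact.mk hu
      rcases eq_or_ne u q with rfl | huq
      · exact h.centralizes_qc htq hcH hL.1 hH.1 (hXu.trans huL) hXH le_rfl hin
      · exact h.qc_commute hut.symm hin (h.centralizing_le hcH (h.qc_mem hL.1 u)
          ((h.qc_centralizes_ustar huq hL.1 hcL hYL hYu hY1).trans (Subgroup.centralizer_le hXu)))
    · exact h.centralizing_le hcH hC ((hCc q hq.out htq.symm).trans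
        (Subgroup.centralizer_le (hXu.trans huL)))
  have huH := hu H X r hrq hH hcH hXH hX1 hXu hR
  have huL := hu L Y s hsq hL hcL hYL hY1 hYu hS
  exact h.eq_of_qc_eq hH hL
    (le_antisymm (hle H L X Y hH hL hcH hcL hXH hYL hX1 hY1 hXu hYu huL r Fact.out hrq)
      (hle L H Y X hL hH hcL hcH hYL hXH hY1 hX1 hYu hXu huH r Fact.out hrq)) hR

end Ctx

end Cfsg.Agent.Lib.Signalizer
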