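import Cfsg.Agent.Lib.Signalizer.LayerCore
import Cfsg.Agent.Lib.Signalizer.CoreFixed

/-!
# The layer lemma for pure members (all primes)

Owner: helper20. Namespace `Cfsg.Agent.Lib.Signalizer`.
* `layer_commute`: Thompson factorisation under a coprime operator group `A`: a `p`-subgroup
  centralising the `A`-fixed elements, the elements centralising `Ω₁(Z(S))` and those normalising
  `J(S)` of a normal `p'`-section `R/T` centralises `R/T`;
* `le_qc_of_layer`: in a solvable `K` with `C_K(O_p K) ≤ O_p K`, an `A`-invariant `p`-subgroup of `S`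
  lying in `p`-groups normalised by `C_K(A)`, `C_K(Ω₁Z(S))`, `N_K(J(S))` lies in `O_p(K)`.
-/

set_option autoImplicit false
set_option linter.style.haveILetI false
set_option linter.unusedSectionVars false

open Cfsg
open scoped commutatorElement

namespace Cfsg.Agent.Lib.Signalizer

open Cfsg.Agent.Lib.PLocal

variable {G : Type*} [Group G] [Finite G] {p q : ℕ} [hp : Fact p.Prime] [hq : Fact q.Prime]
  {K A P : Subgroup G}

/-- The `p'`-part of an element, as a power. -/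
theorem exists_pow_coprime_part {H H' : Type*} [Group H] [Finite H] [Group H'] (f : H →* H') (d : H)
    (hf : (orderOf (f d)).Coprime p) :
    ∃ n j : ℕ, (orderOf ((d ^ n) ^ j)).Coprime p ∧ f ((d ^ n) ^ j) = f d := by
  set n := p ^ (orderOf d).factorization p with hn
  have h1 : (orderOf (d ^ n)).Coprime p := by
    rw [orderOf_pow_of_dvd (pow_pos hp.out.pos _).ne' (Nat.ordProj_dvd _ p)]
    exact (Nat.coprime_ordCompl hp.out (orderOf_pos d).ne').symm
  obtain ⟨j, hj⟩ := exists_pow_eq_self_of_coprime (x := f d) (n := n) (hf.symm.pow_left _)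
  exact ⟨n, j, h1.coprime_dvd_left (orderOf_pow_dvd j), by rw [map_pow, map_pow]; exact hj⟩

/-- **Layer lemma.** -/
theorem layer_commute {T R : Subgroup ↥K} [hTn : T.Normal] [hRn : R.Normal] (S : Sylow p ↥K)
    (hA : IsElementaryAbelian q A) (hpq : p ≠ q) (hqK : ¬ q ∣ Nat.card ↥K)
    (hs : Group.IsSolvable ↥K) (hAK : A ≤ Subgroup.normalizer (K : Set G))
    (hAP : A ≤ Subgroup.normalizer (P : Set G))
    (hT : IsPGroup p ↥T) (hTR : T ≤ R) (hRT : ¬ p ∣ T.relIndex R)
    (hRS : R ⊔ (S : Subgroup ↥K) = ⊤) (hO : pPrimeCore p ↥K = ⊥)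
    (hPS : P.subgroupOf K ≤ (S : Subgroup ↥K))
    (hfix : ∀ r ∈ R, ((r : G) ∈ Subgroup.centralizer (A : Set G) ∨
        r ∈ Subgroup.centralizer (omegaCenterOf p (S : Subgroup ↥K) : Set ↥K) ∨
        r ∈ Subgroup.normalizer (thompsonSubgroupOf p (S : Subgroup ↥K) : Set ↥K)) →
      ∀ x : ↥K, (x : G) ∈ P →
        QuotientGroup.mk' T x * QuotientGroup.mk' T r = QuotientGroup.mk' T r * QuotientGroup.mk' T x) :
    ∀ r ∈ R, ∀ x : ↥K, (x : G) ∈ P →
      QuotientGroup.mk' T x * QuotientGroup.mk' T r = QuotientGroup.mk' T r * QuotientGroup.mk' T x := by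
  set π := QuotientGroup.mk' T
  set P' := P.subgroupOf K with hP'
  set M := R ⊓ (Subgroup.centralizer ((P'.map π : Subgroup (↥K ⧸ T)) : Set (↥K ⧸ T))).comap π with hM
  suffices hRM : R ≤ M from fun r hr x hx =>
    Subgroup.mem_centralizer_iff.mp (hRM hr).2 _ ⟨x, hx, rfl⟩
  have hmem : ∀ r ∈ R, ((r : G) ∈ Subgroup.centralizer (A : Set G) ∨
        r ∈ Subgroup.centralizer (omegaCenterOf p (S : Subgroup ↥K) : Set ↥K) ∨
        r ∈ Subgroup.normalizer (thompsonSubgroupOf p (S : Subgroup ↥K) : Set ↥K)) → r ∈ M :=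
    fun r hr h => ⟨hr, Subgroup.mem_centralizer_iff.mpr (by
      rintro _ ⟨x, hx, rfl⟩
      exact hfix r hr h x hx)⟩
  have hTM : T ≤ M := fun t ht => ⟨hTR ht, Subgroup.mem_centralizer_iff.mpr fun y _ => by
    rw [(show π t = 1 from (QuotientGroup.eq_one_iff t).2 ht), mul_one, one_mul]⟩
  have hTS : T ≤ (S : Subgroup ↥K) := (Cores.le_pCore hT).trans (Cores.pCore_le_sylow S)
  -- `R ∩ S ≤ T`
  have hRST : R ⊓ (S : Subgroup ↥K) ≤ T := by
    rintro x ⟨hxR, hxS⟩
    haveI : (T.subgroupOf R).Normal := inferInstance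
    obtain ⟨k, hk⟩ := (S.isPGroup') ⟨x, hxS⟩
    have h1 : x ^ T.relIndex R ∈ T := by
      have := Subgroup.pow_index_mem (T.subgroupOf R) ⟨x, hxR⟩
      exact this
    refine (QuotientGroup.eq_one_iff x).1 (orderOf_eq_one_iff.1 (Nat.eq_one_of_dvd_coprimes
      ((hp.out.coprime_iff_not_dvd.2 hRT).pow_left k) ?_ ?_))
    · refine (orderOf_map_dvd π x).trans (orderOf_dvd_of_pow_eq_one ?_)
      simpa using congrArg Subtype.val hk
    · exact orderOf_dvd_of_pow_eq_one ((QuotientGroup.eq_one_iff _).2 h1 : π (x ^ T.relIndex R) = 1)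
  set C := (opHom p K).ker with hC
  set J := thompsonSubgroup p ↥K with hJ
  haveI hJn : J.Normal := by
    haveI := PGroups.thompsonSubgroup_characteristic (p := p) (G := ↥K)
    exact inferInstance
  set D := J ⊔ C with hD
  have hCS : C ≤ Subgroup.centralizer (omegaCenterOf p (S : Subgroup ↥K) : Set ↥K) := by
    rw [hC, opHom_ker]
    exact Subgroup.centralizer_le (SetLike.coe_subset_coe.mpr
      (le_iSup (fun S : Sylow p ↥K => omegaCenterOf p (S : Subgroup ↥K)) S))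
  have hCM : C ⊓ R ≤ M := fun r hr => hmem r hr.2 (Or.inr (Or.inl (hCS hr.1)))
  have hTC : T ≤ C := by
    rw [hC, opHom_ker, Subgroup.le_centralizer_iff]
    refine iSup_le fun S' => ?_
    rw [Subgroup.le_centralizer_iff]
    exact ((Cores.le_pCore hT).trans (Cores.pCore_le_sylow S')).trans
      (le_centralizer_omegaCenterOf _)
  obtain ⟨k, hk⟩ : ∃ k, R.index = p ^ k := by
    have h1 := card_sup_mul_card_inf (H := (S : Subgroup ↥K)) (K := R)
      (le_top.trans (Subgroup.normalizer_eq_top R).ge)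
    rw [sup_comm, hRS, Subgroup.card_top, ← Subgroup.card_mul_index R] at h1
    obtain ⟨m, hm⟩ := S.isPGroup'.exists_card_eq
    have h2 : R.index ∣ p ^ m := by
      refine ⟨Nat.card ↥((S : Subgroup ↥K) ⊓ R : Subgroup ↥K), ?_⟩
      rw [← hm]
      refine Nat.eq_of_mul_eq_mul_left (Nat.card_pos (α := R)) ?_
      linarith
    obtain ⟨k, -, hk⟩ := (Nat.dvd_prime_pow hp.out).1 h2
    exact ⟨k, hk⟩
  have hpR : ∀ d : ↥K, (orderOf d).Coprime p → d ∈ R := by
    intro d hd
    obtain ⟨j, hj⟩ := exists_pow_eq_self_of_coprime (x := d) (n := p ^ k) (hd.symm.pow_left k)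
    rw [← hj, ← hk]
    exact R.pow_mem (Subgroup.pow_index_mem R d) j
  -- the part of `R` in `D`
  have hDR : D ⊓ R ≤ M := by
    by_cases hJC : J ≤ C
    · rw [hD, sup_eq_right.2 hJC]; exact hCM
    have hsep : IsPSolvable p ↥K := haveI := hs; PSolvable.isPSolvable_of_isSolvable
    have hnf : ¬ IsThompsonFactorizable p ↥K := fun h => hJC (by
      rw [hC, opHom_ker]; exact le_of_factorizable hO h)
    obtain ⟨-, O, -⟩ := operatorSetup hAK hA hqK hsep hO hnf
    set P₀ := P'.map (opHom p K) with hP₀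
    have hP₀p : IsPGroup p ↥P₀ := (S.isPGroup'.to_le hPS).map _
    have hP₀r : P₀ ≤ (opHom p K).range := Subgroup.map_le_range _ _
    have hP₀V : P₀ ≤ Subgroup.normalizer (actV (opV p K) : Set (actGroup (opV p K))) := by
      rintro _ ⟨y, -, rfl⟩
      exact actH_le_normalizer _ ((actHom_range _).le ⟨_, rfl⟩)
    have hP₀H : P₀ ≤ Subgroup.normalizer (opH p K : Set (actGroup (opV p K))) := by
      refine (Subgroup.map_mono le_top).trans ?_
      rw [← Subgroup.normalizer_eq_top (H := J)]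
      exact Subgroup.le_normalizer_map _
    have hP₀Q : P₀ ≤ Subgroup.normalizer (opQ p K : Set (actGroup (opV p K))) :=
      hP₀H.trans (PLocal.normalizer_le_normalizer_map_char (Cfsg.pPrimeCore p ↥(opH p K)))
    have hYP : opY p K A ≤ Subgroup.normalizer (P₀ : Set (actGroup (opV p K))) := by
      rintro _ ⟨n, hn, rfl⟩
      refine Subgroup.mem_normalizer_fintype ?_
      rintro _ ⟨y, hy, rfl⟩
      exact ⟨Subgroup.normalizerMonoidHom K n y,
        (Subgroup.mem_normalizer_iff.1 (hAP hn) y).1 hy, opHom_conj n.2 y⟩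
    have hfixY : ∀ c ∈ opH p K, c ∈ Subgroup.centralizer (opY p K A : Set (actGroup (opV p K))) →
        (orderOf c).Coprime p → c ∈ Subgroup.centralizer (P₀ : Set (actGroup (opV p K))) := by
      intro c hcH hcY hcp
      obtain ⟨d, hdA, -, hdc⟩ := exists_lift hAK hA hqK hcH hcY
      obtain ⟨n, j, hd', hfd⟩ := exists_pow_coprime_part (p := p) (opHom p K) d (hdc ▸ hcp)
      set d' := (d ^ n) ^ j
      have hc' : opHom p K d' = c := hfd.trans hdc
      have hd'A : (d' : G) ∈ Subgroup.centralizer (A : Set G) := by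
        simpa [d'] using pow_mem (pow_mem hdA n) j
      refine Subgroup.mem_centralizer_iff.mpr ?_
      rintro _ ⟨y, hy, rfl⟩
      have h1 := Subgroup.mem_centralizer_iff.mp (hmem d' (hpR d' hd') (Or.inl hd'A)).2 _ ⟨y, hy, rfl⟩
      rw [← map_mul, ← map_mul, QuotientGroup.mk'_eq_mk'] at h1
      obtain ⟨t, ht, hyt⟩ := h1
      rw [← hc', ← map_mul, ← map_mul, ← hyt, map_mul _ _ t, (hTC ht : opHom p K t = 1), mul_one]
    have hall : LayerCore.supR p (actV (opV p K)) (opH p K) (opQ p K) ≤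
        Subgroup.centralizer (P₀ : Set (actGroup (opV p K))) := iSup_le fun B => by
      rw [Subgroup.le_centralizer_iff]
      exact LayerCore.centralizes_R O hpq hP₀p hP₀V hP₀H hP₀Q hYP hfixY B.2
    have himg : (D ⊓ R).map (opHom p K) ≤ Subgroup.centralizer (P₀ : Set (actGroup (opV p K))) := by
      rintro _ ⟨r, ⟨hrD, hrR⟩, rfl⟩
      refine hall (LayerCore.mem_iSup_R O ?_ ?_)
      · have h1 : D.map (opHom p K) ≤ opH p K := by
          rw [hD, Subgroup.map_sup, (Subgroup.map_eq_bot_iff C).2 le_rfl, sup_bot_eq]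
          exact le_rfl
        exact h1 ⟨r, hrD, rfl⟩
      · refine ((hp.out.coprime_iff_not_dvd.2 hRT).symm).coprime_dvd_left (orderOf_dvd_of_pow_eq_one ?_)
        rw [← map_pow]
        exact hTC (Subgroup.pow_index_mem (T.subgroupOf R) ⟨r, hrR⟩)
    intro r hr
    refine ⟨hr.2, ?_⟩
    have hser : P'.map π ≤ Subgroup.centralizer (((D ⊓ R).map π : Subgroup (↥K ⧸ T)) : Set (↥K ⧸ T)) := by
      refine Coprime.le_centralizer_of_series (N := (C ⊓ R).map π) ?_ ?_ ?_
      · obtain ⟨a, ha⟩ := ((S.isPGroup'.to_le hPS).map π).exists_card_eq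
        rw [ha]
        refine (hp.out.coprime_iff_not_dvd.2 fun hd => hRT ?_).pow_left a
        have h1 := Subgroup.relIndex_ker (K := R) π
        rw [QuotientGroup.ker_mk'] at h1
        exact h1.symm ▸ hd.trans (Subgroup.card_dvd_of_le (Subgroup.map_mono inf_le_right))
      · rw [← Subgroup.map_commutator]
        refine Subgroup.map_mono (Subgroup.commutator_le.2 fun y hy x hx => ⟨?_, ?_⟩)
        · show opHom p K ⁅y, x⁆ = 1
          rw [map_commutatorElement, commutatorElement_eq_one_iff_mul_comm]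
          exact (Subgroup.mem_centralizer_iff.mp (himg ⟨y, hy, rfl⟩) _ ⟨x, hx, rfl⟩).symm
        · rw [commutatorElement_def, mul_assoc, mul_assoc]
          exact R.mul_mem hy.2 (by simpa [mul_assoc] using hRn.conj_mem _ (R.inv_mem hy.2) x)
      · rw [Subgroup.commutator_eq_bot_iff_le_centralizer]
        exact (Subgroup.map_le_iff_le_comap.2 (hCM.trans inf_le_right))
    exact Subgroup.le_centralizer_iff.mp hser ⟨r, hr, rfl⟩
  -- the Frattini argument
  intro r hr
  have hJS : thompsonSubgroupOf p ((S : Subgroup ↥K) ⊓ D) = thompsonSubgroupOf p (S : Subgroup ↥K) :=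
    PGroups.thompsonSubgroupOf_eq_of_le inf_le_left
      (le_inf (PGroups.thompsonSubgroupOf_le p _) ((thompsonSubgroupOf_sylow_le S).trans le_sup_left))
  obtain ⟨d, hd, n, hn, rfl⟩ : ∃ d ∈ D, ∃ n ∈ Subgroup.normalizer
      (((S : Subgroup ↥K) ⊓ D : Subgroup ↥K) : Set ↥K), d * n = r :=
    Subgroup.mem_sup_of_normal_left.1 (by
      rw [sup_comm, normalizer_inf_sup_eq_top]; trivial)
  have hnJ : n ∈ Subgroup.normalizer (thompsonSubgroupOf p (S : Subgroup ↥K) : Set ↥K) :=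
    hJS ▸ PGroups.normalizer_le_normalizer_thompson (p := p) _ hn
  have hrel : ∃ m, (D ⊓ R).relIndex D = p ^ m := by
    rw [inf_comm, Subgroup.inf_relIndex_right]
    obtain ⟨m, -, hm⟩ := (Nat.dvd_prime_pow hp.out).1 (hk ▸ Subgroup.relIndex_dvd_index_of_normal R D)
    exact ⟨m, hm⟩
  obtain ⟨m, hm⟩ := hrel
  obtain ⟨r₁, hr₁, s₁, hs₁, rfl⟩ : ∃ r₁ ∈ D ⊓ R, ∃ s₁ ∈ (S : Subgroup ↥K) ⊓ D, r₁ * s₁ = d :=
    Subgroup.mem_sup_of_normal_left.1 (le_sup_inf_of_relIndex S inf_le_left hm hd)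
  obtain ⟨r₂, hr₂, s₂, hs₂, rfl⟩ : ∃ r₂ ∈ R, ∃ s₂ ∈ (S : Subgroup ↥K), r₂ * s₂ = n :=
    Subgroup.mem_sup_of_normal_left.1 (by rw [hRS]; trivial)
  have hSJ : (S : Subgroup ↥K) ≤ Subgroup.normalizer (thompsonSubgroupOf p (S : Subgroup ↥K) : Set ↥K) :=
    Subgroup.le_normalizer.trans (PGroups.normalizer_le_normalizer_thompson (p := p) _)
  have h1 : s₁ * r₂ * s₁⁻¹ ∈ M := by
    refine hmem _ (hRn.conj_mem _ hr₂ _) (Or.inr (Or.inr ?_))
    have h2 : r₂ ∈ Subgroup.normalizer (thompsonSubgroupOf p (S : Subgroup ↥K) : Set ↥K) := by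
      simpa [mul_assoc] using Subgroup.mul_mem _ hnJ (Subgroup.inv_mem _ (hSJ hs₂))
    exact Subgroup.mul_mem _ (Subgroup.mul_mem _ (hSJ hs₁.1) h2) (Subgroup.inv_mem _ (hSJ hs₁.1))
  have h2 : r₁ * (s₁ * r₂ * s₁⁻¹) * (s₁ * s₂) = r₁ * s₁ * (r₂ * s₂) := by group
  have h3 : s₁ * s₂ ∈ R ⊓ (S : Subgroup ↥K) := by
    refine ⟨?_, Subgroup.mul_mem _ hs₁.1 hs₂⟩
    have h4 : s₁ * s₂ = (r₁ * (s₁ * r₂ * s₁⁻¹))⁻¹ * (r₁ * s₁ * (r₂ * s₂)) := by group
    rw [h4]
    exact R.mul_mem (R.inv_mem (R.mul_mem hr₁.2 h1.1)) hr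
  rw [← h2]
  exact M.mul_mem (M.mul_mem (hDR hr₁) h1) (hTM (hRST h3))


/-- An `A`-invariant `p`-subgroup of `S` lying in `p`-groups normalised by `C_K(A)`, by
`C_K(Ω₁Z(S))` and by `N_K(J(S))` lies in `O_p(K)`. -/
theorem le_qc_of_layer (hA : IsElementaryAbelian q A) (hpq : p ≠ q) (hqK : ¬ q ∣ Nat.card ↥K)
    (hs : Group.IsSolvable ↥K) (hAK : A ≤ Subgroup.normalizer (K : Set G))
    (hAP : A ≤ Subgroup.normalizer (P : Set G))
    (hc : Subgroup.centralizer (pCore p ↥K : Set ↥K) ≤ pCore p ↥K) (S : Sylow p ↥K)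
    (hAS : A ≤ Subgroup.normalizer (((S : Subgroup ↥K).map K.subtype : Subgroup G) : Set G))
    (hPS : P ≤ (S : Subgroup ↥K).map K.subtype)
    (h1 : ∃ P₁ : Subgroup G, IsPGroup p ↥P₁ ∧ P ≤ P₁ ∧
      K ⊓ Subgroup.centralizer (A : Set G) ≤ Subgroup.normalizer (P₁ : Set G))
    (h2 : ∃ P₁ : Subgroup G, IsPGroup p ↥P₁ ∧ P ≤ P₁ ∧
      K ⊓ Subgroup.centralizer (omegaCenterOf p ((S : Subgroup ↥K).map K.subtype) : Set G) ≤
        Subgroup.normalizer (P₁ : Set G))
    (h3 : ∃ P₁ : Subgroup G, IsPGroup p ↥P₁ ∧ P ≤ P₁ ∧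
      K ⊓ Subgroup.normalizer
        (thompsonSubgroupOf p ((S : Subgroup ↥K).map K.subtype) : Set G) ≤
        Subgroup.normalizer (P₁ : Set G)) :
    P ≤ qc p K := by
  set T := pCore p ↥K with hT
  set π := QuotientGroup.mk' T with hπ
  set R := (pPrimeCore p (↥K ⧸ T)).comap π with hR
  have hTR : T ≤ R := QuotientGroup.le_comap_mk' T _
  set S' := (S : Subgroup ↥K).map K.subtype with hS'
  set K₀ := (R ⊔ (S : Subgroup ↥K)).map K.subtype with hK₀
  have hK₀K : K₀ ≤ K := Subgroup.map_subtype_le _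
  set i : ↥K₀ →* ↥K := Subgroup.inclusion hK₀K with hi
  have hii : Function.Injective i := Subgroup.inclusion_injective hK₀K
  have hir : i.range = R ⊔ (S : Subgroup ↥K) := by
    apply Subgroup.map_injective K.subtype_injective
    rw [MonoidHom.map_range, hi, Subgroup.subtype_comp_inclusion, Subgroup.range_subtype]
  set T₀ := T.comap i with hT₀
  set R₀ := R.comap i with hR₀
  haveI : T₀.Normal := Subgroup.Normal.comap inferInstance i
  haveI : R₀.Normal := Subgroup.Normal.comap inferInstance i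
  have hSK₀ : S' ≤ K₀ := Subgroup.map_mono le_sup_right
  let S₀ : Sylow p ↥K₀ := S.comapOfInjective i hii (le_sup_right.trans hir.ge)
  have hS₀ : ((S₀ : Subgroup ↥K₀)).map K₀.subtype = S' := by
    show ((S : Subgroup ↥K).comap i).map K₀.subtype = S'
    conv_lhs => rw [show K₀.subtype = K.subtype.comp i from rfl, ← Subgroup.map_map,
      Subgroup.map_comap_eq_self (le_sup_right.trans hir.ge)]
  have hTS : T ≤ (S : Subgroup ↥K) := Cores.pCore_le_sylow S
  -- `A` normalises `K₀`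
  have hAR : A ≤ Subgroup.normalizer ((R.map K.subtype : Subgroup G) : Set G) := by
    haveI : R.Characteristic := Subgroup.characteristic_iff_map_le.mpr fun e => by
      rintro _ ⟨r, hr, rfl⟩
      show π (e r) ∈ pPrimeCore p (↥K ⧸ T)
      have h := Subgroup.mem_map_of_mem
        (QuotientGroup.congr T T e (Cores.map_pCore_equiv e)).toMonoidHom
        (show π r ∈ pPrimeCore p (↥K ⧸ T) from hr)
      rw [Cores.map_pPrimeCore_equiv] at h
      exact h
    exact hAK.trans (normalizer_le_normalizer_char R)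
  have hAK₀ : A ≤ Subgroup.normalizer (K₀ : Set G) := by
    rw [hK₀, Subgroup.map_sup]
    exact le_trans (le_inf hAR hAS) (Subgroup.normalizer_inf_normalizer_le_normalizer_sup _ _)
  have hRrel : ¬ p ∣ T.relIndex R := by
    have h := Subgroup.relIndex_ker (K := R) π
    rw [QuotientGroup.ker_mk', hR,
      Subgroup.map_comap_eq_self_of_surjective (QuotientGroup.mk'_surjective T)] at h
    rw [hR, h]
    exact (hp.out.coprime_iff_not_dvd).1 (Cores.pPrimeCore_coprime (G := ↥K ⧸ T) p).symm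
  have hkey : ∀ r ∈ R, ∀ P₁ : Subgroup G, IsPGroup p ↥P₁ → P ≤ P₁ →
      (r : G) ∈ Subgroup.normalizer (P₁ : Set G) → ∀ x : ↥K, (x : G) ∈ P → π ⁅x, r⁆ = 1 := by
    intro r hr P₁ hP₁ hPP₁ hrN x hx
    have hm : ((⁅x, r⁆ : ↥K) : G) ∈ P₁ := by
      have h4 := (Subgroup.mem_normalizer_iff.1 hrN _).1 (P₁.inv_mem (hPP₁ hx))
      have h5 := P₁.mul_mem (hPP₁ hx) h4
      simpa [commutatorElement_def, mul_assoc] using h5
    obtain ⟨k, hk⟩ := hP₁ ⟨_, hm⟩
    have hin : π ⁅x, r⁆ ∈ pPrimeCore p (↥K ⧸ T) := by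
      haveI : (pPrimeCore p (↥K ⧸ T)).Normal := inferInstance
      rw [map_commutatorElement, commutatorElement_def]
      exact mul_mem ((Subgroup.Normal.conj_mem inferInstance _ hr) _) (inv_mem hr)
    refine orderOf_eq_one_iff.1 (Nat.eq_one_of_dvd_coprimes
      ((Cores.pPrimeCore_coprime (G := ↥K ⧸ T) p).pow_right k)
      (Subgroup.orderOf_dvd_natCard _ hin) ((orderOf_map_dvd π _).trans
      (orderOf_dvd_of_pow_eq_one (Subtype.ext ?_))))
    simpa using congrArg Subtype.val hk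
  have hO : pPrimeCore p ↥K₀ = ⊥ := by
    set O := pPrimeCore p ↥K₀
    have hOc : (Nat.card ↥O).Coprime p := Cores.pPrimeCore_coprime p
    have hTp : IsPGroup p ↥T₀ := (Cores.pCore_isPGroup (G := ↥K) p).comap_of_injective i hii
    have hcen : O ≤ Subgroup.centralizer (T₀ : Set ↥K₀) := by
      rw [← Subgroup.commutator_eq_bot_iff_le_centralizer, eq_bot_iff]
      intro z hz
      have h1 : z ∈ O := Subgroup.commutator_le_left _ _ hz
      have h2 : z ∈ T₀ := Subgroup.commutator_le_right _ _ hz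
      obtain ⟨k, hk⟩ := hTp ⟨z, h2⟩
      exact orderOf_eq_one_iff.1 (Nat.eq_one_of_dvd_coprimes (hOc.pow_right k)
        (Subgroup.orderOf_dvd_natCard _ h1)
        (orderOf_dvd_of_pow_eq_one (by simpa using congrArg Subtype.val hk)))
    rw [eq_bot_iff]
    intro z hz
    have hzT : i z ∈ T := by
      refine hc (Subgroup.mem_centralizer_iff.2 fun t ht => ?_)
      obtain ⟨t, rfl⟩ : t ∈ i.range := (hTR.trans le_sup_left).trans hir.ge ht
      rw [← map_mul, ← map_mul, Subgroup.mem_centralizer_iff.1 (hcen hz) t ht]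
    obtain ⟨k, hk⟩ := hTp ⟨z, hzT⟩
    exact orderOf_eq_one_iff.1 (Nat.eq_one_of_dvd_coprimes (hOc.pow_right k)
      (Subgroup.orderOf_dvd_natCard _ hz)
      (orderOf_dvd_of_pow_eq_one (by simpa using congrArg Subtype.val hk)))
  have hPK : P ≤ K := hPS.trans (Subgroup.map_subtype_le _)
  have hlayer := layer_commute (p := p) (q := q) (K := K₀) (A := A) (P := P) (T := T₀) (R := R₀) S₀ hA
    hpq (fun hd => hqK (hd.trans (Subgroup.card_dvd_of_le hK₀K)))
    (haveI := hs; Group.isSolvable_of_isSolvable_injective hii) hAK₀ hAP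
    ((Cores.pCore_isPGroup (G := ↥K) p).comap_of_injective i hii) (Subgroup.comap_mono hTR) ?_ ?_ hO ?_ ?_
  · intro x hx
    refine mem_qc_of_centralizes_cores (x := ⟨x, hPK hx⟩) hs ?_ fun t ht htp v hv => ?_
    · obtain ⟨k, hk⟩ := (S.isPGroup'.map K.subtype) ⟨x, hPS hx⟩
      exact ⟨k, Subtype.ext (by simpa using congrArg Subtype.val hk)⟩
    haveI := Fact.mk ht
    have hvF : v ∈ pPrimeCore p (↥K ⧸ T) := by
      refine Cores.le_pPrimeCore ?_ hv
      obtain ⟨m, hm⟩ := (Cores.pCore_isPGroup (G := ↥K ⧸ T) t).exists_card_eq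
      rw [hm]
      exact ((Nat.coprime_primes ht hp.out).2 htp).pow_left m
    obtain ⟨r, rfl⟩ := QuotientGroup.mk'_surjective T v
    obtain ⟨r₀, rfl⟩ : r ∈ i.range := hir.ge (Subgroup.mem_sup_left hvF)
    have h := hlayer r₀ hvF ⟨x, hSK₀ (hPS hx)⟩ hx
    rw [← map_mul, ← map_mul, QuotientGroup.mk'_eq_mk'] at h
    obtain ⟨z, hz, he⟩ := h
    rw [← map_mul, ← map_mul, QuotientGroup.mk'_eq_mk']
    exact ⟨i z, hz, congrArg i he⟩
  · intro hd
    refine hRrel (hd.trans (dvd_of_eq ?_))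
    rw [hT₀, hR₀, Subgroup.relIndex_comap, Subgroup.map_comap_eq_self (le_sup_left.trans hir.ge)]
  · rw [eq_top_iff]
    intro z _
    have hz : i z ∈ R ⊔ (S : Subgroup ↥K) := hir.le ⟨z, rfl⟩
    obtain ⟨r, hr, s, hs', hrs⟩ := Subgroup.mem_sup_of_normal_left.1 hz
    obtain ⟨r₀, rfl⟩ : r ∈ i.range := hir.ge (Subgroup.mem_sup_left hr)
    obtain ⟨s₀, rfl⟩ : s ∈ i.range := hir.ge (Subgroup.mem_sup_right hs')
    rw [← map_mul] at hrs
    exact hii hrs ▸ Subgroup.mul_mem _ (Subgroup.mem_sup_left hr)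
      (Subgroup.mem_sup_right (show s₀ ∈ (S₀ : Subgroup ↥K₀) from hs'))
  · intro x hx
    obtain ⟨y, hy, hyx⟩ := hPS hx
    show i x ∈ (S : Subgroup ↥K)
    exact (Subtype.ext hyx : y = i x) ▸ hy
  · intro r hr hor x hx
    have hNr : ∀ P₁ : Subgroup G, IsPGroup p ↥P₁ → P ≤ P₁ →
        (r : G) ∈ Subgroup.normalizer (P₁ : Set G) →
        QuotientGroup.mk' T₀ x * QuotientGroup.mk' T₀ r =
          QuotientGroup.mk' T₀ r * QuotientGroup.mk' T₀ x := fun P₁ a b c => by
      rw [← commutatorElement_eq_one_iff_mul_comm, ← map_commutatorElement]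
      refine (QuotientGroup.eq_one_iff _).2 (show i ⁅x, r⁆ ∈ T from ?_)
      rw [map_commutatorElement]
      exact (QuotientGroup.eq_one_iff _).1 (hkey (i r) hr P₁ a b c (i x) hx)
    rcases hor with ha | hz | hj
    · obtain ⟨P₁, a, b, c⟩ := h1
      exact hNr P₁ a b (c ⟨hK₀K r.2, ha⟩)
    · obtain ⟨P₁, a, b, c⟩ := h2
      refine hNr P₁ a b (c ⟨hK₀K r.2, ?_⟩)
      rw [← hS₀, ← map_omegaCenterOf K₀.subtype K₀.subtype_injective]
      refine Subgroup.mem_centralizer_iff.2 ?_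
      rintro _ ⟨w, hw, rfl⟩
      exact congrArg Subtype.val (Subgroup.mem_centralizer_iff.1 hz w hw)
    · obtain ⟨P₁, a, b, c⟩ := h3
      refine hNr P₁ a b (c ⟨hK₀K r.2, ?_⟩)
      rw [← hS₀, ← PGroups.map_thompsonSubgroupOf _ K₀.subtype_injective]
      exact Subgroup.le_normalizer_map _ ⟨r, hj, rfl⟩

end Cfsg.Agent.Lib.Signalizer
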