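import Cfsg.Agent.Lib.PLocal.CoprimeOperatorAct

/-!
# A `p`-group centralising the fixed points of a coprime operator group on an offender group

Owner: helper20. Namespace `Cfsg.Agent.Lib.Signalizer.LayerCore`.
* `centralizes_R`: if the `p`-group `P` is normalised by `Y` and centralises the `p'`-elements of
  `C_H(Y)`, then it centralises every `[Q,A]`;
* `mem_iSup_R`: the `p'`-elements of `H` lie in the product of the `[Q,A]`.
-/

set_option autoImplicit false
set_option linter.style.haveILetI false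
set_option linter.unusedSectionVars false

namespace Cfsg.Agent.Lib.Signalizer.LayerCore

open Subgroup Cfsg.Agent.Lib.PLocal Cfsg.Agent.Lib.PLocal.OperatorSetup
open scoped commutatorElement

variable {G : Type*} [Group G] [Finite G] {p q : ℕ} [hp : Fact p.Prime] [hq : Fact q.Prime]
  {V H Q Y A : Subgroup G}

/-- Elements of a component are induced on its plane by elements of `C_H(Y)` lying in the product of
the conjugates of the component. -/
theorem exists_fixed_orbit (O : OperatorSetup p q V H Q Y) (hA : IsTransv p V H A) {e : G}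
    (he : e ∈ offE Q A) :
    ∃ c ∈ H, c ∈ Subgroup.centralizer (Y : Set G) ∧ e⁻¹ * c ∈ compl V H Q A ∧
      c ∈ ⨆ y : Y, (offE Q A).map (MulAut.conj (y : G)).toMonoidHom := by
  classical
  haveI : Fintype Y := Fintype.ofFinite Y
  set E := offE Q A with hEdef
  have hEH : E ≤ H := offE_le O.setup hA
  have hmq : ∃ k, Nat.card (stab Y Q A) = q ^ k :=
    (O.qGroup.to_le inf_le_left).exists_card_eq
  obtain ⟨k, hk⟩ := hmq
  -- a root of `e`
  obtain ⟨j, hj⟩ := exists_pow_eq_self_of_coprime (x := e) (n := q ^ k)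
    ((O.coprime_pow hA k).coprime_dvd_right (Subgroup.orderOf_dvd_natCard _ he))
  set e' := e ^ j with he'def
  have he' : e' ∈ E := E.pow_mem he j
  have hroot : e' ^ q ^ k = e := by rw [he'def, ← pow_mul, mul_comm, pow_mul]; exact hj
  -- the commuting family of conjugates
  let f : Y → G := fun y => (y : G) * e' * (y : G)⁻¹
  have hcomm : ∀ y z : Y, Commute (f y) (f z) := by
    intro y z
    set u : G := (y : G)⁻¹ * z with hu
    have huY : u ∈ Y := Y.mul_mem (Y.inv_mem y.2) z.2
    have hz : f z = MulAut.conj (y : G) (u * e' * u⁻¹) := by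
      simp [f, hu, mul_assoc]
    have hy' : f y = MulAut.conj (y : G) e' := rfl
    rw [hz, hy']
    refine Commute.map ?_ (MulAut.conj (y : G)).toMonoidHom
    rcases (O.conj_cases hA huY).2 with h | ⟨hc, -, -⟩
    · rw [O.centralizes_E hA huY h he']
    · exact (Subgroup.mem_centralizer_iff.mp (Subgroup.commutator_eq_bot_iff_le_centralizer.mp hc
        he') _ (offE_conj (A := A) (O.normQ huY) ▸ Subgroup.mem_map_of_mem _ he')).symm
  set c := Finset.univ.noncommProd f (fun y _ z _ _ => hcomm y z) with hcdef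
  have hfH : ∀ y : Y, f y ∈ H := fun y =>
    (Subgroup.mem_normalizer_iff.mp (O.normH y.2) e').mp (hEH he')
  have hcH : c ∈ H := Finset.noncommProd_induction _ _ _ (· ∈ H) (fun _ _ => H.mul_mem) H.one_mem
    fun y _ => hfH y
  refine ⟨c, hcH, ?_, ?_, Finset.noncommProd_induction _ _ _
    (· ∈ ⨆ y : Y, (offE Q A).map (MulAut.conj (y : G)).toMonoidHom) (fun _ _ => mul_mem) (one_mem _)
    fun y _ => Subgroup.mem_iSup_of_mem y ⟨e', he', rfl⟩⟩
  · refine Subgroup.mem_centralizer_iff.mpr fun z hz => ?_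
    have h1 : (MulAut.conj z).toMonoidHom c = c := by
      let σ : Equiv.Perm Y := Equiv.mulLeft ⟨z, hz⟩
      have hfz : ∀ y : Y, (MulAut.conj z).toMonoidHom (f y) = f (σ y) := by
        intro y
        simp [f, σ, mul_assoc]
      rw [hcdef]
      refine (Finset.map_noncommProd _ _ _ _).trans ?_
      exact noncommProd_univ_equiv σ hfz _ _
    calc z * c = z * c * z⁻¹ * z := by group
      _ = c * z := by rw [show z * c * z⁻¹ = c from h1]
  · let ψ : H →* MulAut ↥(⁅V, offE Q A⁆ : Subgroup G) :=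
      (Subgroup.normalizerMonoidHom _).comp (Subgroup.inclusion (O.H_le_normalizer_W hA))
    have hker : ∀ h : H, ψ h = 1 ↔ (h : G) ∈ compl V H Q A := by
      intro h
      refine ⟨fun h' => ⟨h.2, Subgroup.mem_centralizer_iff.mpr fun w hw => ?_⟩, fun h' => ?_⟩
      · have h5 := DFunLike.congr_fun h' (⟨w, hw⟩ : ↥(⁅V, offE Q A⁆ : Subgroup G))
        have h4 : (h : G) * w * (h : G)⁻¹ = w := congrArg Subtype.val h5
        calc w * (h : G) = (h : G) * w * (h : G)⁻¹ * h := by rw [h4]
          _ = _ := by group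
      · refine MulEquiv.ext fun w => Subtype.ext ?_
        show (h : G) * (w : G) * (h : G)⁻¹ = w
        rw [← Subgroup.mem_centralizer_iff.mp h'.2 _ w.2, mul_inv_cancel_right]
    set P : Y → Prop := fun y => (y : G) ∈ Subgroup.normalizer (E : Set G) with hP
    have hval : ∀ y : Y, ψ ⟨f y, hfH y⟩ = if P y then ψ ⟨e', hEH he'⟩ else 1 := by
      intro y
      split_ifs with h
      · congr 1
        exact Subtype.ext (O.centralizes_E hA y.2 h he')
      · exact (hker _).mpr ((((O.conj_cases hA y.2).2).resolve_left h).2.1 e' he')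
    have key : ∀ (s : Finset Y) (hs : (s : Set Y).Pairwise (Function.onFun Commute f))
        (hsH : s.noncommProd f hs ∈ H),
        ψ ⟨s.noncommProd f hs, hsH⟩ = ψ ⟨e', hEH he'⟩ ^ (s.filter P).card := by
      intro s
      induction s using Finset.induction with
      | empty =>
        intro hs hsH
        simp only [Finset.noncommProd_empty, Finset.filter_empty, Finset.card_empty, pow_zero]
        exact map_one ψ
      | insert y s hys ih =>
        intro hs hsH
        have hmem : s.noncommProd f (hs.mono fun _ => Finset.mem_insert_of_mem) ∈ H :=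
          Finset.noncommProd_induction _ _ _ (· ∈ H) (fun _ _ => H.mul_mem) H.one_mem
            fun y _ => hfH y
        have h1 : (⟨(insert y s).noncommProd f hs, hsH⟩ : H) = ⟨f y, hfH y⟩ *
            ⟨s.noncommProd f (hs.mono fun _ => Finset.mem_insert_of_mem), hmem⟩ :=
          Subtype.ext (Finset.noncommProd_insert_of_notMem s y f hs hys)
        rw [h1, map_mul, ih _ hmem, hval y, Finset.filter_insert]
        split_ifs with h
        · rw [Finset.card_insert_of_notMem (fun h' => hys (Finset.mem_filter.mp h').1), pow_succ']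
        · rw [one_mul]
    have hcard : (Finset.univ.filter P).card = q ^ k := by
      rw [← hk, ← Fintype.card_subtype, ← Nat.card_eq_fintype_card]
      exact Nat.card_congr
        { toFun := fun y => ⟨(y.1 : G), y.1.2, y.2⟩
          invFun := fun g => ⟨⟨(g : G), g.2.1⟩, g.2.2⟩
          left_inv := fun _ => rfl
          right_inv := fun _ => rfl }
    have h2 : ψ ⟨c, hcH⟩ = ψ ⟨e, hEH he⟩ := by
      rw [key _ _ hcH, hcard, ← map_pow]
      congr 1
      exact Subtype.ext hroot
    have h3 : ψ (⟨e, hEH he⟩⁻¹ * ⟨c, hcH⟩) = 1 := by rw [map_mul, map_inv, h2, inv_mul_cancel]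
    exact (hker _).mp h3

/-- The product of all the `[Q,A]`. -/
abbrev supR (p : ℕ) (V H Q : Subgroup G) : Subgroup G :=
  ⨆ A : {A : Subgroup G // IsTransv p V H A}, ⁅Q, (A : Subgroup G)⁆

theorem H_le_normalizer_R (O : OperatorSetup p q V H Q Y) (hA : IsTransv p V H A) :
    H ≤ Subgroup.normalizer ((⁅Q, A⁆ : Subgroup G) : Set G) := by
  intro x hx
  rw [Subgroup.mem_normalizer_iff_map_conj_eq, ← inf_Q_eq O.setup hA]
  show Subgroup.map (MulAut.conj x).toMonoidHom _ = _
  rw [Subgroup.map_inf _ _ _ (MulAut.conj x).injective,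
    map_conj_self ((complement O.setup O.gen hA).2.2.2.2 hx), map_conj_self (O.setup.Q_norm hx)]

/-- The `p'`-elements of `H` lie in the product of the `[Q,A]`. -/
theorem mem_iSup_R (O : OperatorSetup p q V H Q Y) {h : G} (hh : h ∈ H)
    (hord : (orderOf h).Coprime p) : h ∈ supR p V H Q := by
  set R₀ := supR p V H Q with hR₀
  have hR₀H : R₀ ≤ H := iSup_le fun A => (commutator_le_Q O.setup A.2).trans O.setup.Q_le
  set N := R₀.subgroupOf H
  haveI hN : N.Normal := Subgroup.normal_subgroupOf_of_le_normalizer (fun x hx => by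
    rw [Subgroup.mem_normalizer_iff_map_conj_eq]
    show Subgroup.map (MulAut.conj x).toMonoidHom _ = _
    rw [hR₀, supR, Subgroup.map_iSup]
    exact iSup_congr fun A => map_conj_self (H_le_normalizer_R O A.2 hx))
  set π := QuotientGroup.mk' N
  have hker : ∀ x : ↥H, π x = 1 ↔ (x : G) ∈ R₀ := fun x => QuotientGroup.eq_one_iff x
  set ι := {A : Subgroup G // IsTransv p V H A}
  have htop : (⨆ A : ι, ((A : Subgroup G).subgroupOf H).map π) = ⊤ := by
    rw [← Subgroup.map_iSup, ← Subgroup.map_top_of_surjective π (QuotientGroup.mk'_surjective N)]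
    congr 1
    apply Subgroup.map_injective H.subtype_injective
    rw [Subgroup.map_iSup, ← MonoidHom.range_eq_map, Subgroup.range_subtype]
    refine le_antisymm (iSup_le fun A => Subgroup.map_subtype_le _) ?_
    refine (le_iSup_transv O.setup O.gen).trans (iSup_mono fun A => ?_)
    rw [Subgroup.map_subgroupOf_eq_of_le A.2.1]
  have hcomm : ∀ A B : ι, ((A : Subgroup G).subgroupOf H).map π ≤
      Subgroup.centralizer ((((B : Subgroup G).subgroupOf H).map π : Subgroup (↥H ⧸ N)) : Set _) := by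
    intro A B
    rcases dichotomy O.setup B.2 A.2 with he | ⟨hc, -, -⟩
    · -- same component: the images coincide
      have hle : ((A : Subgroup G).subgroupOf H).map π ≤ ((B : Subgroup G).subgroupOf H).map π := by
        rintro _ ⟨a, ha, rfl⟩
        have h1 : (a : G) ∈ ((⁅Q, (B : Subgroup G)⁆ ⊔ (B : Subgroup G) : Subgroup G) : Set G) :=
          he.le (Subgroup.mem_sup_right ha)
        rw [Subgroup.coe_mul_of_right_le_normalizer_left _ _
          (Subgroup.normalizer_commutator_ge_right Q (B : Subgroup G))] at h1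
        obtain ⟨r, hr, b, hb, hrb⟩ := h1
        refine ⟨⟨b, B.2.1 hb⟩, hb, ?_⟩
        have hr' : (⟨r, hR₀H (Subgroup.mem_iSup_of_mem B hr)⟩ : ↥H) * ⟨b, B.2.1 hb⟩ = a :=
          Subtype.ext hrb
        rw [← hr', map_mul, (hker ⟨r, hR₀H (Subgroup.mem_iSup_of_mem B hr)⟩).2 (Subgroup.mem_iSup_of_mem B hr),
          one_mul]
      haveI := Fact.mk (B.2.2.1.symm ▸ hp.out : (Nat.card ↥(B : Subgroup G)).Prime)
      haveI : IsMulCommutative ↥(((B : Subgroup G).subgroupOf H).map π) := by
        haveI : IsMulCommutative ↥((B : Subgroup G).subgroupOf H) := by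
          refine Subgroup.le_centralizer_iff_isMulCommutative.mp fun x hx => ?_
          refine Subgroup.mem_centralizer_iff.mpr fun y hy => Subtype.ext ?_
          exact PGroups.elemAb_comm (PGroups.elemAb_of_card_eq_prime B.2.2.1) hy hx
        infer_instance
      exact hle.trans (Subgroup.le_centralizer_iff_isMulCommutative.mpr inferInstance)
    · rintro _ ⟨a, ha, rfl⟩
      refine Subgroup.mem_centralizer_iff.mpr ?_
      rintro _ ⟨b, hb, rfl⟩
      rw [← map_mul, ← map_mul]
      refine congrArg π (Subtype.ext ?_)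
      exact (Subgroup.mem_centralizer_iff.mp (Subgroup.commutator_eq_bot_iff_le_centralizer.mp hc
        (Subgroup.mem_sup_right hb)) _ (Subgroup.mem_sup_right ha)).symm
  have hall : ∀ A : ι, ((A : Subgroup G).subgroupOf H).map π ≤ Cfsg.pCore p (↥H ⧸ N) := by
    intro A
    have hcen : ((A : Subgroup G).subgroupOf H).map π ≤ Subgroup.center (↥H ⧸ N) := by
      rw [← Subgroup.centralizer_univ, ← Subgroup.coe_top, ← htop, Subgroup.le_centralizer_iff]
      exact iSup_le fun B => hcomm B A
    haveI : (((A : Subgroup G).subgroupOf H).map π).Normal :=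
      ⟨fun x hx g => by
        rw [Subgroup.mem_center_iff.1 (hcen hx) g, mul_inv_cancel_right]; exact hx⟩
    exact Cores.le_pCore (((PGroups.elemAb_isPGroup
      (PGroups.elemAb_of_card_eq_prime A.2.2.1)).comap_subtype (K := H)).map π)
  have hP : IsPGroup p (↥H ⧸ N) := by
    have h1 : Cfsg.pCore p (↥H ⧸ N) = ⊤ := top_le_iff.mp (htop.ge.trans (iSup_le hall))
    exact (h1 ▸ Cores.pCore_isPGroup (G := ↥H ⧸ N) p).of_equiv Subgroup.topEquiv
  obtain ⟨k, hk⟩ := hP (π ⟨h, hh⟩)
  refine (hker ⟨h, hh⟩).1 (orderOf_eq_one_iff.mp ?_)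
  refine Nat.eq_one_of_dvd_coprimes (hord.pow_right k) ?_ (orderOf_dvd_of_pow_eq_one hk)
  refine (orderOf_map_dvd π _).trans ?_
  rw [← Subgroup.orderOf_coe]

variable {P : Subgroup G}

/-- `P` centralises each `[Q,A]`. -/
theorem centralizes_R (O : OperatorSetup p q V H Q Y) (hpq : p ≠ q) (hP : IsPGroup p P)
    (hPV : P ≤ Subgroup.normalizer (V : Set G)) (hPH : P ≤ Subgroup.normalizer (H : Set G))
    (hPQ : P ≤ Subgroup.normalizer (Q : Set G)) (hYP : Y ≤ Subgroup.normalizer (P : Set G))
    (hfix : ∀ c ∈ H, c ∈ Subgroup.centralizer (Y : Set G) → (orderOf c).Coprime p →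
      c ∈ Subgroup.centralizer (P : Set G))
    (hA : IsTransv p V H A) : P ≤ Subgroup.centralizer ((⁅Q, A⁆ : Subgroup G) : Set G) := by
  set E := offE Q A with hEdef
  set W : Subgroup G := ⁅V, E⁆ with hWdef
  -- for each `e` a fixed element inducing it
  have hlift : ∀ e ∈ (⁅Q, A⁆ : Subgroup G), ∃ c ∈ H, c ∈ Subgroup.centralizer (P : Set G) ∧
      e⁻¹ * c ∈ compl V H Q A ∧ c ∈ ⨆ y : Y, E.map (MulAut.conj (y : G)).toMonoidHom := by
    intro e he
    have heE : e ∈ E := Subgroup.mem_sup_left he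
    obtain ⟨c, hcH, hcY, hf, hcM⟩ := exists_fixed_orbit O hA heE
    set n := p ^ (orderOf c).factorization p with hn
    have hecop : n.Coprime (orderOf e) :=
      (O.setup.coprime.symm.pow_left _).coprime_dvd_right
        (Subgroup.orderOf_dvd_natCard _ (commutator_le_Q O.setup hA he))
    obtain ⟨j, hj⟩ := exists_pow_eq_self_of_coprime hecop
    refine ⟨(c ^ n) ^ j, H.pow_mem (H.pow_mem hcH n) j, hfix _ (H.pow_mem (H.pow_mem hcH n) j)
      (pow_mem (pow_mem hcY n) j) ?_, ?_, pow_mem (pow_mem hcM n) j⟩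
    · have h1 : (orderOf (c ^ n)).Coprime p := by
        rw [orderOf_pow_of_dvd (pow_pos hp.out.pos _).ne' (Nat.ordProj_dvd _ p)]
        exact (Nat.coprime_ordCompl hp.out (orderOf_pos c).ne').symm
      exact h1.coprime_dvd_left (orderOf_pow_dvd j)
    · have hcm : Commute e (e⁻¹ * c) :=
        (Subgroup.mem_centralizer_iff.mp (Subgroup.commutator_eq_bot_iff_le_centralizer.mp
          (complement O.setup O.gen hA).1 heE) _ hf).symm
      have h2 : (c ^ n) ^ j = e * ((e⁻¹ * c) ^ n) ^ j := by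
        conv_lhs => rw [← mul_inv_cancel_left e c, hcm.mul_pow, (hcm.pow_pow n n).mul_pow, hj]
      rw [h2, inv_mul_cancel_left]
      exact pow_mem (pow_mem hf n) j
  obtain ⟨e₀, he₀, he₀1⟩ := (Subgroup.bot_or_exists_ne_one _).resolve_left (R_ne_bot O.setup hA)
  have hfaith := offE_faithful O.setup hA
  have hnot : ∀ e ∈ E, e ∈ compl V H Q A → e = 1 := fun e he hc => by
    have h1 : e ∈ E ⊓ compl V H Q A := ⟨he, hc⟩
    rwa [(complement O.setup O.gen hA).2.1, Subgroup.mem_bot] at h1
  -- every element of `P` moves `E` inside its `Y`-orbit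
  have horb : ∀ σ ∈ P, ∃ y ∈ Y, y⁻¹ * σ ∈ Subgroup.normalizer (E : Set G) := by
    intro σ hσ
    obtain ⟨c, hcH, hcP, hf, hcM⟩ := hlift e₀ he₀
    by_contra hno
    push Not at hno
    have hA' := isTransv_conj_of_normalizer hA (hPV hσ) (hPH hσ)
    set A' := A.map (MulAut.conj σ).toMonoidHom with hA'def
    have hEσ : E.map (MulAut.conj σ).toMonoidHom = offE Q A' := offE_conj (A := A) (hPQ hσ)
    have hWσ : W.map (MulAut.conj σ).toMonoidHom = ⁅V, offE Q A'⁆ := by
      rw [← hEσ, hWdef, Subgroup.map_commutator, map_conj_self (hPV hσ)]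
    have hout : (⨆ y : Y, E.map (MulAut.conj (y : G)).toMonoidHom) ≤
        Subgroup.centralizer ((⁅V, offE Q A'⁆ : Subgroup G) : Set G) := by
      refine iSup_le fun y => ?_
      have hAy := isTransv_conj_of_normalizer hA (O.normV y.2) (O.normH y.2)
      have hEy := offE_conj (A := A) (O.normQ y.2)
      rw [hEy]
      rcases dichotomy O.setup hAy hA' with h | ⟨-, h, -⟩
      · refine absurd ?_ (hno y y.2)
        rw [Subgroup.mem_normalizer_iff_map_conj_eq]
        show Subgroup.map (MulAut.conj ((y : G)⁻¹ * σ)).toMonoidHom E = E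
        have h3 : E.map (MulAut.conj σ).toMonoidHom = E.map (MulAut.conj (y : G)).toMonoidHom :=
          hEσ.trans (h.trans hEy.symm)
        rw [map_mul, show (MulAut.conj (y : G)⁻¹ * MulAut.conj σ).toMonoidHom =
          (MulAut.conj (y : G)⁻¹).toMonoidHom.comp (MulAut.conj σ).toMonoidHom from rfl,
          ← Subgroup.map_map, h3, Subgroup.map_map]
        convert Subgroup.map_id E
        ext x
        simp [mul_assoc]
      · exact Subgroup.le_centralizer_iff.mp (h.trans inf_le_right)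
    have hcW : c ∈ Subgroup.centralizer (W : Set G) := by
      refine Subgroup.mem_centralizer_iff.mpr fun w hw => ?_
      have h1 : σ * w * σ⁻¹ * c = c * (σ * w * σ⁻¹) :=
        Subgroup.mem_centralizer_iff.mp (hout hcM) _ (hWσ ▸ ⟨w, hw, rfl⟩)
      have h2 : c = σ * c * σ⁻¹ := by
        rw [Subgroup.mem_centralizer_iff.mp hcP σ hσ]; group
      calc w * c = σ⁻¹ * (σ * w * σ⁻¹ * (σ * c * σ⁻¹)) * σ := by group
        _ = σ⁻¹ * (σ * w * σ⁻¹ * c) * σ := by rw [← h2]
        _ = σ⁻¹ * (c * (σ * w * σ⁻¹)) * σ := by rw [h1]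
        _ = σ⁻¹ * (σ * c * σ⁻¹ * (σ * w * σ⁻¹)) * σ := by rw [← h2]
        _ = c * w := by group
    refine he₀1 (hnot e₀ (Subgroup.mem_sup_left he₀) ⟨offE_le O.setup hA (Subgroup.mem_sup_left he₀), ?_⟩)
    have h4 := Subgroup.mul_mem _ hcW (Subgroup.inv_mem _ hf.2)
    simpa using h4
  -- hence normalises it
  have hPE : P ≤ Subgroup.normalizer (E : Set G) := by
    set L := (P ⊔ Y) ⊓ Subgroup.normalizer (E : Set G) with hL
    set G₀ := P ⊔ Y with hG₀
    have hYset : ∀ g ∈ G₀, ∃ y ∈ Y, y⁻¹ * g ∈ L := by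
      intro g hg
      have hg' : g ∈ ((Y ⊔ P : Subgroup G) : Set G) := by rw [sup_comm]; exact hg
      rw [Subgroup.coe_mul_of_left_le_normalizer_right _ _ hYP] at hg'
      obtain ⟨y, hy, σ, hσ, rfl⟩ := hg'
      obtain ⟨y', hy', hn⟩ := horb σ hσ
      exact ⟨y * y', mul_mem hy hy', ⟨G₀.mul_mem (G₀.inv_mem (Subgroup.mem_sup_right (Y.mul_mem hy hy'))) hg,
        by simpa [mul_assoc] using hn⟩⟩
    have hidx : L.relIndex G₀ = L.relIndex Y := by
      refine le_antisymm ?_ (Subgroup.relIndex_le_of_le_right le_sup_right (by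
        exact Subgroup.index_ne_zero_of_finite))
      refine Nat.card_le_card_of_surjective
        (Quotient.map' (fun y : ↥Y => (⟨y, Subgroup.mem_sup_right y.2⟩ : ↥G₀)) fun a b hab => ?_) ?_
      · rw [QuotientGroup.leftRel_apply] at hab ⊢
        exact hab
      · rintro ⟨g⟩
        obtain ⟨y, hy, hyg⟩ := hYset g g.2
        exact ⟨QuotientGroup.mk ⟨y, hy⟩, Quotient.sound' (by
          rw [QuotientGroup.leftRel_apply]; exact hyg)⟩
    obtain ⟨i, hi⟩ := (O.qGroup.exists_card_eq)
    obtain ⟨j, hj⟩ := hP.exists_card_eq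
    have hPn : L ≤ Subgroup.normalizer (P : Set G) :=
      inf_le_left.trans (sup_le Subgroup.le_normalizer hYP)
    have h1 := card_sup_mul_card_inf hPn
    have h2 : Nat.card ↥(L ⊔ P : Subgroup G) ∣ Nat.card ↥G₀ :=
      Subgroup.card_dvd_of_le (sup_le inf_le_left le_sup_left)
    have h3 : Nat.card ↥L * L.relIndex G₀ = Nat.card ↥G₀ := by
      rw [Subgroup.relIndex,
        ← Nat.card_congr (Subgroup.subgroupOfEquivOfLe (inf_le_left : L ≤ G₀)).toEquiv,
        Subgroup.card_mul_index]
    have h4 : Nat.card ↥(L ⊓ P : Subgroup G) * (L ⊓ P).relIndex P = Nat.card ↥P := by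
      rw [Subgroup.relIndex,
        ← Nat.card_congr (Subgroup.subgroupOfEquivOfLe (inf_le_right : L ⊓ P ≤ P)).toEquiv,
        Subgroup.card_mul_index]
    have h5 : Nat.card ↥(L ⊔ P : Subgroup G) = Nat.card ↥L * (L ⊓ P).relIndex P := by
      rw [← h4] at h1
      refine Nat.eq_of_mul_eq_mul_right (Nat.card_pos (α := (L ⊓ P : Subgroup G))) ?_
      linarith
    rw [h5, ← h3, hidx] at h2
    have h6 := (Nat.dvd_of_mul_dvd_mul_left Nat.card_pos h2)
    have h7 : (L ⊓ P).relIndex P = 1 := Nat.eq_one_of_dvd_coprimes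
      (((Nat.coprime_primes hp.out hq.out).2 hpq).pow j i)
      (hj ▸ Subgroup.card_mul_index ((L ⊓ P).subgroupOf P) ▸ dvd_mul_left _ _)
      (h6.trans (hi ▸ Subgroup.card_mul_index (L.subgroupOf Y) ▸ dvd_mul_left _ _))
    exact (Subgroup.relIndex_eq_one.1 h7).trans (inf_le_left.trans inf_le_right)
  intro σ hσ
  refine Subgroup.mem_centralizer_iff.mpr fun e he => ?_
  obtain ⟨c, hcH, hcP, hf, -⟩ := hlift e he
  have hσW : σ ∈ Subgroup.normalizer (W : Set G) :=
    normalizer_W_of_normalizer hPV hPE hσ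
  have heσ : σ * e * σ⁻¹ ∈ E :=
    (Subgroup.mem_normalizer_iff.mp (hPE hσ) e).mp (Subgroup.mem_sup_left he)
  have hfσ : σ * (e⁻¹ * c) * σ⁻¹ ∈ Subgroup.centralizer (W : Set G) := by
    refine Subgroup.mem_centralizer_iff.mpr fun w hw => ?_
    have hw' : σ⁻¹ * w * σ ∈ W := (Subgroup.mem_normalizer_iff''.mp hσW w).mp hw
    have h0 := Subgroup.mem_centralizer_iff.mp hf.2 _ hw'
    calc w * (σ * (e⁻¹ * c) * σ⁻¹) = σ * (σ⁻¹ * w * σ * (e⁻¹ * c)) * σ⁻¹ := by group
      _ = σ * ((e⁻¹ * c) * (σ⁻¹ * w * σ)) * σ⁻¹ := by rw [h0]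
      _ = σ * (e⁻¹ * c) * σ⁻¹ * w := by group
  have h8 : (σ * e * σ⁻¹)⁻¹ * c ∈ Subgroup.centralizer (W : Set G) := by
    have h9 : σ * c * σ⁻¹ = c := by rw [Subgroup.mem_centralizer_iff.mp hcP σ hσ]; group
    have h10 : σ * (e⁻¹ * c) * σ⁻¹ = (σ * e * σ⁻¹)⁻¹ * (σ * c * σ⁻¹) := by group
    rwa [h10, h9] at hfσ
  have h11 : e⁻¹ * (σ * e * σ⁻¹) = 1 := by
    refine hnot _ (mul_mem (inv_mem (Subgroup.mem_sup_left he)) heσ)
      ⟨offE_le O.setup hA (mul_mem (inv_mem (Subgroup.mem_sup_left he)) heσ), ?_⟩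
    have h12 := Subgroup.mul_mem _ hf.2 (Subgroup.inv_mem _ h8)
    simpa [mul_assoc] using h12
  have h13 := inv_mul_eq_one.mp h11
  calc e * σ = σ * e * σ⁻¹ * σ := by rw [← h13]
    _ = σ * e := by group

end Cfsg.Agent.Lib.Signalizer.LayerCore
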