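import Cfsg.Agent.Lib.Signalizer.Cases

/-!
# Tools for the minimal counterexample

Owner: helper33. Namespace `Cfsg.Agent.Lib.Signalizer`.
* `zc t H`: the centre of `O_t(H)`; `Mixed H`: two cores are nontrivial;
* `Ctx.qc_le_of_zc`, `Ctx.eq_of_mixed`: comparison of mixed maximal members;
* `Ctx.inf_le_qc_of_colours`, `Ctx.le_normalizer_ustar`, `Ctx.le_normalizer_ustar_of_two`: when
  `θ(B)` normalises `U*_x`;
* `Ctx.false_of_points`, `Ctx.false_of_normalizers`, `Ctx.false_of_two_planes`: contradictions;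
* `Reg`: some core for an odd prime is moved; `Pr`: the primes of the values.
-/

set_option autoImplicit false
set_option linter.style.haveILetI false
set_option linter.unusedSectionVars false

open Cfsg
open scoped commutatorElement Pointwise

namespace Cfsg.Agent.Lib.Signalizer

variable {G : Type*} [Group G] [Finite G] {p : ℕ} [hp : Fact p.Prime] {A : Subgroup G}
  {θ : G → Subgroup G}

/-! ### Cores of solvable subgroups -/

theorem mem_centralizer_qc_of_fitting {H : Subgroup G} {x : ↥H}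
    (h : ∀ t : ℕ, t.Prime → (x : G) ∈ Subgroup.centralizer (qc t H : Set G)) :
    x ∈ Subgroup.centralizer (fittingSubgroup ↥H : Set ↥H) := by
  refine Subgroup.mem_centralizer_iff.2 fun y hy => ?_
  rw [Cores.fittingSubgroup_eq_iSup_pCore] at hy
  refine Subgroup.mem_centralizer_singleton_iff.1 ((iSup_le fun t => ?_ :
    (⨆ t : Nat.Primes, pCore (t : ℕ) ↥H) ≤ Subgroup.centralizer {x}) hy)
  intro v hv
  exact Subgroup.mem_centralizer_singleton_iff.2 (Subtype.ext
    (Subgroup.mem_centralizer_iff.1 (h t t.2) v (Subgroup.mem_map_of_mem _ hv)))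

/-- An `x`-subgroup centralising every core lies in `O_x`. -/
theorem le_qc_of_centralizes {H R : Subgroup G} {x : ℕ} [hx : Fact x.Prime]
    (hs : Group.IsSolvable ↥H) (hRH : R ≤ H) (hR : IsPGroup x ↥R)
    (h : ∀ t : ℕ, t.Prime → R ≤ Subgroup.centralizer (qc t H : Set G)) : R ≤ qc x H := by
  haveI := hs
  intro r hr
  set r' : ↥H := ⟨r, hRH hr⟩
  have h1 : r' ∈ fittingSubgroup ↥H := Cores.centralizer_fittingSubgroup_le
    (mem_centralizer_qc_of_fitting fun t ht => h t ht hr)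
  haveI : Group.IsNilpotent ↥(fittingSubgroup ↥H) := Cores.fittingSubgroup_isNilpotent
  obtain ⟨k, hk⟩ := hR ⟨r, hr⟩
  have hzq : IsPGroup x ↥(Subgroup.zpowers r') := by
    obtain ⟨j, -, hj⟩ := (Nat.dvd_prime_pow hx.out).1 (orderOf_dvd_of_pow_eq_one
      (show r' ^ x ^ k = 1 from Subtype.ext (by simpa [r'] using congrArg Subtype.val hk)))
    exact IsPGroup.of_card (by rw [Nat.card_zpowers, hj])
  exact Subgroup.mem_map_of_mem _ (Cores.IsSubnormal.le_pCore (Subgroup.IsSubnormal.trans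
    (Subgroup.zpowers_le.2 h1) (SubnormSet.isSubnormal_of_isNilpotent _)
    (Subgroup.Normal.isSubnormal inferInstance)) hzq (Subgroup.mem_zpowers r'))

omit [Finite G] in
/-- If `C` centralises the `R`-invariant `V` then `⁅R, C⁆` centralises `V`. -/
theorem commutator_centralizes {R C V : Subgroup G} (hV : V ≤ Subgroup.centralizer (C : Set G))
    (hR : R ≤ Subgroup.normalizer (V : Set G)) :
    ⁅R, C⁆ ≤ Subgroup.centralizer (V : Set G) := by
  rw [← Subgroup.commutator_eq_bot_iff_le_centralizer]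
  apply Subgroup.commutator_commutator_eq_bot_of_rotate
  · rw [Subgroup.commutator_comm C, Subgroup.commutator_eq_bot_iff_le_centralizer.2 hV,
      Subgroup.commutator_bot_left]
  · rw [Subgroup.commutator_eq_bot_iff_le_centralizer]
    refine le_trans ?_ hV
    rw [Subgroup.commutator_comm, Subgroup.commutator_le]
    intro r hr v hv
    rw [commutatorElement_def]
    exact mul_mem ((Subgroup.mem_normalizer_iff.1 (hR hr) _).1 hv) (inv_mem hv)

omit [Finite G] in
theorem commutator_centralizes' {R C V : Subgroup G} (hR : R ≤ Subgroup.centralizer (V : Set G))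
    (hC : C ≤ Subgroup.normalizer (V : Set G)) :
    ⁅R, C⁆ ≤ Subgroup.centralizer (V : Set G) := by
  rw [Subgroup.commutator_le]
  intro r hr c hc
  rw [commutatorElement_def, show r * c * r⁻¹ * c⁻¹ = r * (c * r⁻¹ * c⁻¹) by group]
  exact mul_mem (hR hr) (le_normalizer_iff_conj_mem.1 (le_normalizer_centralizer' hC) c hc _
    (inv_mem (hR hr)))

/-- A coprime group centralising every core of a solvable group centralises it. -/
theorem le_centralizer_of_cores {H C : Subgroup G} (hs : Group.IsSolvable ↥H)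
    (hn : C ≤ Subgroup.normalizer (H : Set G)) (hcop : (Nat.card ↥C).Coprime (Nat.card ↥H))
    (h : ∀ t : ℕ, t.Prime → qc t H ≤ Subgroup.centralizer (C : Set G)) :
    H ≤ Subgroup.centralizer (C : Set G) := by
  haveI := hs
  set D := ⁅H, C⁆ with hD
  have hDH : D ≤ H := Coprime.commutator_le_of_le_normalizer hn
  have hDc : ∀ t : ℕ, t.Prime → D ≤ Subgroup.centralizer (qc t H : Set G) := fun t ht =>
    commutator_centralizes (h t ht) (le_normalizer_qc H)
  have hFC : (fittingSubgroup ↥H).map H.subtype ≤ Subgroup.centralizer (C : Set G) := by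
    rw [Cores.fittingSubgroup_eq_iSup_pCore, Subgroup.map_iSup]
    exact iSup_le fun t => h t t.2
  have hDC : D ≤ Subgroup.centralizer (C : Set G) := by
    rw [← Subgroup.map_subgroupOf_eq_of_le hDH]
    exact (Subgroup.map_mono (le_trans (fun x hx => mem_centralizer_qc_of_fitting
      fun t ht => hDc t ht hx) Cores.centralizer_fittingSubgroup_le)).trans hFC
  rw [← Subgroup.commutator_eq_bot_iff_le_centralizer,
    ← Coprime.commutator_commutator_eq hn hcop (Or.inr hs),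
    Subgroup.commutator_eq_bot_iff_le_centralizer]
  exact hDC

/-- A nontrivial solvable group has a nontrivial core. -/
theorem exists_qc_ne_bot {H : Subgroup G} (hs : Group.IsSolvable ↥H) (hne : H ≠ ⊥) :
    ∃ t : ℕ, t.Prime ∧ qc t H ≠ ⊥ := by
  by_contra hall
  push Not at hall
  haveI := hs
  haveI : Nontrivial ↥H := (Subgroup.nontrivial_iff_ne_bot H).2 hne
  refine Cores.fittingSubgroup_ne_bot (G := ↥H) (le_bot_iff.1 ?_)
  rw [Cores.fittingSubgroup_eq_iSup_pCore]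
  exact iSup_le fun t => le_of_eq ((Subgroup.map_eq_bot_iff_of_injective _
    H.subtype_injective).1 (hall t t.2))

/-- The centre of `O_t(H)`. -/
def zc (t : ℕ) (H : Subgroup G) : Subgroup G :=
  qc t H ⊓ Subgroup.centralizer (qc t H : Set G)

/-- Two cores are nontrivial. -/
def Mixed (H : Subgroup G) : Prop :=
  ∃ s u : ℕ, s.Prime ∧ u.Prime ∧ s ≠ u ∧ qc s H ≠ ⊥ ∧ qc u H ≠ ⊥

omit [Finite G] in
theorem Mixed.other {H : Subgroup G} (hH : Mixed H) (x : ℕ) :
    ∃ w : ℕ, w.Prime ∧ w ≠ x ∧ qc w H ≠ ⊥ := by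
  obtain ⟨s, u, hs, hu, hsu, hs1, hu1⟩ := hH
  by_cases h : s = x
  · exact ⟨u, hu, fun e => hsu (h.trans e.symm), hu1⟩
  · exact ⟨s, hs, h, hs1⟩

omit [Finite G] in
theorem normalizer_le_normalizer_zc {t : ℕ} (H : Subgroup G) :
    Subgroup.normalizer (H : Set G) ≤ Subgroup.normalizer (zc t H : Set G) :=
  le_normalizer_inf' (normalizer_le_normalizer_qc H)
    (le_normalizer_centralizer' (normalizer_le_normalizer_qc H))

omit [Finite G] in
theorem le_normalizer_zc {t : ℕ} (H : Subgroup G) : H ≤ Subgroup.normalizer (zc t H : Set G) :=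
  Subgroup.le_normalizer.trans (normalizer_le_normalizer_zc H)

/-- `A` has a nontrivial element `a` moving some core for an odd prime. -/
def Reg (p : ℕ) (A : Subgroup G) (θ : G → Subgroup G) (a : G) : Prop :=
  ∃ (M : Subgroup G) (q : ℕ), M ∈ signalizerFamily p A θ ∧ θ a ≤ M ∧ q.Prime ∧ q ≠ 2 ∧
    mv q M a ≠ ⊥

/-- `t` is a prime of the values. -/
def Pr (A : Subgroup G) (θ : G → Subgroup G) (t : ℕ) : Prop :=
  t.Prime ∧ ∃ a ∈ A, a ≠ 1 ∧ t ∣ Nat.card ↥(θ a)

/-! ### Subgroups of order `p²` -/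

theorem card_sup_zpowers (hA : IsElementaryAbelian p A) {u v : G} (hu : u ∈ A) (hv : v ∈ A)
    (hu1 : u ≠ 1) (hvu : v ∉ Subgroup.zpowers u) :
    Nat.card ↥(Subgroup.zpowers u ⊔ Subgroup.zpowers v) = p ^ 2 := by
  haveI := hA.1
  have hc : ∀ {w : G}, w ∈ A → w ≠ 1 → Nat.card ↥(Subgroup.zpowers w) = p := fun hw hw1 => by
    rw [Nat.card_zpowers]; exact orderOf_eq_prime (PGroups.elemAb_pow hA hw) hw1
  have hv1 : v ≠ 1 := fun e => hvu (e ▸ one_mem _)
  have hn : Subgroup.zpowers u ≤ Subgroup.normalizer (Subgroup.zpowers v : Set G) :=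
    (Subgroup.zpowers_le.2 (Subgroup.centralizer_le_normalizer (Subgroup.zpowers v : Set G)
      (Subgroup.mem_centralizer_iff.2 fun b hb =>
        PGroups.elemAb_comm hA ((Subgroup.zpowers_le.2 hv : _ ≤ A) hb) hu)))
  have hd : Disjoint (Subgroup.zpowers u) (Subgroup.zpowers v) := by
    refine Subgroup.disjoint_def.2 fun {x} hxu hxv => ?_
    by_contra hx1
    have hxA : x ∈ A := (Subgroup.zpowers_le.2 hu : _ ≤ A) hxu
    have e : Subgroup.zpowers x = Subgroup.zpowers v :=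
      Subgroup.eq_of_le_of_card_ge (Subgroup.zpowers_le.2 hxv) (by rw [hc hv hv1, hc hxA hx1])
    exact hvu ((Subgroup.zpowers_le.2 hxu) (e.ge (Subgroup.mem_zpowers v)))
  rw [Coprime.card_sup_of_disjoint hn hd, hc hu hu1, hc hv hv1, pow_two]

namespace Ctx

variable (h : Ctx p A θ)
include h

theorem hyp_of_card {B : Subgroup G} (hB : B ≤ A) (hc : Nat.card ↥B = p ^ 2) : Hyp p A B := by
  refine ⟨hB, le_of_eq ?_⟩
  have h1 := Subgroup.card_mul_index (B.subgroupOf A)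
  rw [Nat.card_congr (Subgroup.subgroupOfEquivOfLe hB).toEquiv, hc, h.card_eq, pow_succ] at h1
  exact Nat.eq_of_mul_eq_mul_left (pow_pos hp.out.pos 2) h1

theorem eq_or_card_of_hyp {B : Subgroup G} (hB : Hyp p A B) :
    B = A ∨ Nat.card ↥B = p ^ 2 := by
  rcases eq_or_ne B A with h1 | h1
  · exact Or.inl h1
  refine Or.inr ?_
  obtain ⟨m, hm⟩ := IsPGroup.iff_card.1 ((PGroups.elemAb_isPGroup h.elem).to_le hB.1)
  have hlt : Nat.card ↥B < Nat.card ↥A := lt_of_not_ge fun hge =>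
    h1 (Subgroup.eq_of_le_of_card_ge hB.1 hge)
  have h2 := hyp_card h.rank hB
  rw [hm, h.card_eq, Nat.pow_lt_pow_iff_right hp.out.one_lt] at hlt
  rw [hm] at h2 ⊢
  rw [Nat.pow_le_pow_iff_right hp.out.one_lt] at h2
  rw [show m = 2 by omega]

theorem card_of_hyp_not_mem {B : Subgroup G} (hB : Hyp p A B) {c : G} (hc : c ∈ A) (hcB : c ∉ B) :
    Nat.card ↥B = p ^ 2 :=
  (h.eq_or_card_of_hyp hB).resolve_left fun e => hcB (e ▸ hc)

theorem eq_sup_zpowers {B : Subgroup G} (hB : B ≤ A) (hc : Nat.card ↥B = p ^ 2) {u v : G}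
    (hu : u ∈ B) (hv : v ∈ B) (hu1 : u ≠ 1) (hvu : v ∉ Subgroup.zpowers u) :
    Subgroup.zpowers u ⊔ Subgroup.zpowers v = B :=
  Subgroup.eq_of_le_of_card_ge (sup_le (Subgroup.zpowers_le.2 hu) (Subgroup.zpowers_le.2 hv))
    (by rw [hc, card_sup_zpowers h.elem (hB hu) (hB hv) hu1 hvu])

theorem exists_two_planes : ∃ B₁ B₂ : Subgroup G, B₁ ≤ A ∧ B₂ ≤ A ∧ Nat.card ↥B₁ = p ^ 2 ∧
    Nat.card ↥B₂ = p ^ 2 ∧ B₁ ≠ B₂ := by
  obtain ⟨a, ha, ha1⟩ := exists_ne_one_of_hyp h.rank (hyp_self (p := p) (A := A))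
  have hca : Nat.card ↥(Subgroup.zpowers a) = p := by
    rw [Nat.card_zpowers]; exact orderOf_eq_prime (PGroups.elemAb_pow h.elem ha) ha1
  obtain ⟨b, hb, hba⟩ : ∃ b ∈ A, b ∉ Subgroup.zpowers a := by
    by_contra hall
    push Not at hall
    have h1 := Subgroup.card_le_of_le (fun x hx => hall x hx : A ≤ Subgroup.zpowers a)
    rw [h.card_eq, hca] at h1
    exact absurd h1 (not_le_of_gt (by nlinarith [hp.out.two_le, pow_succ p 2]))
  have hc1 := card_sup_zpowers h.elem ha hb ha1 hba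
  obtain ⟨c, hc, hcB⟩ : ∃ c ∈ A, c ∉ Subgroup.zpowers a ⊔ Subgroup.zpowers b := by
    by_contra hall
    push Not at hall
    have h1 := Subgroup.card_le_of_le
      (fun x hx => hall x hx : A ≤ Subgroup.zpowers a ⊔ Subgroup.zpowers b)
    rw [h.card_eq, hc1] at h1
    exact absurd h1 (not_le_of_gt (Nat.pow_lt_pow_right hp.out.one_lt (by norm_num)))
  refine ⟨_, Subgroup.zpowers a ⊔ Subgroup.zpowers c,
    sup_le (Subgroup.zpowers_le.2 ha) (Subgroup.zpowers_le.2 hb),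
    sup_le (Subgroup.zpowers_le.2 ha) (Subgroup.zpowers_le.2 hc), hc1,
    card_sup_zpowers h.elem ha hc ha1 fun hca => hcB (Subgroup.mem_sup_left hca), fun e => ?_⟩
  exact hcB (e ▸ Subgroup.mem_sup_right (Subgroup.mem_zpowers c))

/-- Two planes and a point outside their meet span a third plane. -/
theorem exists_meet_of_planes {B₁ B₂ B : Subgroup G} (hB₁ : B₁ ≤ A) (hB₂ : B₂ ≤ A)
    (hc₁ : Nat.card ↥B₁ = p ^ 2) (hc₂ : Nat.card ↥B₂ = p ^ 2) (hne : B₁ ≠ B₂) {c : G}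
    (hc : c ∈ B₁) (hc' : c ∈ B₂) (hB : Hyp p A B) (hcB : c ∉ B) :
    ∃ u v, (u ∈ B₁ ∧ u ≠ 1) ∧ (v ∈ B₂ ∧ v ≠ 1) ∧ v ∉ Subgroup.zpowers u ∧
      Subgroup.zpowers u ⊔ Subgroup.zpowers v = B := by
  obtain ⟨u, huB, hu, hu1⟩ := exists_ne_one_inf h.rank hB (h.hyp_of_card hB₁ hc₁)
  obtain ⟨v, hvB, hv, hv1⟩ := exists_ne_one_inf h.rank hB (h.hyp_of_card hB₂ hc₂)
  have hcu : c ∉ Subgroup.zpowers u := fun e => hcB ((Subgroup.zpowers_le.2 huB) e)
  have hvu : v ∉ Subgroup.zpowers u := by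
    intro e
    have he : Subgroup.zpowers v = Subgroup.zpowers u :=
      Subgroup.eq_of_le_of_card_ge (Subgroup.zpowers_le.2 e) (by
        rw [Nat.card_zpowers, Nat.card_zpowers,
          orderOf_eq_prime (PGroups.elemAb_pow h.elem (hB.1 huB)) hu1,
          orderOf_eq_prime (PGroups.elemAb_pow h.elem (hB.1 hvB)) hv1])
    have hu₂ : u ∈ B₂ := (Subgroup.zpowers_le.2 hv) (he ▸ Subgroup.mem_zpowers u)
    exact hne ((h.eq_sup_zpowers hB₁ hc₁ hu hc hu1 hcu).symm.trans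
      (h.eq_sup_zpowers hB₂ hc₂ hu₂ hc' hu1 hcu))
  exact ⟨u, v, ⟨hu, hu1⟩, ⟨hv, hv1⟩, hvu,
    h.eq_sup_zpowers hB.1 (h.card_of_hyp_not_mem hB (hB₁ hc) hcB) huB hvB hu1 hvu⟩

/-! ### Members -/

theorem zc_mem {H : Subgroup G} (hH : H ∈ signalizerFamily p A θ) (t : ℕ) :
    zc t H ∈ signalizerFamily p A θ := h.center_mem (h.qc_mem hH t)

theorem ctl_zc {H : Subgroup G} (hH : IsMaxMem p A θ H) {t : ℕ} [Fact t.Prime] (hne : qc t H ≠ ⊥) :
    Ctl p A θ (zc t H) H :=
  h.ctl_of_normal hH (h.zc_mem hH.1 t) (h.center_ne_bot (qc_isPGroup H) hne) (le_normalizer_zc H)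

theorem signalizerInf_le_normalizer_pstar {x : ℕ} {B : Subgroup G} (hB : Hyp p A B) :
    signalizerInf B θ ≤ Subgroup.normalizer (pstar x θ B : Set G) := by
  refine le_normalizer_iff_conj_mem.2 fun y hy z hz => mem_pstar.2 ⟨?_, fun b hb hb1 => ?_⟩
  · exact mul_mem (mul_mem hy (mem_pstar.1 hz).1) (inv_mem hy)
  · exact le_normalizer_iff_conj_mem.1
      (le_normalizer_qc (θ b)) y (signalizerInf_le hb hb1 hy) z ((mem_pstar.1 hz).2 b hb hb1)

theorem signalizerInf_le_normalizer_ustar {x : ℕ} :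
    signalizerInf A θ ≤ Subgroup.normalizer (ustar p A θ x : Set G) := by
  intro c hc
  rw [Subgroup.mem_normalizer_iff_map_conj_eq, ustar, Subgroup.map_iSup]
  refine iSup_congr fun B => ?_
  rw [Subgroup.map_iSup]
  exact iSup_congr fun hB => Subgroup.mem_normalizer_iff_map_conj_eq.1
    (h.signalizerInf_le_normalizer_pstar hB (signalizerInf_anti hB.1 hc))

theorem inf_mem {U V : Subgroup G} (hU : U ∈ signalizerFamily p A θ)
    (hV : A ≤ Subgroup.normalizer (V : Set G)) : U ⊓ V ∈ signalizerFamily p A θ :=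
  h.mem_of_le hU inf_le_left (le_normalizer_inf' (le_normalizer_of_mem hU) hV)

theorem pr_of_dvd {U : Subgroup G} (hU : U ∈ signalizerFamily p A θ) {t : ℕ} [ht : Fact t.Prime]
    (hd : t ∣ Nat.card ↥U) : Pr A θ t := by
  obtain ⟨S, -, hAS⟩ := Coprime.exists_invariant_sylow_ge (le_normalizer_of_mem hU)
    (coprime_card_family h.elem hU) (Or.inr hU.1) t ⊥ bot_le IsPGroup.of_bot (fun g _ => by
      rw [Subgroup.mem_normalizer_iff_map_conj_eq, Subgroup.map_bot])
  have hSm := h.mem_of_le hU (Subgroup.map_subtype_le (S : Subgroup ↥U)) hAS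
  set S' := (S : Subgroup ↥U).map U.subtype with hS'
  have hS0 : S' ≠ ⊥ := by
    intro e
    rw [hS', Subgroup.map_eq_bot_iff_of_injective _ U.subtype_injective] at e
    refine S.not_dvd_index ?_
    rw [e, Subgroup.index_bot]
    exact hd
  by_contra hne
  refine hS0 (le_bot_iff.1 (h.le_of_hyp_mem hSm fun B hB x hx => ?_))
  obtain ⟨b, hb, hb1⟩ := exists_ne_one_of_hyp h.rank hB
  obtain ⟨k, hk⟩ := (S.isPGroup'.map U.subtype) ⟨x, hx.1⟩
  rw [Subgroup.mem_bot, ← orderOf_eq_one_iff]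
  refine Nat.eq_one_of_dvd_coprimes (Nat.Coprime.pow_right k ((ht.out.coprime_iff_not_dvd.2
      fun hdb => hne ⟨ht.out, b, hB.1 hb, hb1, hdb⟩)).symm)
    (Subgroup.orderOf_dvd_natCard _ (hSm.2.2.2 b (hB.1 hb) hb1 ⟨hx.1,
      Subgroup.mem_centralizer_singleton_iff.2 (Subgroup.mem_centralizer_iff.1 hx.2 b hb).symm⟩))
    (orderOf_dvd_of_pow_eq_one (by simpa using congrArg Subtype.val hk))

theorem pr_of_qc {U : Subgroup G} (hU : U ∈ signalizerFamily p A θ) {t : ℕ} [Fact t.Prime]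
    (hne : qc t U ≠ ⊥) : Pr A θ t := h.pr_of_dvd hU (h.qc_dvd hne)

theorem pr_of_ustar {t : ℕ} [ht : Fact t.Prime] (hne : ustar p A θ t ≠ ⊥) : Pr A θ t := by
  refine h.pr_of_dvd (h.ustar_mem' (q := t)).1 ?_
  obtain ⟨n, hn⟩ := IsPGroup.iff_card.1 (h.ustar_mem' (q := t)).2
  rcases Nat.eq_zero_or_pos n with rfl | hpos
  · exact absurd (Subgroup.eq_bot_of_card_eq _ (by simpa using hn)) hne
  · exact hn ▸ dvd_pow_self t hpos.ne'

theorem pr_ne_p {t : ℕ} (ht : Pr A θ t) : t ≠ p := by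
  obtain ⟨-, a, ha, ha1, hd⟩ := ht
  exact h.ne_of_dvd (h.theta_mem ha ha1) hd

/-! ### Comparison of maximal members -/

/-- If the centres of two cores of the maximal `H` lie in `J` then `O_u(J) ≤ H`. -/
theorem qc_le_of_zc {H J : Subgroup G} (hH : IsMaxMem p A θ H) (hJ : J ∈ signalizerFamily p A θ)
    {s u : ℕ} [hs : Fact s.Prime] [hu : Fact u.Prime] (hsu : s ≠ u) (hsH : qc s H ≠ ⊥)
    (huH : qc u H ≠ ⊥) (hzs : zc s H ≤ J) (hzu : zc u H ≤ J) : qc u J ≤ H := by
  refine h.centralizing_le (h.ctl_zc hH hsH) (h.qc_mem hJ u) ?_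
  rw [Subgroup.le_centralizer_iff]
  intro z hz
  refine Balance.mem_centralizer_pGroup (p := u) (P := zc u H) (qc_isPGroup J)
    ((qc_isPGroup H).to_le inf_le_left) (hzu.trans (le_normalizer_qc J))
    (le_normalizer_qc J (hzs hz)) ?_ ?_ ?_
  · obtain ⟨k, hk⟩ := qc_isPGroup (q := s) H ⟨z, hz.1⟩
    exact ((Nat.Coprime.pow_left k ((Nat.coprime_primes hs.out hu.out).2 hsu))).coprime_dvd_left
      (orderOf_dvd_of_pow_eq_one (by simpa using congrArg Subtype.val hk))
  · exact Subgroup.centralizer_le (inf_le_left : zc u H ≤ qc u H)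
      (h.qc_commute hsu (qc_le H) (qc_le H) hz.1)
  · intro w hw
    have hwH : w ∈ H := h.centralizing_le (h.ctl_zc hH huH)
      (h.inf_mem (h.qc_mem hJ u) (le_normalizer_centralizer' (le_normalizer_of_mem (h.zc_mem hH.1 u))))
      inf_le_right hw
    refine Subgroup.mem_centralizer_singleton_iff.2 ?_
    refine commutatorElement_eq_one_iff_mul_comm.1 (eq_one_of_pGroups hsu.symm (qc_isPGroup J)
      (qc_isPGroup H) (x := ⁅w, z⁆) ?_ ?_)
    · rw [commutatorElement_def, show w * z * w⁻¹ * z⁻¹ = w * (z * w⁻¹ * z⁻¹) by group]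
      exact mul_mem hw.1
        ((Subgroup.mem_normalizer_iff.1 (le_normalizer_qc J (hzs hz)) _).1 (inv_mem hw.1))
    · rw [commutatorElement_def]
      exact mul_mem ((Subgroup.mem_normalizer_iff.1 (le_normalizer_qc H hwH) _).1 hz.1) (inv_mem hz.1)

/-- Each core of a mixed maximal `M` lies in that of `H`, if their cores lie in each other. -/
theorem qc_le_qc_of_mixed {M H : Subgroup G} (hM : IsMaxMem p A θ M) (hH : IsMaxMem p A θ H)
    (hMm : Mixed M) (hMH : ∀ t : ℕ, t.Prime → qc t M ≤ H) (hHM : ∀ t : ℕ, t.Prime → qc t H ≤ M)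
    {x : ℕ} [hx : Fact x.Prime] : qc x M ≤ qc x H := by
  haveI := hH.1.1
  obtain ⟨w, hw, hwx, hY⟩ := hMm.other x
  haveI := Fact.mk hw
  set X := qc x M with hX
  set Y := qc w M with hYdef
  set C := H ⊓ ⨅ u : {u : ℕ // u.Prime ∧ u ≠ x}, Subgroup.centralizer (qc (u : ℕ) H : Set G) with hC
  have hCc : ∀ u : ℕ, u.Prime → u ≠ x → C ≤ Subgroup.centralizer (qc u H : Set G) := fun u hu hux =>
    inf_le_right.trans (iInf_le_of_le ⟨u, hu, hux⟩ le_rfl)
  have hnorm : Subgroup.normalizer (H : Set G) ≤ Subgroup.normalizer (C : Set G) := by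
    refine le_normalizer_iff_conj_mem.2 fun g hg z hz =>
      ⟨(Subgroup.mem_normalizer_iff.1 hg z).1 hz.1, Subgroup.mem_iInf.2 fun u => ?_⟩
    exact le_normalizer_iff_conj_mem.1
      (le_normalizer_centralizer' (normalizer_le_normalizer_qc H)) g hg z (Subgroup.mem_iInf.1 hz.2 u)
  have hXC : X ≤ C := le_inf (hMH x hx.out) (le_iInf fun u => haveI := Fact.mk u.2.1
    h.qc_commute u.2.2.symm (hMH x hx.out) (hHM u u.2.1))
  have hYx : Y ≤ Subgroup.centralizer (qc x H : Set G) :=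
    h.qc_commute hwx (hMH w hw) (hHM x hx.out)
  have hXY : X ≤ Subgroup.centralizer (Y : Set G) := h.qc_commute hwx.symm (qc_le M) (qc_le M)
  -- `X` centralises the conjugates of `Y` under `C`
  have hconj : ∀ c ∈ C, ∀ y ∈ Y, ∀ z ∈ X, z * (c * y * c⁻¹) = c * y * c⁻¹ * z := by
    intro c hc y hy z hz
    set g := c * y * c⁻¹ with hg
    have hgH : g ∈ H := mul_mem (mul_mem hc.1 (hMH w hw hy)) (inv_mem hc.1)
    have hgx : g ∈ Subgroup.centralizer (qc x H : Set G) :=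
      le_normalizer_iff_conj_mem.1 (le_normalizer_centralizer' (le_normalizer_qc H)) c hc.1 y (hYx hy)
    set f : ↥H := ⟨g, hgH⟩ * (⟨y, hMH w hw hy⟩ : ↥H)⁻¹ with hf
    have hfF : f ∈ fittingSubgroup ↥H := by
      refine Cores.centralizer_fittingSubgroup_le (mem_centralizer_qc_of_fitting fun u hu => ?_)
      show g * y⁻¹ ∈ _
      rcases eq_or_ne u x with rfl | hux
      · exact mul_mem hgx (inv_mem (hYx hy))
      · refine Subgroup.mem_centralizer_iff.2 fun v hv => ?_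
        have hcu := Subgroup.mem_centralizer_iff.1 (hCc u hu hux hc)
        have h1 : y⁻¹ * v * y ∈ qc u H := by
          simpa using (Subgroup.mem_normalizer_iff.1
            (inv_mem (le_normalizer_qc H (hMH w hw hy))) v).1 hv
        have e1 : c⁻¹ * v * c = v := by rw [mul_assoc, hcu v hv, ← mul_assoc, inv_mul_cancel, one_mul]
        have e2 : c * (y⁻¹ * v * y) * c⁻¹ = y⁻¹ * v * y := by
          rw [← hcu _ h1, mul_inv_cancel_right]
        have e3 : g⁻¹ * v * g = y⁻¹ * v * y := by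
          calc g⁻¹ * v * g = c * (y⁻¹ * (c⁻¹ * v * c) * y) * c⁻¹ := by rw [hg]; group
            _ = y⁻¹ * v * y := by rw [e1, e2]
        calc v * (g * y⁻¹) = g * (g⁻¹ * v * g) * y⁻¹ := by group
          _ = g * (y⁻¹ * v * y) * y⁻¹ := by rw [e3]
          _ = g * y⁻¹ * v := by group
    set π := QuotientGroup.mk' (pCore x ↥H)
    set z' : ↥H := ⟨z, (hXC hz).1⟩ with hz'
    have hzF : fittingSubgroup ↥H ≤ (Subgroup.centralizer {π z'}).comap π := by
      rw [Cores.fittingSubgroup_eq_iSup_pCore]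
      refine iSup_le fun u v hv => ?_
      rw [Subgroup.mem_comap, Subgroup.mem_centralizer_singleton_iff, ← map_mul, ← map_mul]
      by_cases hux : (u : ℕ) = x
      · rw [hux] at hv
        rw [map_mul, map_mul, show π v = 1 from (QuotientGroup.eq_one_iff v).2 hv, one_mul, mul_one]
      · exact congrArg π (Subtype.ext (Subgroup.mem_centralizer_iff.1 (hCc u u.2 hux (hXC hz)) v
          (Subgroup.mem_map_of_mem _ hv)))
    have hzf : π z' * π f = π f * π z' :=
      (Subgroup.mem_centralizer_singleton_iff.1 (hzF hfF)).symm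
    have hzy : z' * (⟨y, hMH w hw hy⟩ : ↥H) = ⟨y, hMH w hw hy⟩ * z' :=
      Subtype.ext (Subgroup.mem_centralizer_iff.1 (hXY hz) y hy).symm
    have hzg : π z' * π ⟨g, hgH⟩ = π ⟨g, hgH⟩ * π z' := by
      rw [show (⟨g, hgH⟩ : ↥H) = f * ⟨y, hMH w hw hy⟩ by rw [hf, inv_mul_cancel_right], map_mul]
      exact ((show Commute (π z') (π f) from hzf).mul_right
        ((show Commute z' (⟨y, hMH w hw hy⟩ : ↥H) from hzy).map π)).eq
    have ht : z * g * z⁻¹ * g⁻¹ ∈ qc x H := by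
      refine ⟨⁅z', (⟨g, hgH⟩ : ↥H)⁆, (QuotientGroup.eq_one_iff _).1 ?_, by
        simp [commutatorElement_def, hz']⟩
      show π _ = 1
      rw [map_commutatorElement, commutatorElement_eq_one_iff_mul_comm.2 hzg]
    set t := z * g * z⁻¹ * g⁻¹ with htdef
    obtain ⟨k, hk⟩ := qc_isPGroup (q := w) M ⟨y, hy⟩
    have hy1 : y ^ w ^ k = 1 := by simpa using congrArg Subtype.val hk
    have hg1 : g ^ w ^ k = 1 := by rw [hg, conj_pow, hy1, mul_one, mul_inv_cancel]
    have htg : Commute t g := Subgroup.mem_centralizer_iff.1 hgx t ht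
    have ht1 : t ^ w ^ k = 1 := by
      have e : (t * g) ^ w ^ k = 1 := by
        rw [show t * g = z * g * z⁻¹ by rw [htdef, inv_mul_cancel_right], conj_pow, hg1, mul_one,
          mul_inv_cancel]
      rwa [htg.mul_pow, hg1, mul_one] at e
    have : t = 1 := by
      obtain ⟨j, hj⟩ := qc_isPGroup (q := x) H ⟨t, ht⟩
      rw [← orderOf_eq_one_iff]
      exact Nat.eq_one_of_dvd_coprimes
        (Nat.Coprime.pow k j ((Nat.coprime_primes hw hx.out).2 hwx))
        (orderOf_dvd_of_pow_eq_one ht1)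
        (orderOf_dvd_of_pow_eq_one (by simpa using congrArg Subtype.val hj))
    rw [htdef, mul_inv_eq_one, mul_inv_eq_iff_eq_mul] at this
    exact this
  set K := Y ⊔ ⁅C, Y⁆ with hK
  have hCK : C ≤ Subgroup.normalizer (K : Set G) := by
    intro c hc
    rw [Subgroup.mem_normalizer_iff]
    refine fun z => ⟨fun hz => ?_, fun hz => ?_⟩
    swap
    · refine (?_ : K ≤ Subgroup.comap (MulAut.conj c⁻¹).toMonoidHom K) hz |> fun e => by
        simpa [mul_assoc] using e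
      refine sup_le (fun y hy => ?_) fun v hv => Subgroup.mem_sup_right ?_
      · rw [Subgroup.mem_comap]
        show c⁻¹ * y * c⁻¹⁻¹ ∈ K
        rw [show c⁻¹ * y * c⁻¹⁻¹ = ⁅c⁻¹, y⁆ * y by rw [commutatorElement_def]; group]
        exact mul_mem (Subgroup.mem_sup_right (Subgroup.commutator_mem_commutator (inv_mem hc) hy))
          (Subgroup.mem_sup_left hy)
      · exact le_normalizer_iff_conj_mem.1 (Coprime.left_le_normalizer_commutator C Y) _
          (inv_mem hc) v hv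
    · refine (?_ : K ≤ Subgroup.comap (MulAut.conj c).toMonoidHom K) hz
      refine sup_le (fun y hy => ?_) fun v hv => Subgroup.mem_sup_right ?_
      · rw [Subgroup.mem_comap]
        show c * y * c⁻¹ ∈ K
        rw [show c * y * c⁻¹ = ⁅c, y⁆ * y by rw [commutatorElement_def]; group]
        exact mul_mem (Subgroup.mem_sup_right (Subgroup.commutator_mem_commutator hc hy))
          (Subgroup.mem_sup_left hy)
      · exact le_normalizer_iff_conj_mem.1 (Coprime.left_le_normalizer_commutator C Y) c hc v hv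
  set D := C ⊓ Subgroup.centralizer (K : Set G) with hD
  have hXD : X ≤ D := by
    refine le_inf hXC (Subgroup.le_centralizer_iff.1 (sup_le (Subgroup.le_centralizer_iff.1 hXY) ?_))
    rw [Subgroup.commutator_le]
    intro c hc y hy
    refine Subgroup.mem_centralizer_iff.2 fun z hz => ?_
    have h1 : Commute z (c * y * c⁻¹) := hconj c hc y hy z hz
    have h2 : Commute z y := (Subgroup.mem_centralizer_iff.1 (hXY hz) y hy).symm
    rw [commutatorElement_def]
    exact (h1.mul_right h2.inv_right).eq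
  have hCA : A ≤ Subgroup.normalizer (C : Set G) := (le_normalizer_of_mem hH.1).trans hnorm
  have hYm : Y ∈ signalizerFamily p A θ := h.qc_mem hM.1 w
  have hKA : A ≤ Subgroup.normalizer (K : Set G) := fun a ha => by
    rw [Subgroup.mem_normalizer_iff_map_conj_eq, Subgroup.map_sup,
      Subgroup.mem_normalizer_iff_map_conj_eq.1 (le_normalizer_of_mem hYm ha),
      Subgroup.mem_normalizer_iff_map_conj_eq.1
        (Balance.le_normalizer_commutator hCA (le_normalizer_of_mem hYm) ha)]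
  have hDm : D ∈ signalizerFamily p A θ := h.mem_of_le hH.1 (inf_le_left.trans inf_le_left)
    (le_normalizer_inf' hCA (le_normalizer_centralizer' hKA))
  have hDM : D ≤ M := h.centralizing_le (h.ctl_qc hM hY) hDm
    (inf_le_right.trans (Subgroup.centralizer_le (le_sup_left : Y ≤ K)))
  refine ((le_qc hXD (hDM.trans (le_normalizer_qc M)) (qc_isPGroup M)).trans
    (qc_mono_normal inf_le_left (le_normalizer_inf' Subgroup.le_normalizer
      (le_normalizer_centralizer' hCK)))).trans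
    (qc_mono_normal inf_le_left (Subgroup.le_normalizer.trans hnorm))

/-- Mixed maximal members whose cores lie in each other are equal. -/
theorem eq_of_mixed {M H : Subgroup G} (hM : IsMaxMem p A θ M) (hH : IsMaxMem p A θ H)
    (hMm : Mixed M) (hHm : Mixed H) (hMH : ∀ t : ℕ, t.Prime → qc t M ≤ H)
    (hHM : ∀ t : ℕ, t.Prime → qc t H ≤ M) : M = H := by
  obtain ⟨s, -, hs, -, -, hs1, -⟩ := id hMm
  haveI := Fact.mk hs
  exact h.eq_of_qc_eq hM hH (le_antisymm (h.qc_le_qc_of_mixed hM hH hMm hMH hHM)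
    (h.qc_le_qc_of_mixed hH hM hHm hHM hMH)) hs1

/-! ### Normalisation of `U*_x` -/

/-- An `x`-group in `O_x` of colours of the points of a noncyclic `B` meets each member in its `O_x`. -/
theorem inf_le_qc_of_colours {x : ℕ} [Fact x.Prime] {B : Subgroup G} (hB : B ≤ A)
    (hBc : ¬ IsCyclic ↥B) {S : Subgroup G} (hS : IsPGroup x ↥S)
    (hcol : ∀ v ∈ B, v ≠ 1 → ∃ H ∈ signalizerFamily p A θ, θ v ≤ H ∧ S ≤ qc x H) {K : Subgroup G}
    (hK : K ∈ signalizerFamily p A θ) : S ⊓ K ≤ qc x K := by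
  haveI := (PGroups.elemAb_mono h.elem hB).1
  rintro s ⟨hsS, hsK⟩
  refine mem_qc_of_fixed hK.1 hBc (hB.trans (le_normalizer_of_mem hK))
    (coprime_of_not_dvd h.elem hB hK.2.1) hsK ?_ fun v hv hv1 => ?_
  · obtain ⟨k, hk⟩ := hS ⟨s, hsS⟩
    exact ⟨k, by simpa using congrArg Subtype.val hk⟩
  obtain ⟨H, hH, hvH, hSH⟩ := hcol v hv hv1
  refine ⟨qc x H, qc_isPGroup H, fun w hw hwc => ?_⟩
  have hwH : w ∈ H :=
    hvH (hK.2.2.2 v (hB hv) hv1 ⟨hw, Subgroup.mem_centralizer_singleton_iff.2 hwc⟩)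
  rw [commutatorElement_def, show s * w * s⁻¹ * w⁻¹ = s * (w * s⁻¹ * w⁻¹) by group]
  exact mul_mem (hSH hsS)
    ((Subgroup.mem_normalizer_iff.1 (le_normalizer_qc H hwH) _).1 (inv_mem (hSH hsS)))

/-- If all points of `B` have colours with `U*_x ≤ O_x` then `θ(B)` normalises `U*_x`. -/
theorem le_normalizer_ustar {x : ℕ} [hx : Fact x.Prime] {B : Subgroup G} (hB : Hyp p A B)
    (hcol : ∀ v ∈ B, v ≠ 1 → ∃ H ∈ signalizerFamily p A θ, θ v ≤ H ∧ ustar p A θ x ≤ qc x H) :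
    signalizerInf B θ ≤ Subgroup.normalizer (ustar p A θ x : Set G) := by
  obtain ⟨b₀, hb₀, hb₀1⟩ := exists_ne_one_of_hyp h.rank hB
  choose F hF hFθ hFS using fun v : {v : G // v ∈ B ∧ v ≠ 1} => hcol v v.2.1 v.2.2
  set R := ⨅ v, qc x (F v) with hR
  have hR0 : R ≤ qc x (F ⟨b₀, hb₀, hb₀1⟩) := iInf_le _ _
  have hconj : ∀ g, (∀ v, g ∈ Subgroup.normalizer (qc x (F v) : Set G)) →
      ∀ z ∈ R, g * z * g⁻¹ ∈ R := fun g hg z hz => Subgroup.mem_iInf.2 fun v =>
    (Subgroup.mem_normalizer_iff.1 (hg v) z).1 (Subgroup.mem_iInf.1 hz v)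
  have hAR : A ≤ Subgroup.normalizer (R : Set G) := le_normalizer_iff_conj_mem.2 fun a ha =>
    hconj a fun v => le_normalizer_of_mem (h.qc_mem (hF v) x) ha
  have hRm := h.mem_of_le (h.qc_mem (hF _) x) hR0 hAR
  have hRx : IsPGroup x ↥R := (qc_isPGroup _).to_le hR0
  have hle : R ≤ ustar p A θ x := h.le_ustar_of_pieces hRm fun B' hB' b hb hb1 z hz => by
    refine h.inf_le_qc_of_colours hB.1 (hyp_not_cyclic h.elem h.rank hB) hRx (fun v hv hv1 =>
      ⟨F ⟨v, hv, hv1⟩, hF _, hFθ ⟨v, hv, hv1⟩, iInf_le (fun v => qc x (F v)) ⟨v, hv, hv1⟩⟩)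
      (h.theta_mem (hB'.1 hb) hb1) ⟨hz.1, hRm.2.2.2 b (hB'.1 hb) hb1 ⟨hz.1, ?_⟩⟩
    exact Subgroup.mem_centralizer_singleton_iff.2 (Subgroup.mem_centralizer_iff.1 hz.2 b hb).symm
  rw [le_antisymm (le_iInf hFS) hle]
  exact le_normalizer_iff_conj_mem.2 fun g hg => hconj g fun v =>
    le_normalizer_qc (F v) (hFθ v (signalizerInf_le v.2.1 v.2.2 hg))

/-- If two independent points of `B` are good and `U*_x`, `x` odd, meets each `θ b` in its `O_x`,
then `θ(B)` normalises `U*_x`. -/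
theorem le_normalizer_ustar_of_two {x : ℕ} [hx : Fact x.Prime] (hx2 : x ≠ 2) {u v : G}
    (hu : u ∈ A) (hv : v ∈ A) (hu1 : u ≠ 1) (hv1 : v ≠ 1)
    (hB : Hyp p A (Subgroup.zpowers u ⊔ Subgroup.zpowers v))
    (hcu : ∃ H ∈ signalizerFamily p A θ, θ u ≤ H ∧ ustar p A θ x ≤ qc x H)
    (hcv : ∃ H ∈ signalizerFamily p A θ, θ v ≤ H ∧ ustar p A θ x ≤ qc x H)
    (htame : ∀ b ∈ A, b ≠ 1 → ustar p A θ x ⊓ θ b ≤ qc x (θ b)) :
    signalizerInf (Subgroup.zpowers u ⊔ Subgroup.zpowers v) θ ≤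
      Subgroup.normalizer (ustar p A θ x : Set G) := by
  set B := Subgroup.zpowers u ⊔ Subgroup.zpowers v with hBdef
  set S := ustar p A θ x with hS
  have hSm : S ∈ signalizerFamily p A θ := (h.ustar_mem' (q := x)).1
  obtain ⟨Hu, hHu, huH, hSu⟩ := hcu
  obtain ⟨Hv, hHv, hvH, hSv⟩ := hcv
  have hzu : Subgroup.zpowers u ≤ A := Subgroup.zpowers_le.2 hu
  have hzv : Subgroup.zpowers v ≤ A := Subgroup.zpowers_le.2 hv
  have hcomm : ∀ {w : G}, w ∈ B → w ≠ 1 → ∀ y ∈ signalizerInf B θ, y * w = w * y := fun hw hw1 y hy =>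
    commute_theta h.functor.1 (hB.1 hw) hw1 (signalizerInf_le hw hw1 hy)
  have key : ∀ {w : G} {H : Subgroup G}, w ∈ B → w ≠ 1 → H ∈ signalizerFamily p A θ → θ w ≤ H →
      ∀ y ∈ signalizerInf B θ, (⁅qc x H, Subgroup.zpowers w⁆).map (MulAut.conj y : G →* G) ≤ S := by
    intro w H hw hw1 hH hwH y hy
    rw [Subgroup.map_commutator, Subgroup.mem_normalizer_iff_map_conj_eq.1
      (le_normalizer_qc (q := x) H (hwH (signalizerInf_le hw hw1 hy))), MonoidHom.map_zpowers]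
    rw [show (MulAut.conj y : G →* G) w = w by
      show y * w * y⁻¹ = w
      rw [hcomm hw hw1 y hy, mul_inv_cancel_right]]
    exact h.commutator_qc_le_ustar hH (hB.1 hw) hw1 hx2 hwH
  have huB : u ∈ B := Subgroup.mem_sup_left (Subgroup.mem_zpowers u)
  have hvB : v ∈ B := Subgroup.mem_sup_right (Subgroup.mem_zpowers v)
  refine le_normalizer_iff_conj_mem.2 fun y hy z hz => ?_
  suffices hmap : S.map (MulAut.conj y : G →* G) ≤ S from hmap (Subgroup.mem_map_of_mem _ hz)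
  set S₁ := S ⊓ Subgroup.centralizer (Subgroup.zpowers u : Set G) with hS₁
  have hS₁m : S₁ ∈ signalizerFamily p A θ := h.inf_centralizer_mem hSm hzu
  refine (Subgroup.map_mono (Coprime.commutator_sup_centralizer (K := S)
    (hzu.trans (le_normalizer_of_mem hSm))
    (coprime_of_not_dvd h.elem hzu hSm.2.1) (Or.inr hSm.1)).ge).trans ?_
  rw [Subgroup.map_sup]
  refine sup_le ((Subgroup.map_mono (Subgroup.commutator_mono hSu le_rfl)).trans
    (key huB hu1 hHu huH y hy)) ?_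
  rw [← hS₁]
  refine (Subgroup.map_mono (Coprime.commutator_sup_centralizer (K := S₁)
    (hzv.trans (le_normalizer_of_mem hS₁m))
    (coprime_of_not_dvd h.elem hzv hS₁m.2.1) (Or.inr hS₁m.1)).ge).trans ?_
  rw [Subgroup.map_sup]
  refine sup_le ((Subgroup.map_mono (Subgroup.commutator_mono (inf_le_left.trans hSv) le_rfl)).trans
    (key hvB hv1 hHv hvH y hy)) ?_
  have hle : S₁ ⊓ Subgroup.centralizer (Subgroup.zpowers v : Set G) ≤ pstar x θ B := by
    rintro w ⟨⟨hwS, hwu⟩, hwv⟩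
    have hwB : w ∈ Subgroup.centralizer (B : Set G) := by
      refine Subgroup.mem_centralizer_iff.2 fun b hb => ?_
      refine Subgroup.mem_centralizer_singleton_iff.1 ((sup_le ?_ ?_ :
        B ≤ Subgroup.centralizer {w}) hb)
      · exact fun t ht => Subgroup.mem_centralizer_singleton_iff.2
          (Subgroup.mem_centralizer_iff.1 hwu t ht)
      · exact fun t ht => Subgroup.mem_centralizer_singleton_iff.2
          (Subgroup.mem_centralizer_iff.1 hwv t ht)
    refine mem_pstar.2 ⟨inf_centralizer_le_signalizerInf hSm hB.1 ⟨hwS, hwB⟩, fun b hb hb1 => ?_⟩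
    exact htame b (hB.1 hb) hb1 ⟨hwS, hSm.2.2.2 b (hB.1 hb) hb1 ⟨hwS,
      Subgroup.mem_centralizer_singleton_iff.2 (Subgroup.mem_centralizer_iff.1 hwB b hb).symm⟩⟩
  exact ((Subgroup.map_mono hle).trans (le_of_eq (Subgroup.mem_normalizer_iff_map_conj_eq.1
    (h.signalizerInf_le_normalizer_pstar hB hy)))).trans (pstar_le_ustar hB)

/-! ### Contradictions -/

/-- No member contains the values of all points of a hyperplane. -/
theorem false_of_points {B M : Subgroup G} (hB : Hyp p A B) (hM : M ∈ signalizerFamily p A θ)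
    (hle : ∀ v ∈ B, v ≠ 1 → θ v ≤ M) : False := by
  refine h.not_completes ⟨M, hM, fun a ha ha1 => h.theta_le_of_hyp ha ha1 fun B' hB' _ => ?_⟩
  obtain ⟨f, hf, hf', hf1⟩ := exists_ne_one_inf h.rank hB hB'
  exact (signalizerInf_le hf' hf1).trans (hle f hf hf1)

/-- No nontrivial member is normalised by all `θ(B)`. -/
theorem false_of_normalizers {X : Subgroup G} (hX : X ∈ signalizerFamily p A θ) (hX1 : X ≠ ⊥)
    (hn : ∀ B, Hyp p A B → signalizerInf B θ ≤ Subgroup.normalizer (X : Set G)) : False := by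
  obtain ⟨W, hW, hc⟩ := h.locally X hX hX1
  exact h.not_completes ⟨W, hW, fun a ha ha1 => hc _ (h.theta_mem ha ha1)
    (h.theta_le_of_hyp ha ha1 fun B hB _ => hn B hB)⟩

/-- `U*_x`, `x` odd, cannot be good at two planes. -/
theorem false_of_two_planes {x : ℕ} [hx : Fact x.Prime] (hx2 : x ≠ 2) (hS : ustar p A θ x ≠ ⊥)
    {B₁ B₂ : Subgroup G} (hB₁ : B₁ ≤ A) (hB₂ : B₂ ≤ A) (hc₁ : Nat.card ↥B₁ = p ^ 2)
    (hc₂ : Nat.card ↥B₂ = p ^ 2) (hne : B₁ ≠ B₂)
    (hg₁ : ∀ u ∈ B₁, u ≠ 1 → ∃ H ∈ signalizerFamily p A θ, θ u ≤ H ∧ ustar p A θ x ≤ qc x H)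
    (hg₂ : ∀ u ∈ B₂, u ≠ 1 → ∃ H ∈ signalizerFamily p A θ, θ u ≤ H ∧ ustar p A θ x ≤ qc x H)
    (htame : ∀ b ∈ A, b ≠ 1 → ustar p A θ x ⊓ θ b ≤ qc x (θ b)) : False := by
  obtain ⟨c, hc, hc', hc1⟩ :=
    exists_ne_one_inf h.rank (h.hyp_of_card hB₁ hc₁) (h.hyp_of_card hB₂ hc₂)
  obtain ⟨W, hW, hctl⟩ := h.locally _ (h.ustar_mem' (q := x)).1 hS
  refine h.pencil (hB₁ hc) hc1 hW fun B hB hcB => ?_
  obtain ⟨u, v, ⟨hu, hu1⟩, ⟨hv, hv1⟩, -, e⟩ :=
    h.exists_meet_of_planes hB₁ hB₂ hc₁ hc₂ hne hc hc' hB hcB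
  have hBm := signalizerInf_mem_family h.functor hB.1 (hyp_ne_bot h.rank hB)
  refine (Coprime.commutator_le_of_le_normalizer
    ((h.zpowers_le (hB₁ hc)).trans (le_normalizer_of_mem hBm))).trans (hctl _ hBm ?_)
  subst e
  exact h.le_normalizer_ustar_of_two hx2 (hB₁ hu) (hB₂ hv) hu1 hv1 hB (hg₁ u hu hu1) (hg₂ v hv hv1) htame

/-! ### Moved cores -/

theorem mv_le_qc {q : ℕ} [hq : Fact q.Prime] (hq2 : q ≠ 2) {M H : Subgroup G}
    (hM : M ∈ signalizerFamily p A θ) (hH : H ∈ signalizerFamily p A θ) {a : G} (ha : a ∈ A)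
    (ha1 : a ≠ 1) (haM : θ a ≤ M) (hle : mv q M a ≤ H) : mv q M a ≤ qc q H := by
  rcases eq_or_ne (qc q M) ⊥ with hbot | hne
  · rw [mv, hbot, Subgroup.commutator_bot_left]; exact bot_le
  rw [← h.mv_mv hM ha]
  refine comm_mem_qc (P' := qc q M ⊓ H) hH.1 hH.2.1 (h.ne_p_of_qc hM hne).symm
    (PGroups.elemAb_pow h.elem ha) (le_normalizer_of_mem hH ha) (Or.inl hq2) hle
    (le_normalizer_of_mem (h.mv_mem hM ha) ha) ((qc_isPGroup M).to_le inf_le_left)
    (le_inf (h.mv_le hM ha) hle) ?_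
  intro w hw
  rw [Subgroup.mem_normalizer_iff_map_conj_eq, Subgroup.map_inf _ _ _ (MulAut.conj w).injective,
    Subgroup.mem_normalizer_iff_map_conj_eq.1 (le_normalizer_qc M (haM (hH.2.2.2 a ha ha1 hw))),
    Subgroup.mem_normalizer_iff_map_conj_eq.1 (Subgroup.le_normalizer hw.1)]

/-- A regular point has a colour controlling a moved part of some `U*_q`, `q` odd. -/
theorem exists_colour_of_reg {a : G} (ha : a ∈ A) (ha1 : a ≠ 1) (hr : Reg p A θ a) :
    ∃ (q : ℕ) (X H : Subgroup G), q.Prime ∧ q ≠ 2 ∧ IsMaxMem p A θ H ∧ θ a ≤ H ∧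
      Ctl p A θ X H ∧ X ≠ ⊥ ∧ X ≤ ustar p A θ q ∧ X ≤ qc q H ∧
      ⁅X, Subgroup.zpowers a⁆ = X := by
  obtain ⟨M, q, hM, haM, hq, hq2, hne⟩ := hr
  haveI := Fact.mk hq
  obtain ⟨H, hH, hctl, hXH, haH⟩ := h.exists_ctl_mv ha ha1 hM haM hne
  exact ⟨q, mv q M a, H, hq, hq2, hH, haH, hctl, hne, h.mv_le_ustar hM ha ha1 hq2 haM,
    h.mv_le_qc hq2 hM hH.1 ha ha1 haM hXH, h.mv_mv hM ha⟩

theorem qc_le_centralizer_of_not_reg {a : G} (hr : ¬ Reg p A θ a) {M : Subgroup G}
    (hM : M ∈ signalizerFamily p A θ) (haM : θ a ≤ M) {q : ℕ} (hq : q.Prime) (hq2 : q ≠ 2) :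
    qc q M ≤ Subgroup.centralizer (Subgroup.zpowers a : Set G) := by
  rw [← Subgroup.commutator_eq_bot_iff_le_centralizer]
  by_contra hne
  exact hr ⟨M, q, hM, haM, hq, hq2, hne⟩

theorem mv_two_of_not_reg {a : G} (ha : a ∈ A) (ha1 : a ≠ 1) (hr : ¬ Reg p A θ a) {M : Subgroup G}
    (hM : IsMaxMem p A θ M) (haM : θ a ≤ M) : mv 2 M a ≠ ⊥ := by
  haveI : Fact (Nat.Prime 2) := ⟨Nat.prime_two⟩
  obtain ⟨t, ht, hne⟩ := h.exists_moved ha ha1 hM haM
  by_cases ht2 : t = 2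
  · exact ht2 ▸ hne
  · exact absurd ⟨M, t, hM.1, haM, ht, ht2, hne⟩ hr

theorem qc_two_ne_bot {a : G} (ha : a ∈ A) (ha1 : a ≠ 1) (hr : ¬ Reg p A θ a) {M : Subgroup G}
    (hM : IsMaxMem p A θ M) (haM : θ a ≤ M) : qc 2 M ≠ ⊥ := fun e =>
  h.mv_two_of_not_reg ha ha1 hr hM haM (by rw [mv, e, Subgroup.commutator_bot_left])

/-- Growth: an `x`-member inside a maximal `x`-member `Q ≥ O_x(H)` which meets `H` in `O_x(H)` lies in
`O_x(H)`. -/
theorem le_qc_of_growth {x : ℕ} [hx : Fact x.Prime] (hxp : x ≠ p) {H R : Subgroup G}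
    (hH : IsMaxMem p A θ H) (hT : qc x H ≠ ⊥) (hR : R ∈ signalizerFamily p A θ)
    (hRx : IsPGroup x ↥R) (hn : qc x H ≤ Subgroup.normalizer (R : Set G))
    (hRH : R ⊓ H ≤ qc x H) : R ≤ qc x H := by
  set T := qc x H with hTdef
  obtain ⟨hPm, hPx⟩ := sup_mem_family (q := x) h.elem hR (h.qc_mem hH.1 x) hRx (qc_isPGroup H) hxp hn
  set P := R ⊔ T with hP
  by_contra hne
  have hTP : T ≠ P := fun e => hne (e ▸ le_sup_left)
  refine Balance.lt_normalizer_inf hPx (le_sup_right : T ≤ P) hTP ?_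
  intro z hz
  have hzH : z ∈ H := h.ctl_qc hH hT _ (h.mem_of_le hPm inf_le_right
    (le_normalizer_inf' ((le_normalizer_of_mem (h.qc_mem hH.1 x)).trans Subgroup.le_normalizer)
      (le_normalizer_of_mem hPm))) inf_le_left hz
  have hmul : z ∈ (R : Set G) * (T : Set G) := by
    rw [← Subgroup.coe_mul_of_right_le_normalizer_left R T hn]; exact hz.2
  obtain ⟨r, hr, t, ht, rfl⟩ := hmul
  have hrH : r ∈ H := by simpa using mul_mem hzH (inv_mem (qc_le H ht))
  exact mul_mem (hRH ⟨hr, hrH⟩) ht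

end Ctx

end Cfsg.Agent.Lib.Signalizer
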