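import Cfsg.Agent.Lib.Signalizer.Members
import Cfsg.Agent.Lib.Hall.Coprime

/-!
# Completion of the `π`-part of a solvable signalizer functor

Owner: helper33. Namespace `Cfsg.Agent.Lib.Signalizer`.
* `piPart π A θ a`: the largest `A`-invariant `π`-subgroup of `θ a` normalised by `⋂ θ`;
* `exists_sigma_completion`: if proper subfunctors complete, some `π`-member normalised by `⋂ θ`
  contains all others.
-/

set_option autoImplicit false
set_option linter.style.haveILetI false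
set_option linter.unusedSectionVars false

open Cfsg
open scoped Pointwise

namespace Cfsg.Agent.Lib.Signalizer

variable {G : Type*} [Group G] {p : ℕ} {A : Subgroup G} {θ : G → Subgroup G} {π : Set ℕ}

/-- The intersection of the `A`-invariant Hall `π`-subgroups of `θ a`. -/
def piPart (π : Set ℕ) (A : Subgroup G) (θ : G → Subgroup G) (a : G) : Subgroup G :=
  sInf {H | IsPiHallOf π H (θ a) ∧ A ≤ Subgroup.normalizer (H : Set G)}

variable [Finite G] [hp : Fact p.Prime]

theorem piPart_spec (hA : IsElementaryAbelian p A) (hθ : IsSolvableSignalizerFunctor p A θ) {a : G}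
    (ha : a ∈ A) (ha1 : a ≠ 1) :
    piPart π A θ a ≤ θ a ∧
      (∀ t : ℕ, t.Prime → t ∣ Nat.card ↥(piPart π A θ a) → t ∈ π) ∧
      A ≤ Subgroup.normalizer (piPart π A θ a : Set G) ∧
      signalizerInf A θ ≤ Subgroup.normalizer (piPart π A θ a : Set G) := by
  have hm := theta_mem_family hθ ha ha1
  obtain ⟨H₀, hH₀, hAH₀⟩ := Hall.Coprime.exists_invariant (le_normalizer_of_mem hm)
    (coprime_card_family hA hm) hm.1 π
  have hle : piPart π A θ a ≤ H₀ := sInf_le ⟨hH₀, hAH₀⟩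
  refine ⟨hle.trans hH₀.1, fun t ht hd => hH₀.2.1 t ht (hd.trans (Subgroup.card_dvd_of_le hle)),
    le_normalizer_iff_conj_mem.2 fun b hb x hx => Subgroup.mem_sInf.2 fun H hH =>
      le_normalizer_iff_conj_mem.1 hH.2 b hb x (Subgroup.mem_sInf.1 hx H hH),
    le_normalizer_iff_conj_mem.2 fun c hc x hx => Subgroup.mem_sInf.2 fun H hH => ?_⟩
  have hcθ : c ∈ θ a := signalizerInf_le ha ha1 hc
  have h1 : MulAut.conj c⁻¹ • H ∈ {H | IsPiHallOf π H (θ a) ∧ A ≤ Subgroup.normalizer (H : Set G)} := by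
    refine ⟨Hall.Coprime.isPiHallOf_conj hH.1 _
      (Hall.SystemNormalizer.conj_smul_eq_self (inv_mem hcθ)), fun b hb => ?_⟩
    have hcomm : Commute c⁻¹ b := (show Commute c b from signalizerInf_commute hθ.1 hc hb).inv_left
    rw [Hall.SystemNormalizer.mem_normalizer_iff_conj_smul, ← mul_smul, ← map_mul, ← hcomm.eq,
      map_mul, mul_smul, Hall.SystemNormalizer.mem_normalizer_iff_conj_smul.1 (hH.2 hb)]
  have h2 := Subgroup.mem_sInf.1 hx _ h1
  rw [Subgroup.mem_pointwise_smul_iff_inv_smul_mem] at h2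
  simpa using h2

theorem le_piPart (hA : IsElementaryAbelian p A) (hθ : IsSolvableSignalizerFunctor p A θ) {a : G}
    (ha : a ∈ A) (ha1 : a ≠ 1) {U : Subgroup G} (hU : U ≤ θ a)
    (hπ : ∀ t : ℕ, t.Prime → t ∣ Nat.card ↥U → t ∈ π)
    (hAU : A ≤ Subgroup.normalizer (U : Set G))
    (hCU : signalizerInf A θ ≤ Subgroup.normalizer (U : Set G)) :
    U ≤ piPart π A θ a := by
  have hm := theta_mem_family hθ ha ha1
  obtain ⟨H₁, hH₁, hA₁, hUH⟩ := Hall.Coprime.exists_invariant_ge (le_normalizer_of_mem hm)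
    (coprime_card_family hA hm) hm.1 π hU hAU hπ
  refine le_sInf fun H hH => ?_
  obtain ⟨c, hc, rfl⟩ := Hall.Coprime.exists_conj_fixed (le_normalizer_of_mem hm)
    (coprime_card_family hA hm) hm.1 hH₁ hH.1 hA₁ hH.2
  rw [← Hall.SystemNormalizer.mem_normalizer_iff_conj_smul.1
    (hCU (inf_centralizer_le_signalizerInf hm le_rfl hc))]
  exact Subgroup.pointwise_smul_le_pointwise_smul_iff.2 hUH

theorem piPart_functor (hA : IsElementaryAbelian p A) (hθ : IsSolvableSignalizerFunctor p A θ) :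
    IsSolvableSignalizerFunctor p A (piPart π A θ) := by
  refine ⟨⟨fun a ha ha1 => (piPart_spec hA hθ ha ha1).1.trans (theta_le_centralizer hθ.1 ha ha1),
    fun a ha ha1 hd => hθ.1.2.1 a ha ha1
      (hd.trans (Subgroup.card_dvd_of_le (piPart_spec hA hθ ha ha1).1)),
    fun a ha ha1 => le_normalizer_iff_conj_mem.1 (piPart_spec hA hθ ha ha1).2.2.1, ?_⟩,
    fun a ha ha1 => ?_⟩
  · intro a ha ha1 b hb hb1
    haveI := hA.1
    obtain ⟨hle, hπ, hAn, hCn⟩ := piPart_spec (π := π) hA hθ ha ha1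
    refine le_piPart hA hθ hb hb1 ((inf_le_inf_right _ hle).trans (balance hθ.1 ha ha1 hb hb1))
      (fun t ht hd => hπ t ht (hd.trans (Subgroup.card_dvd_of_le inf_le_left)))
      (le_normalizer_inf' hAn (Balance.le_normalizer_centralizer_singleton (A := A) hb))
      (le_normalizer_inf' hCn fun c hc => Subgroup.le_normalizer
        (Subgroup.mem_centralizer_singleton_iff.2 (signalizerInf_commute hθ.1 hc hb)))
  · haveI := hθ.2 a ha ha1
    exact Group.isSolvable_of_isSolvable_injective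
      (Subgroup.inclusion_injective (piPart_spec hA hθ ha ha1).1)

/-- The completion of the `π`-part. -/
theorem exists_sigma_completion (hA : IsElementaryAbelian p A) (hA3 : p ^ 3 ≤ Nat.card ↥A)
    (hθ : IsSolvableSignalizerFunctor p A θ)
    (sub : ∀ θ' : G → Subgroup G, IsSolvableSignalizerFunctor p A θ' →
      (∀ a ∈ A, a ≠ 1 → θ' a ≤ θ a) → (∃ a ∈ A, a ≠ 1 ∧ θ' a ≠ θ a) → Completes p A θ')
    (π : Set ℕ) (hπ : ∃ t : ℕ, t.Prime ∧ t ∉ π ∧ ∃ a ∈ A, a ≠ 1 ∧ t ∣ Nat.card ↥(θ a)) :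
    ∃ X ∈ signalizerFamily p A θ, (∀ t : ℕ, t.Prime → t ∣ Nat.card ↥X → t ∈ π) ∧
      signalizerInf A θ ≤ Subgroup.normalizer (X : Set G) ∧
      ∀ U ∈ signalizerFamily p A θ, (∀ t : ℕ, t.Prime → t ∣ Nat.card ↥U → t ∈ π) →
        signalizerInf A θ ≤ Subgroup.normalizer (U : Set G) → U ≤ X := by
  haveI := hA.1
  obtain ⟨t, ht, htπ, a, ha, ha1, hd⟩ := hπ
  have hf := piPart_functor (π := π) hA hθ
  obtain ⟨X, hX, hXle⟩ := sub _ hf (fun b hb hb1 => (piPart_spec hA hθ hb hb1).1)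
    ⟨a, ha, ha1, fun e => htπ ((piPart_spec hA hθ ha ha1).2.1 t ht (e ▸ hd))⟩
  have hXm : X ∈ signalizerFamily p A θ := ⟨hX.1, hX.2.1, hX.2.2.1, fun b hb hb1 =>
    (hX.2.2.2 b hb hb1).trans (piPart_spec hA hθ hb hb1).1⟩
  have hpieces : ∀ B, Hyp p A B → ∀ b ∈ B, b ≠ 1 →
      X ⊓ Subgroup.centralizer (B : Set G) ≤ piPart π A θ b := fun B hB b hb hb1 x hx =>
    hX.2.2.2 b (hB.1 hb) hb1 ⟨hx.1,
      Subgroup.mem_centralizer_singleton_iff.2 (Subgroup.mem_centralizer_iff.1 hx.2 b hb).symm⟩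
  refine ⟨X, hXm, fun s hs hsd => ?_, ?_, fun U hU hUπ hUn => ?_⟩
  · by_contra hsπ
    haveI := Fact.mk hs
    obtain ⟨S, -, hAS⟩ := Coprime.exists_invariant_sylow_ge (le_normalizer_of_mem hXm)
      (coprime_card_family hA hXm) (Or.inr hXm.1) s ⊥ bot_le IsPGroup.of_bot (fun g _ => by
        rw [Subgroup.mem_normalizer_iff_map_conj_eq, Subgroup.map_bot])
    set S' := (S : Subgroup ↥X).map X.subtype
    have hbot : S' = ⊥ := le_bot_iff.1 <| le_of_hyp hA hAS
        (fun h => hXm.2.1 (h.trans (Subgroup.card_dvd_of_le (Subgroup.map_subtype_le _))))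
        fun B hB x hx => by
      obtain ⟨b, hb, hb1⟩ := exists_ne_one_of_hyp hA3 hB
      have hxb := hpieces B hB b hb hb1 ⟨Subgroup.map_subtype_le _ hx.1, hx.2⟩
      obtain ⟨k, hk⟩ := (S.isPGroup'.map X.subtype) ⟨x, hx.1⟩
      rw [Subgroup.mem_bot, ← orderOf_eq_one_iff]
      refine Nat.eq_one_of_dvd_coprimes (Nat.Coprime.pow_right k ((hs.coprime_iff_not_dvd.2 fun h =>
        hsπ ((piPart_spec hA hθ (hB.1 hb) hb1).2.1 s hs h))).symm)
        (Subgroup.orderOf_dvd_natCard _ hxb) (orderOf_dvd_of_pow_eq_one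
          (by simpa using congrArg Subtype.val hk))
    rw [Subgroup.map_eq_bot_iff_of_injective _ X.subtype_injective] at hbot
    refine S.not_dvd_index ?_
    rw [hbot, Subgroup.index_bot]
    exact hsd
  · have he : (⨆ b : {b : G // b ∈ A ∧ b ≠ 1}, piPart π A θ b) = X := by
      refine le_antisymm (iSup_le fun b => hXle b b.2.1 b.2.2)
        (le_of_hyp hA (le_normalizer_of_mem hXm) hXm.2.1 fun B hB => ?_)
      obtain ⟨b, hb, hb1⟩ := exists_ne_one_of_hyp hA3 hB
      exact (hpieces B hB b hb hb1).trans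
        (le_iSup (fun b : {b : G // b ∈ A ∧ b ≠ 1} => piPart π A θ (b : G)) ⟨b, hB.1 hb, hb1⟩)
    intro c hc
    rw [Subgroup.mem_normalizer_iff_map_conj_eq, ← he, Subgroup.map_iSup]
    exact iSup_congr fun b =>
      Subgroup.mem_normalizer_iff_map_conj_eq.1 ((piPart_spec hA hθ b.2.1 b.2.2).2.2.2 hc)
  · refine le_of_hyp hA (le_normalizer_of_mem hU) hU.2.1 fun B hB x hx => ?_
    obtain ⟨b, hb, hb1⟩ := exists_ne_one_of_hyp hA3 hB
    refine hXle b (hB.1 hb) hb1 (le_piPart (U := U ⊓ Subgroup.centralizer {b}) hA hθ (hB.1 hb) hb1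
      (hU.2.2.2 b (hB.1 hb) hb1) (fun s hs hsd => hUπ s hs (hsd.trans (Subgroup.card_dvd_of_le inf_le_left)))
      (le_normalizer_inf' (le_normalizer_of_mem hU)
        (Balance.le_normalizer_centralizer_singleton (A := A) (hB.1 hb)))
      (le_normalizer_inf' hUn fun c hc => Subgroup.le_normalizer
        (Subgroup.mem_centralizer_singleton_iff.2 (signalizerInf_commute hθ.1 hc (hB.1 hb))))
      ⟨hx.1, Subgroup.mem_centralizer_singleton_iff.2 (Subgroup.mem_centralizer_iff.1 hx.2 b hb).symm⟩)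

end Cfsg.Agent.Lib.Signalizer
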