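import Cfsg.Agent.Lib.Signalizer.Locals
import Cfsg.Agent.Lib.Signalizer.Sigma

/-!
# No minimal counterexample has values with three primes

Owner: helper33. Namespace `Cfsg.Agent.Lib.Signalizer`.
* `layer q t K`: the preimage in `K` of `O_t(K / O_q(K))`;
* `Ctx.exists_inf_completion`: `U*_x` is an intersection of cores of two-prime completions;
* `Ctx.false_of_three`: the contradiction when the values have three or more primes.
-/

set_option autoImplicit false
set_option linter.style.haveILetI false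
set_option linter.unusedSectionVars false

open Cfsg
open scoped commutatorElement Pointwise

namespace Cfsg.Agent.Lib.Signalizer

variable {G : Type*} [Group G] [Finite G] {p : ℕ} [hp : Fact p.Prime] {A : Subgroup G}
  {θ : G → Subgroup G}

/-- The preimage in `K` of `O_t(K / O_q(K))`. -/
def layer (q t : ℕ) (K : Subgroup G) : Subgroup G :=
  ((pCore t (↥K ⧸ pCore q ↥K)).comap (QuotientGroup.mk' (pCore q ↥K))).map K.subtype

omit [Finite G] in
theorem normalizer_le_normalizer_layer (q t : ℕ) (K : Subgroup G) :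
    Subgroup.normalizer (K : Set G) ≤ Subgroup.normalizer (layer q t K : Set G) := by
  haveI : ((pCore t (↥K ⧸ pCore q ↥K)).comap (QuotientGroup.mk' (pCore q ↥K))).Characteristic := by
    refine Subgroup.characteristic_iff_le_comap.2 fun e h hh => ?_
    let e' := QuotientGroup.congr (pCore q ↥K) (pCore q ↥K) e (Cores.map_pCore_equiv e)
    show QuotientGroup.mk' (pCore q ↥K) (e h) ∈ pCore t _
    rw [show QuotientGroup.mk' (pCore q ↥K) (e h) = e' (QuotientGroup.mk' (pCore q ↥K) h) from rfl,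
      ← Cores.map_pCore_equiv (p := t) e']
    exact Subgroup.mem_map_of_mem e'.toMonoidHom hh
  exact normalizer_le_normalizer_char _

theorem eq_or_eq_of_dvd_layer {q t : ℕ} [hq : Fact q.Prime] [ht : Fact t.Prime] {K : Subgroup G}
    {s : ℕ} (hs : s.Prime) (hd : s ∣ Nat.card ↥(layer q t K)) : s = q ∨ s = t := by
  haveI := Fact.mk hs
  obtain ⟨x, hx⟩ := exists_prime_orderOf_dvd_card' s hd
  obtain ⟨k, hk, hkx⟩ := x.2
  have hord : orderOf k = s := by
    rw [← hx, ← Subgroup.orderOf_coe x, ← hkx, orderOf_injective K.subtype K.subtype_injective]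
  have aux : ∀ {V : Type _} [Group V] [Finite V] {r : ℕ}, r.Prime → IsPGroup r V → ∀ v : V,
      orderOf v = s → s = r := by
    intro V _ _ r hr hV v hv
    haveI := Fact.mk hr
    obtain ⟨m, hm⟩ := IsPGroup.iff_card.1 hV
    have h1 : s ∣ r ^ m := hv ▸ hm ▸ orderOf_dvd_natCard v
    exact (Nat.prime_dvd_prime_iff_eq hs hr).1 (hs.dvd_of_dvd_pow h1)
  by_cases h1 : QuotientGroup.mk' (pCore q ↥K) k = 1
  · refine Or.inl (aux hq.out (Cores.pCore_isPGroup (G := ↥K) q)
      ⟨k, (QuotientGroup.eq_one_iff k).1 h1⟩ ?_)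
    exact (Subgroup.orderOf_mk k _).trans hord
  · refine Or.inr (aux ht.out (Cores.pCore_isPGroup (G := ↥K ⧸ pCore q ↥K) t) ⟨_, hk⟩ ?_)
    refine (Subgroup.orderOf_mk _ _).trans (orderOf_eq_prime ?_ h1)
    rw [← map_pow, ← hord, pow_orderOf_eq_one, map_one]

/-- A `q`-element commuting with every layer modulo `q`-groups lies in `O_q`. -/
theorem mem_qc_of_layers {q : ℕ} [hq : Fact q.Prime] {K : Subgroup G} (hs : Group.IsSolvable ↥K)
    {z : G} (hzK : z ∈ K) (hzq : ∃ k : ℕ, z ^ q ^ k = 1)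
    (h : ∀ t : ℕ, t.Prime → t ≠ q →
      (∃ P : Subgroup G, IsPGroup q ↥P ∧ ∀ w ∈ layer q t K, ⁅z, w⁆ ∈ P) ∨
        ∀ v ∈ pCore t (↥K ⧸ pCore q ↥K), QuotientGroup.mk' (pCore q ↥K) ⟨z, hzK⟩ * v =
          v * QuotientGroup.mk' (pCore q ↥K) ⟨z, hzK⟩) :
    z ∈ qc q K := by
  refine mem_qc_of_centralizes_cores (x := ⟨z, hzK⟩) hs
    (hzq.imp fun k hk => Subtype.ext (by simpa using hk)) fun t ht htq v hv => ?_
  haveI := Fact.mk ht
  rcases h t ht htq with ⟨P, hP, hPz⟩ | h'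
  · obtain ⟨k, rfl⟩ := QuotientGroup.mk'_surjective _ v
    exact commute_of_commutator_mem htq hP (hPz _ (Subgroup.mem_map_of_mem _ hv)) hv
  · exact h' v hv

namespace Ctx

variable (h : Ctx p A θ)
include h

theorem layer_mem {K : Subgroup G} (hK : K ∈ signalizerFamily p A θ)
    (hCK : signalizerInf A θ ≤ K) (q t : ℕ) :
    layer q t K ∈ signalizerFamily p A θ ∧
      signalizerInf A θ ≤ Subgroup.normalizer (layer q t K : Set G) :=
  ⟨h.mem_of_le hK (Subgroup.map_subtype_le _)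
      ((le_normalizer_of_mem hK).trans (normalizer_le_normalizer_layer q t K)),
    hCK.trans (Subgroup.le_normalizer.trans (normalizer_le_normalizer_layer q t K))⟩

theorem sigma (π : Set ℕ) (hπ : ∃ t, Pr A θ t ∧ t ∉ π) :
    ∃ X ∈ signalizerFamily p A θ, (∀ t : ℕ, t.Prime → t ∣ Nat.card ↥X → t ∈ π) ∧
      signalizerInf A θ ≤ Subgroup.normalizer (X : Set G) ∧
      ∀ U ∈ signalizerFamily p A θ, (∀ t : ℕ, t.Prime → t ∣ Nat.card ↥U → t ∈ π) →
        signalizerInf A θ ≤ Subgroup.normalizer (U : Set G) → U ≤ X :=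
  let ⟨t, ⟨ht, hd⟩, htπ⟩ := hπ
  exists_sigma_completion h.elem h.rank h.functor h.sub π ⟨t, ht, htπ, hd⟩

variable (h3 : ∀ x u : ℕ, ∃ t, Pr A θ t ∧ t ≠ x ∧ t ≠ u)
include h3

/-- `U*_x` as the intersection of the cores of two-prime completions. -/
theorem exists_inf_completion {x : ℕ} [hx : Fact x.Prime] :
    (∀ Q ∈ signalizerFamily p A θ, IsPGroup x ↥Q →
        signalizerInf A θ ≤ Subgroup.normalizer (Q : Set G) →
        Q ≤ Subgroup.normalizer (ustar p A θ x : Set G)) ∧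
      ∀ K ∈ signalizerFamily p A θ, signalizerInf A θ ≤ K → ustar p A θ x ⊓ K ≤ qc x K := by
  have hX : ∀ u : ℕ, ∃ X ∈ signalizerFamily p A θ,
      signalizerInf A θ ≤ Subgroup.normalizer (X : Set G) ∧
      ∀ U ∈ signalizerFamily p A θ, (∀ t : ℕ, t.Prime → t ∣ Nat.card ↥U → t = x ∨ t = u) →
        signalizerInf A θ ≤ Subgroup.normalizer (U : Set G) → U ≤ X := by
    intro u
    obtain ⟨t, ht, htx, htu⟩ := h3 x u
    obtain ⟨X, hX, -, hn, hmax⟩ := h.sigma {s | s = x ∨ s = u}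
      ⟨t, ht, fun e => e.elim htx htu⟩
    exact ⟨X, hX, hn, hmax⟩
  choose F hF hFC hFmax using hX
  have hxgrp : ∀ (U : Subgroup G), IsPGroup x ↥U → ∀ (u t : ℕ), t.Prime → t ∣ Nat.card ↥U →
      t = x ∨ t = u := by
    intro U hU u t ht hd
    obtain ⟨m, hm⟩ := IsPGroup.iff_card.1 hU
    rw [hm] at hd
    exact Or.inl ((Nat.prime_dvd_prime_iff_eq ht hx.out).1 (ht.dvd_of_dvd_pow hd))
  set R := ⨅ u, qc x (F u) with hR
  have hR0 : R ≤ qc x (F 0) := iInf_le _ _
  have hconj : ∀ g, (∀ u, g ∈ Subgroup.normalizer (qc x (F u) : Set G)) →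
      ∀ z ∈ R, g * z * g⁻¹ ∈ R := fun g hg z hz => Subgroup.mem_iInf.2 fun u =>
    (Subgroup.mem_normalizer_iff.1 (hg u) z).1 (Subgroup.mem_iInf.1 hz u)
  have hRm := h.mem_of_le (h.qc_mem (hF 0) x) hR0
    (le_normalizer_iff_conj_mem.2 fun a ha => hconj a fun u =>
      le_normalizer_of_mem (h.qc_mem (hF u) x) ha)
  have hRx : IsPGroup x ↥R := (qc_isPGroup _).to_le hR0
  have hRK : ∀ K ∈ signalizerFamily p A θ, signalizerInf A θ ≤ K → R ⊓ K ≤ qc x K := by
    rintro K hK hCK z ⟨hzR, hzK⟩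
    obtain ⟨k, hk⟩ := hRx ⟨z, hzR⟩
    refine mem_qc_of_layers hK.1 hzK ⟨k, by simpa using congrArg Subtype.val hk⟩
      fun t ht htx => Or.inl ⟨qc x (F t), qc_isPGroup _, fun w hw => ?_⟩
    haveI := Fact.mk ht
    obtain ⟨hVm, hVC⟩ := h.layer_mem hK hCK x t
    have hwF : w ∈ F t := hFmax t _ hVm (fun s hs hd => eq_or_eq_of_dvd_layer hs hd) hVC hw
    have hzT : z ∈ qc x (F t) := Subgroup.mem_iInf.1 hzR t
    rw [commutatorElement_def, show z * w * z⁻¹ * w⁻¹ = z * (w * z⁻¹ * w⁻¹) by group]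
    exact mul_mem hzT ((Subgroup.mem_normalizer_iff.1 (le_normalizer_qc _ hwF) _).1 (inv_mem hzT))
  have he : ustar p A θ x = R := by
    refine le_antisymm (le_iInf fun u => h.ustar_le_qc (hF u) (hFmax u _ (h.ustar_mem' (q := x)).1
      (hxgrp _ (h.ustar_mem' (q := x)).2 u) h.signalizerInf_le_normalizer_ustar))
      (h.le_ustar_of_pieces hRm fun B hB b hb hb1 z hz => ?_)
    exact hRK _ (h.theta_mem (hB.1 hb) hb1) (signalizerInf_le (hB.1 hb) hb1) ⟨hz.1, hRm.2.2.2 b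
      (hB.1 hb) hb1 ⟨hz.1,
        Subgroup.mem_centralizer_singleton_iff.2 (Subgroup.mem_centralizer_iff.1 hz.2 b hb).symm⟩⟩
  rw [he]
  exact ⟨fun Q hQ hQx hQC => le_normalizer_iff_conj_mem.2 fun g hg => hconj g fun u =>
    le_normalizer_qc _ (hFmax u Q hQ (hxgrp Q hQx u) hQC hg), hRK⟩

/-- Growth in the presence of three primes. -/
theorem ustar_le_qc_of_core {x : ℕ} [Fact x.Prime] {H : Subgroup G} (hH : IsMaxMem p A θ H)
    (hCH : signalizerInf A θ ≤ H) (hne : qc x H ≠ ⊥) : ustar p A θ x ≤ qc x H := by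
  obtain ⟨hn, hK⟩ := h.exists_inf_completion h3 (x := x)
  exact h.le_qc_of_growth (h.ne_p_of_qc hH.1 hne) hH hne (h.ustar_mem' (q := x)).1
    (h.ustar_mem' (q := x)).2
    (hn _ (h.qc_mem hH.1 x) (qc_isPGroup H) (hCH.trans (le_normalizer_qc H))) (hK H hH.1 hCH)

/-- A colour of a regular point is good for every nontrivial `U*`. -/
theorem good_of_reg {x : ℕ} [hx : Fact x.Prime] {a : G} (ha : a ∈ A) (ha1 : a ≠ 1)
    (hr : Reg p A θ a) :
    ∃ H, IsMaxMem p A θ H ∧ θ a ≤ H ∧ ustar p A θ x ≤ qc x H := by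
  obtain ⟨q, X, H, hq, -, hH, haH, hctl, hX1, hXu, hXq, -⟩ := h.exists_colour_of_reg ha ha1 hr
  haveI := Fact.mk hq
  refine ⟨H, hH, haH, ?_⟩
  rcases eq_or_ne x q with rfl | hxq
  · exact h.ustar_le_qc_of_core h3 hH ((signalizerInf_le ha ha1).trans haH)
      fun e => hX1 (le_bot_iff.1 (e ▸ hXq))
  · exact h.ustar_le_qc hH.1 (h.centralizing_le hctl (h.ustar_mem' (q := x)).1
      ((h.ustar_commute hxq).trans (Subgroup.centralizer_le hXu)))

/-- `U*_2 = 1`. -/
theorem ustar_two_eq_bot : ustar p A θ 2 = ⊥ := by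
  haveI : Fact (Nat.Prime 2) := ⟨Nat.prime_two⟩
  by_contra hne
  refine h.false_of_normalizers (h.ustar_mem' (q := 2)).1 hne fun B hB =>
    h.le_normalizer_ustar hB fun v hv hv1 => ?_
  by_cases hr : Reg p A θ v
  · obtain ⟨H, hH, hvH, hle⟩ := h.good_of_reg h3 (x := 2) (hB.1 hv) hv1 hr
    exact ⟨H, hH.1, hvH, hle⟩
  · obtain ⟨H, hH, hvH⟩ := exists_isMaxMem (h.theta_mem (hB.1 hv) hv1)
    exact ⟨H, hH.1, hvH, h.ustar_le_qc_of_core h3 hH ((signalizerInf_le (hB.1 hv) hv1).trans hvH)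
      (h.qc_two_ne_bot (hB.1 hv) hv1 hr hH hvH)⟩

/-- Some `U*_s`, `s` odd, is nontrivial. -/
theorem exists_ustar_odd : ∃ s : ℕ, s.Prime ∧ s ≠ 2 ∧ ustar p A θ s ≠ ⊥ := by
  haveI : Fact (Nat.Prime 2) := ⟨Nat.prime_two⟩
  haveI := h.elem.1
  by_contra hall
  push Not at hall
  have hnr : ∀ a ∈ A, a ≠ 1 → ¬ Reg p A θ a := by
    intro a ha ha1 hr
    obtain ⟨q, X, H, hq, hq2, -, -, -, hX1, hXu, -, -⟩ := h.exists_colour_of_reg ha ha1 hr
    exact hX1 (le_bot_iff.1 (hall q hq hq2 ▸ hXu))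
  have h2 := h.ustar_two_eq_bot h3
  obtain ⟨a₀, ha₀, ha₀1⟩ := exists_ne_one_of_hyp h.rank (hyp_self (p := p) (A := A))
  obtain ⟨M₀, hM₀, ha₀M⟩ := exists_isMaxMem (h.theta_mem ha₀ ha₀1)
  have hT₀ := h.qc_two_ne_bot ha₀ ha₀1 (hnr a₀ ha₀ ha₀1) hM₀ ha₀M
  have h2p : 2 ≠ p := h.ne_p_of_qc hM₀.1 hT₀
  obtain ⟨Q, hQ⟩ := h.exists_maxQ' 2
  have hTQ : ∀ {M : Subgroup G}, M ∈ signalizerFamily p A θ → signalizerInf A θ ≤ M →
      qc 2 M ≤ Q := fun hM hC =>
    h.le_maxQ h2p (h.qc_mem hM 2) (qc_isPGroup _) (hC.trans (le_normalizer_qc _)) hQ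
  set Z := Q ⊓ Subgroup.centralizer (Q : Set G) with hZ
  have hZm : Z ∈ signalizerFamily p A θ := h.center_mem hQ.1
  have hZ2 : IsPGroup 2 ↥Z := hQ.2.1.to_le inf_le_left
  have hZ1 : Z ≠ ⊥ := h.center_ne_bot hQ.2.1 fun e =>
    hT₀ (le_bot_iff.1 (e ▸ hTQ hM₀.1 ((signalizerInf_le ha₀ ha₀1).trans ha₀M)))
  have hZQ : ∀ {W : Subgroup G}, W ≤ Q → Z ≤ Subgroup.centralizer (W : Set G) := fun hW =>
    inf_le_right.trans (Subgroup.centralizer_le hW)
  -- every point centralises `Z`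
  have hZb : ∀ b ∈ A, b ≠ 1 → Z ≤ Subgroup.centralizer (Subgroup.zpowers b : Set G) := by
    intro b hb hb1
    obtain ⟨M, hM, hbM⟩ := exists_isMaxMem (h.theta_mem hb hb1)
    have hr := hnr b hb hb1
    have hT := h.qc_two_ne_bot hb hb1 hr hM hbM
    have hTQ' := hTQ hM.1 ((signalizerInf_le hb hb1).trans hbM)
    have hZM : Z ≤ M := h.centralizing_le (h.ctl_qc hM hT) hZm (hZQ hTQ')
    have hzcb : zc 2 M ≤ Subgroup.centralizer (Subgroup.zpowers b : Set G) := by
      rw [← Subgroup.commutator_eq_bot_iff_le_centralizer, eq_bot_iff, ← h2]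
      refine h.commutator_le_ustar (h.zc_mem hM.1 2) ((qc_isPGroup M).to_le inf_le_left) h2p hb hb1
        (hbM.trans (le_normalizer_zc M)) (Or.inr fun B hB => ?_)
      have hle : ⁅zc 2 M ⊓ Subgroup.centralizer (B : Set G), Subgroup.zpowers b⁆ ≤ zc 2 M :=
        (Subgroup.commutator_mono inf_le_left le_rfl).trans (Coprime.commutator_le_of_le_normalizer
          ((h.zpowers_le hb).trans (le_normalizer_of_mem (h.zc_mem hM.1 2))))
      exact ⟨⟨fun u v => Subtype.ext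
        (Subgroup.mem_centralizer_iff.1 (hle u.2).2 v (hle v.2).1).symm⟩⟩
    set D := ⁅Z, Subgroup.zpowers b⁆ with hD
    have hDZ : D ≤ Z :=
      Coprime.commutator_le_of_le_normalizer ((h.zpowers_le hb).trans (le_normalizer_of_mem hZm))
    have hDc : ∀ t : ℕ, t.Prime → D ≤ Subgroup.centralizer (qc t M : Set G) := by
      intro t ht
      rcases eq_or_ne t 2 with rfl | ht2
      · exact hDZ.trans (hZQ hTQ')
      · exact commutator_centralizes (h.qc_le_centralizer_of_not_reg hr hM.1 hbM ht ht2)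
          (hZM.trans (le_normalizer_qc M))
    have hDzc : D ≤ zc 2 M := le_inf
      (le_qc_of_centralizes hM.1.1 (hDZ.trans hZM) (hZ2.to_le hDZ) hDc) (hDc 2 Nat.prime_two)
    rw [← Subgroup.commutator_eq_bot_iff_le_centralizer,
      ← Coprime.commutator_commutator_eq ((h.zpowers_le hb).trans (le_normalizer_of_mem hZm))
        (coprime_of_not_dvd h.elem (h.zpowers_le hb) hZm.2.1) (Or.inr hZm.1),
      Subgroup.commutator_eq_bot_iff_le_centralizer]
    exact hDzc.trans hzcb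
  have hZθ : ∀ b ∈ A, b ≠ 1 → Z ≤ θ b := fun b hb hb1 z hz => hZm.2.2.2 b hb hb1
    ⟨hz, Subgroup.mem_centralizer_singleton_iff.2
      (Subgroup.mem_centralizer_iff.1 (hZb b hb hb1 hz) b (Subgroup.mem_zpowers b)).symm⟩
  -- some value has a core not centralised by `Z`
  obtain ⟨w, hw, hw1, hwZ⟩ : ∃ w ∈ A, w ≠ 1 ∧ ¬ Z ≤ qc 2 (θ w) := by
    by_contra hno
    push Not at hno
    refine hZ1 (le_bot_iff.1 ?_)
    rw [← h2]
    refine le_trans (fun z hz => mem_pstar.2 ⟨mem_signalizerInf_iff.2 fun b hb hb1 =>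
      hZθ b hb hb1 hz, fun b hb hb1 => hno b hb hb1 hz⟩) (pstar_le_ustar (hyp_self (p := p) (A := A)))
  obtain ⟨s, hs, hs2, hsw⟩ : ∃ s : ℕ, s.Prime ∧ s ≠ 2 ∧
      ¬ Z ≤ Subgroup.centralizer (qc s (θ w) : Set G) := by
    by_contra hno
    push Not at hno
    refine hwZ (le_qc_of_centralizes (h.theta_mem hw hw1).1 (hZθ w hw hw1) hZ2 fun t ht => ?_)
    rcases eq_or_ne t 2 with rfl | ht2
    · exact hZQ (h.qc_theta_le_maxQ h2p hw hw1 hQ)
    · exact hno t ht ht2
  haveI := Fact.mk hs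
  obtain ⟨Xo, hXo, hXo2, hXoC, hXomax⟩ := h.sigma {t | t ≠ 2}
    ⟨2, h.pr_of_qc hM₀.1 hT₀, fun e => e rfl⟩
  have hZC : Z ≤ signalizerInf A θ := fun z hz =>
    mem_signalizerInf_iff.2 fun b hb hb1 => hZθ b hb hb1 hz
  have hZX : Z ≤ Subgroup.normalizer (Xo : Set G) := hZC.trans hXoC
  -- `Z` moves a core of the odd completion
  obtain ⟨r, hr, hrZ⟩ : ∃ r : ℕ, r.Prime ∧
      ¬ qc r Xo ≤ Subgroup.centralizer (Z : Set G) := by
    by_contra hno
    push Not at hno
    have hcop : (Nat.card ↥Z).Coprime (Nat.card ↥Xo) := by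
      obtain ⟨n, hn⟩ := IsPGroup.iff_card.1 hZ2
      rw [hn]
      exact (Nat.prime_two.coprime_iff_not_dvd.2 fun hd => hXo2 2 Nat.prime_two hd rfl).pow_left n
    refine hsw (Subgroup.le_centralizer_iff.1 (le_trans ?_
      (le_centralizer_of_cores hXo.1 hZX hcop hno)))
    refine hXomax _ (h.qc_mem (h.theta_mem hw hw1) s) (fun t ht hd => ?_)
      ((signalizerInf_le hw hw1).trans (le_normalizer_qc _))
    obtain ⟨m, hm⟩ := IsPGroup.iff_card.1 (qc_isPGroup (q := s) (θ w))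
    rw [hm] at hd
    rwa [(Nat.prime_dvd_prime_iff_eq ht hs).1 (ht.dvd_of_dvd_pow hd)]
  haveI := Fact.mk hr
  set P := qc r Xo with hP
  have hr2 : r ≠ 2 := by
    rintro rfl
    refine hrZ (le_of_eq_of_le (qc_eq_bot_of_not_dvd fun hd => hXo2 2 Nat.prime_two hd rfl) bot_le)
  have hPn : Z ≤ Subgroup.normalizer (P : Set G) := hZX.trans (normalizer_le_normalizer_qc Xo)
  refine hrZ (h.le_of_hyp_mem (h.qc_mem hXo r) fun B hB => ?_)
  rintro c ⟨hcP, hcB⟩
  refine Subgroup.mem_centralizer_iff.2 fun z hz => ?_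
  refine (commutatorElement_eq_one_iff_mul_comm.1 ?_).symm
  suffices hcz : ⁅c, z⁆ ∈ pstar r θ B by
    exact Subgroup.mem_bot.1 (hall r hr hr2 ▸ pstar_le_ustar hB hcz)
  have hzinf : z ∈ signalizerInf B θ :=
    mem_signalizerInf_iff.2 fun b hb hb1 => hZθ b (hB.1 hb) hb1 hz
  have hcinf : c ∈ signalizerInf B θ :=
    inf_centralizer_le_signalizerInf (h.qc_mem hXo r) hB.1 ⟨hcP, hcB⟩
  have hczB : ⁅c, z⁆ ∈ signalizerInf B θ := by
    rw [commutatorElement_def]
    exact mul_mem (mul_mem (mul_mem hcinf hzinf) (inv_mem hcinf)) (inv_mem hzinf)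
  have hczP : ⁅c, z⁆ ∈ P := by
    rw [commutatorElement_def, show c * z * c⁻¹ * z⁻¹ = c * (z * c⁻¹ * z⁻¹) by group]
    exact mul_mem hcP ((Subgroup.mem_normalizer_iff.1 (hPn hz) _).1 (inv_mem hcP))
  refine mem_pstar.2 ⟨hczB, fun b hb hb1 => ?_⟩
  have hbm := h.theta_mem (hB.1 hb) hb1
  have hcK : c ∈ θ b := signalizerInf_le hb hb1 hcinf
  have hzK : z ∈ θ b := signalizerInf_le hb hb1 hzinf
  obtain ⟨k, hk⟩ := qc_isPGroup (q := r) Xo ⟨_, hczP⟩
  refine mem_qc_of_layers hbm.1 (signalizerInf_le hb hb1 hczB)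
    ⟨k, by simpa using congrArg Subtype.val hk⟩ fun t ht htr => ?_
  haveI := Fact.mk ht
  rcases eq_or_ne t 2 with rfl | ht2
  · refine Or.inr fun v hv => ?_
    set π := QuotientGroup.mk' (pCore r ↥(θ b))
    obtain ⟨S, hS⟩ := h.exists_sylow_theta h2p hQ (hB.1 hb) hb1
    have hzc : π ⟨z, hzK⟩ ∈ Subgroup.centralizer (pCore 2 (↥(θ b) ⧸ pCore r ↥(θ b)) : Set _) := by
      refine Subgroup.mem_centralizer_iff.2 fun u hu => ?_
      have hu' := Cores.pCore_le_sylow (S.mapSurjective (QuotientGroup.mk'_surjective _)) hu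
      rw [Sylow.coe_mapSurjective] at hu'
      obtain ⟨y, hy, rfl⟩ := hu'
      rw [← map_mul, ← map_mul]
      exact congrArg π (Subtype.ext
        (Subgroup.mem_centralizer_iff.1 hz.2 y (hS.le (Subgroup.mem_map_of_mem _ hy)).1))
    have hcm : π ⟨⁅c, z⁆, signalizerInf_le hb hb1 hczB⟩ ∈
        Subgroup.centralizer (pCore 2 (↥(θ b) ⧸ pCore r ↥(θ b)) : Set _) := by
      rw [show (⟨⁅c, z⁆, signalizerInf_le hb hb1 hczB⟩ : ↥(θ b)) = ⁅(⟨c, hcK⟩ : ↥(θ b)), ⟨z, hzK⟩⁆
        from Subtype.ext (by simp [commutatorElement_def]), map_commutatorElement,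
        commutatorElement_def]
      refine mul_mem ?_ (inv_mem hzc)
      exact le_normalizer_iff_conj_mem.1 (le_normalizer_centralizer' (A := ⊤) (by
        rw [Subgroup.normalizer_eq_top])) _ (Subgroup.mem_top _) _ hzc
    exact (Subgroup.mem_centralizer_iff.1 hcm v hv).symm
  · refine Or.inl ⟨P, qc_isPGroup Xo, fun u hu => ?_⟩
    obtain ⟨hVm, hVC⟩ := h.layer_mem hbm (signalizerInf_le (hB.1 hb) hb1) r t
    have huX : u ∈ Xo := hXomax _ hVm (fun q hq hd => by
      rcases eq_or_eq_of_dvd_layer hq hd with rfl | rfl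
      · exact hr2
      · exact ht2) hVC hu
    rw [commutatorElement_def (g₁ := ⁅c, z⁆), mul_assoc, mul_assoc]
    refine mul_mem hczP ?_
    rw [← mul_assoc]
    exact (Subgroup.mem_normalizer_iff.1 (le_normalizer_qc Xo huX) _).1 (inv_mem hczP)

/-- **No minimal counterexample with three primes.** -/
theorem false_of_three : False := by
  haveI : Fact (Nat.Prime 2) := ⟨Nat.prime_two⟩
  haveI := h.elem.1
  obtain ⟨s, hs, hs2, hS⟩ := h.exists_ustar_odd h3
  haveI := Fact.mk hs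
  set S := ustar p A θ s with hSdef
  have hSm : S ∈ signalizerFamily p A θ := (h.ustar_mem' (q := s)).1
  have hCS : signalizerInf A θ ≤ Subgroup.normalizer (S : Set G) := h.signalizerInf_le_normalizer_ustar
  obtain ⟨hSn, hSK⟩ := h.exists_inf_completion h3 (x := s)
  have htame : ∀ b ∈ A, b ≠ 1 → S ⊓ θ b ≤ qc s (θ b) := fun b hb hb1 =>
    hSK _ (h.theta_mem hb hb1) (signalizerInf_le hb hb1)
  -- on a plane meeting `S` every colour is good
  have hcol : ∀ B ≤ A, S ⊓ Subgroup.centralizer (B : Set G) ≠ ⊥ → ∀ v ∈ B, v ≠ 1 →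
      ∀ H, IsMaxMem p A θ H → θ v ≤ H → S ≤ qc s H := by
    intro B hBA hBS v hv hv1 H hH hvH
    have hCH := (signalizerInf_le (θ := θ) (hBA hv) hv1).trans hvH
    refine h.ustar_le_qc_of_core h3 hH hCH fun e => hBS ((Subgroup.eq_bot_iff_forall _).2 fun z hz => ?_)
    have hzH : z ∈ H := hvH (hSm.2.2.2 v (hBA hv) hv1 ⟨hz.1,
      Subgroup.mem_centralizer_singleton_iff.2 (Subgroup.mem_centralizer_iff.1 hz.2 v hv).symm⟩)
    exact Subgroup.mem_bot.1 (e ▸ hSK H hH.1 hCH ⟨hz.1, hzH⟩)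
  by_cases htwo : ∃ B₁ B₂ : Subgroup G, B₁ ≤ A ∧ B₂ ≤ A ∧ Nat.card ↥B₁ = p ^ 2 ∧
      Nat.card ↥B₂ = p ^ 2 ∧ B₁ ≠ B₂ ∧ S ⊓ Subgroup.centralizer (B₁ : Set G) ≠ ⊥ ∧
      S ⊓ Subgroup.centralizer (B₂ : Set G) ≠ ⊥
  · obtain ⟨B₁, B₂, hB₁, hB₂, hc₁, hc₂, hne, hS₁, hS₂⟩ := htwo
    have hg : ∀ B ≤ A, S ⊓ Subgroup.centralizer (B : Set G) ≠ ⊥ → ∀ u ∈ B, u ≠ 1 →
        ∃ H ∈ signalizerFamily p A θ, θ u ≤ H ∧ S ≤ qc s H := fun B hBA hBS u hu hu1 =>
      let ⟨H, hH, huH⟩ := exists_isMaxMem (h.theta_mem (hBA hu) hu1)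
      ⟨H, hH.1, huH, hcol B hBA hBS u hu hu1 H hH huH⟩
    exact h.false_of_two_planes hs2 hS hB₁ hB₂ hc₁ hc₂ hne (hg B₁ hB₁ hS₁) (hg B₂ hB₂ hS₂) htame
  -- exactly one such plane
  obtain ⟨P₁, P₂, hP₁, hP₂, hcP₁, hcP₂, hP12⟩ := h.exists_two_planes
  have hA0 : S ⊓ Subgroup.centralizer (A : Set G) = ⊥ := by
    by_contra hne
    exact htwo ⟨P₁, P₂, hP₁, hP₂, hcP₁, hcP₂, hP12,
      ne_bot_of_le_ne_bot hne (inf_le_inf_left _ (Subgroup.centralizer_le hP₁)),
      ne_bot_of_le_ne_bot hne (inf_le_inf_left _ (Subgroup.centralizer_le hP₂))⟩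
  obtain ⟨l, hl, hlS⟩ : ∃ l, Hyp p A l ∧ S ⊓ Subgroup.centralizer (l : Set G) ≠ ⊥ := by
    by_contra hno
    push Not at hno
    exact hS (le_bot_iff.1 (h.le_of_hyp_mem hSm fun B hB => (hno B hB).le))
  have hlc : Nat.card ↥l = p ^ 2 := (h.eq_or_card_of_hyp hl).resolve_left fun e => hlS (e ▸ hA0)
  have hSl : S ≤ Subgroup.centralizer (l : Set G) := by
    refine h.le_of_hyp_mem hSm fun B hB => ?_
    by_cases hBS : S ⊓ Subgroup.centralizer (B : Set G) = ⊥
    · rw [hBS]; exact bot_le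
    rcases h.eq_or_card_of_hyp hB with rfl | hBc
    · exact absurd hA0 hBS
    · by_contra hne
      exact htwo ⟨B, l, hB.1, hl.1, hBc, hlc, fun e => hne (e ▸ inf_le_right), hBS, hlS⟩
  obtain ⟨M, hM, hctl, hSM⟩ := h.exists_ctl hSm hS
  have hCM : signalizerInf A θ ≤ M :=
    hctl _ (signalizerInf_mem_family h.functor le_rfl (hyp_ne_bot h.rank hyp_self)) hCS
  have hSqM : S ≤ qc s M := h.ustar_le_qc hM.1 hSM
  have hsM : qc s M ≠ ⊥ := ne_bot_of_le_ne_bot hS hSqM
  -- the cores of the colours of the points of `l` lie in `M`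
  have hcores : ∀ {v H}, v ∈ l → v ≠ 1 → IsMaxMem p A θ H → θ v ≤ H →
      S ≤ qc s H ∧ qc s H ≠ ⊥ ∧ ∀ t : ℕ, t.Prime → qc t H ≤ M := by
    intro v H hv hv1 hH hvH
    have hle := hcol l hl.1 hlS v hv hv1 H hH hvH
    refine ⟨hle, ne_bot_of_le_ne_bot hS hle, fun t ht => ?_⟩
    haveI := Fact.mk ht
    rcases eq_or_ne t s with rfl | hts
    · exact hctl _ (h.qc_mem hH.1 t) (hSn _ (h.qc_mem hH.1 t) (qc_isPGroup H)
        (((signalizerInf_le (hl.1 hv) hv1).trans hvH).trans (le_normalizer_qc H)))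
    · exact h.centralizing_le hctl (h.qc_mem hH.1 t)
        ((h.qc_commute hts (qc_le H) (qc_le H)).trans (Subgroup.centralizer_le hle))
  -- regular points of `l`
  have hreg : ∀ v ∈ l, v ≠ 1 → Reg p A θ v → θ v ≤ M := by
    intro v hv hv1 hr
    obtain ⟨q, X, H, hq, -, hH, hvH, hXctl, hX1, hXu, hXq, hXv⟩ :=
      h.exists_colour_of_reg (hl.1 hv) hv1 hr
    haveI := Fact.mk hq
    obtain ⟨hSH, hsH, hHM⟩ := hcores hv hv1 hH hvH
    have hqs : q ≠ s := by
      rintro rfl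
      refine hX1 ?_
      rw [← hXv, Subgroup.commutator_eq_bot_iff_le_centralizer]
      exact hXu.trans (hSl.trans (Subgroup.centralizer_le (Subgroup.zpowers_le.2 hv)))
    have hqH : qc q H ≠ ⊥ := ne_bot_of_le_ne_bot hX1 hXq
    have hqcM : qc q M ≤ H := h.qc_le_of_zc hH hM.1 hqs.symm hsH hqH (inf_le_left.trans (hHM s hs))
      (inf_le_left.trans (hHM q hq))
    have hXqM : X ≤ qc q M := hXu.trans (h.ustar_le_qc hM.1 (h.centralizing_le hctl
      (h.ustar_mem' (q := q)).1 (h.ustar_commute hqs)))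
    have hMH : ∀ t : ℕ, t.Prime → qc t M ≤ H := fun t ht => by
      haveI := Fact.mk ht
      rcases eq_or_ne t q with rfl | htq
      · exact hqcM
      · exact h.centralizing_le hXctl (h.qc_mem hM.1 t)
          ((h.qc_commute htq (qc_le M) (qc_le M)).trans (Subgroup.centralizer_le hXqM))
    rw [h.eq_of_mixed hM hH ⟨s, q, hs, hq, hqs.symm, hsM, ne_bot_of_le_ne_bot hX1 hXqM⟩
      ⟨s, q, hs, hq, hqs.symm, hsH, hqH⟩ hMH hHM]
    exact hvH
  -- a point of `l` is not regular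
  obtain ⟨c, hc, hc1, hcr⟩ : ∃ c ∈ l, c ≠ 1 ∧ ¬ Reg p A θ c := by
    by_contra hno
    push Not at hno
    exact h.false_of_points hl hM.1 fun v hv hv1 => hreg v hv hv1 (hno v hv hv1)
  obtain ⟨Hc, hHc, hcH⟩ := exists_isMaxMem (h.theta_mem (hl.1 hc) hc1)
  obtain ⟨hScH, hscH, hcHM⟩ := hcores hc hc1 hHc hcH
  have h2cH : qc 2 Hc ≠ ⊥ := h.qc_two_ne_bot (hl.1 hc) hc1 hcr hHc hcH
  have hcA : c ∈ A := hl.1 hc
  have hfix : ∀ {V : Subgroup G}, V ∈ signalizerFamily p A θ →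
      V ⊓ Subgroup.centralizer (Subgroup.zpowers c : Set G) ≤ θ c := fun hV z hz =>
    hV.2.2.2 c hcA hc1 ⟨hz.1, Subgroup.mem_centralizer_singleton_iff.2
      (Subgroup.mem_centralizer_iff.1 hz.2 c (Subgroup.mem_zpowers c)).symm⟩
  -- the dichotomy for the cores of `M`
  have hdich : ∀ w : ℕ, w.Prime → w ≠ 2 →
      qc w M ≤ Subgroup.centralizer (Subgroup.zpowers c : Set G) ∨
        qc w M ⊓ Subgroup.centralizer (Subgroup.zpowers c : Set G) = ⊥ := by
    intro w hw hw2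
    haveI := Fact.mk hw
    have hwm := h.qc_mem hM.1 w
    by_cases hwH : qc w Hc = ⊥
    · refine Or.inr (le_bot_iff.1 ?_)
      rw [← hwH]
      refine le_qc_of_centralizes hHc.1.1 ((hfix hwm).trans hcH) ((qc_isPGroup M).to_le inf_le_left)
        fun t ht => ?_
      haveI := Fact.mk ht
      rcases eq_or_ne t w with rfl | htw
      · rw [hwH]
        intro z hz
        exact Subgroup.mem_centralizer_iff.2 fun y hy => by simp [Subgroup.mem_bot.1 hy]
      intro z hz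
      refine Subgroup.mem_centralizer_iff.2 fun y hy => ?_
      refine (commutatorElement_eq_one_iff_mul_comm.1 (eq_one_of_pGroups htw.symm (qc_isPGroup M)
        (qc_isPGroup Hc) (x := ⁅z, y⁆) ?_ ?_)).symm
      · rw [commutatorElement_def, show z * y * z⁻¹ * y⁻¹ = z * (y * z⁻¹ * y⁻¹) by group]
        exact mul_mem hz.1
          ((Subgroup.mem_normalizer_iff.1 (le_normalizer_qc M (hcHM t ht hy)) _).1 (inv_mem hz.1))
      · rw [commutatorElement_def]
        exact mul_mem ((Subgroup.mem_normalizer_iff.1 (le_normalizer_qc Hc (hcH (hfix hwm hz))) _).1 hy)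
          (inv_mem hy)
    · refine Or.inl ?_
      have hVH : qc w M ≤ Hc := h.qc_le_of_zc hHc hM.1 hw2.symm h2cH hwH
        (inf_le_left.trans (hcHM 2 Nat.prime_two)) (inf_le_left.trans (hcHM w hw))
      have hcn := (h.zpowers_le hcA).trans (le_normalizer_of_mem hwm)
      set D := ⁅qc w M, Subgroup.zpowers c⁆ with hD
      have hDV : D ≤ qc w M := Coprime.commutator_le_of_le_normalizer hcn
      have hDw : D ≤ qc w Hc := by
        refine le_qc_of_centralizes hHc.1.1 (hDV.trans hVH) ((qc_isPGroup M).to_le hDV) fun t ht => ?_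
        haveI := Fact.mk ht
        rcases eq_or_ne t 2 with rfl | ht2
        · exact hDV.trans (h.qc_commute hw2 hVH (hcHM 2 Nat.prime_two))
        · exact commutator_centralizes (h.qc_le_centralizer_of_not_reg hcr hHc.1 hcH ht ht2)
            (hVH.trans (le_normalizer_qc Hc))
      rw [← Subgroup.commutator_eq_bot_iff_le_centralizer,
        ← Coprime.commutator_commutator_eq hcn (coprime_of_not_dvd h.elem (h.zpowers_le hcA) hwm.2.1)
          (Or.inr hwm.1), Subgroup.commutator_eq_bot_iff_le_centralizer]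
      exact hDw.trans (h.qc_le_centralizer_of_not_reg hcr hHc.1 hcH hw hw2)
  have hsc : qc s M ≤ Subgroup.centralizer (Subgroup.zpowers c : Set G) := by
    refine (hdich s hs hs2).resolve_right fun e => hS (le_bot_iff.1 (e ▸ le_inf hSqM ?_))
    exact hSl.trans (Subgroup.centralizer_le (Subgroup.zpowers_le.2 hc))
  -- `c` centralises `O_s` of the colours of the other points
  have hG : ∀ {k H}, k ∈ l → k ≠ 1 → ¬ Reg p A θ k → IsMaxMem p A θ H → θ k ≤ H →
      qc s H ≤ Subgroup.centralizer (Subgroup.zpowers c : Set G) := by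
    intro k H hk hk1 hkr hH hkH
    obtain ⟨-, hsH, hHM⟩ := hcores hk hk1 hH hkH
    have h2H : qc 2 H ≠ ⊥ := h.qc_two_ne_bot (hl.1 hk) hk1 hkr hH hkH
    set W := qc s H with hW
    have hWm := h.qc_mem hH.1 s
    have hWM : W ≤ M := hHM s hs
    have hcn := (h.zpowers_le hcA).trans (le_normalizer_of_mem hWm)
    set D := ⁅W, Subgroup.zpowers c⁆ with hD
    have hDW : D ≤ W := Coprime.commutator_le_of_le_normalizer hcn
    have hperf : ⁅D, Subgroup.zpowers c⁆ = D := Coprime.commutator_commutator_eq hcn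
      (coprime_of_not_dvd h.elem (h.zpowers_le hcA) hWm.2.1) (Or.inr hWm.1)
    have hDs : D ≤ qc s M := by
      refine le_qc_of_centralizes hM.1.1 (hDW.trans hWM) ((qc_isPGroup H).to_le hDW) fun t ht => ?_
      haveI := Fact.mk ht
      rcases eq_or_ne t 2 with rfl | ht2
      · exact hDW.trans (h.qc_commute hs2 hWM (h.qc_le_of_zc hH hM.1 hs2 hsH h2H
          (inf_le_left.trans (hHM s hs)) (inf_le_left.trans (hHM 2 Nat.prime_two))))
      rcases eq_or_ne t s with rfl | hts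
      · exact commutator_centralizes hsc (hWM.trans (le_normalizer_qc M))
      rcases hdich t ht ht2 with hcen | hfree
      · exact commutator_centralizes hcen (hWM.trans (le_normalizer_qc M))
      -- `c` acts without fixed points on `O_t(M)`
      set V := qc t M with hV
      have hWV : W ≤ Subgroup.normalizer (V : Set G) := hWM.trans (le_normalizer_qc M)
      set L := V ⊔ W with hL
      have hLm : L ∈ signalizerFamily p A θ := by
        refine h.mem_of_le hM.1 (sup_le (qc_le M) hWM) fun a ha => ?_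
        rw [Subgroup.mem_normalizer_iff_map_conj_eq, Subgroup.map_sup,
          Subgroup.mem_normalizer_iff_map_conj_eq.1 (le_normalizer_of_mem (h.qc_mem hM.1 t) ha),
          Subgroup.mem_normalizer_iff_map_conj_eq.1 (le_normalizer_of_mem hWm ha)]
      have hDL : D ≤ qc s L := by
        rw [← hperf]
        refine comm_mem_qc (P' := W) hLm.1 hLm.2.1 (h.ne_p_of_qc hH.1 hsH).symm
          (PGroups.elemAb_pow h.elem hcA) (le_normalizer_of_mem hLm hcA) (Or.inl hs2)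
          (hDW.trans le_sup_right) (Coprime.right_le_normalizer_commutator _ _ (Subgroup.mem_zpowers c))
          (qc_isPGroup H) hDW ?_
        rintro g ⟨hgL, hgc⟩
        have hmul : g ∈ (V : Set G) * (W : Set G) := by
          rw [← Subgroup.coe_mul_of_right_le_normalizer_left V W hWV]; exact hgL
        obtain ⟨v, hv, u, hu, rfl⟩ := hmul
        have hcv : c * v * c⁻¹ ∈ V :=
          (Subgroup.mem_normalizer_iff.1 (le_normalizer_of_mem (h.qc_mem hM.1 t) hcA) v).1 hv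
        have hcu : c * u * c⁻¹ ∈ W :=
          (Subgroup.mem_normalizer_iff.1 (le_normalizer_of_mem hWm hcA) u).1 hu
        have heq : c * v * c⁻¹ * (c * u * c⁻¹) = v * u := by
          calc c * v * c⁻¹ * (c * u * c⁻¹) = c * (v * u) * c⁻¹ := by group
            _ = v * u * c * c⁻¹ := by rw [Subgroup.mem_centralizer_singleton_iff.1 hgc]
            _ = v * u := mul_inv_cancel_right _ _
        have he2 : v⁻¹ * (c * v * c⁻¹) = u * (c * u * c⁻¹)⁻¹ := by
          calc v⁻¹ * (c * v * c⁻¹) = v⁻¹ * (c * v * c⁻¹ * (c * u * c⁻¹)) * (c * u * c⁻¹)⁻¹ := by group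
            _ = u * (c * u * c⁻¹)⁻¹ := by rw [heq]; group
        have h0 : v⁻¹ * (c * v * c⁻¹) = 1 :=
          eq_one_of_pGroups hts (qc_isPGroup M) (qc_isPGroup H) (mul_mem (inv_mem hv) hcv)
            (he2 ▸ mul_mem hu (inv_mem hcu))
        have hvc : v * c = c * v := by
          rw [inv_mul_eq_one] at h0
          exact mul_inv_eq_iff_eq_mul.1 h0.symm |>.symm
        have hv1 : v = 1 := Subgroup.mem_bot.1 (hfree ▸ (⟨hv, Subgroup.mem_centralizer_iff.2 fun y hy => by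
          obtain ⟨j, rfl⟩ := Subgroup.mem_zpowers_iff.1 hy
          exact ((show Commute c v from hvc.symm).zpow_left j).eq⟩ :
            v ∈ V ⊓ Subgroup.centralizer (Subgroup.zpowers c : Set G)))
        show v * u ∈ Subgroup.normalizer (W : Set G)
        rw [hv1, one_mul]
        exact Subgroup.le_normalizer hu
      intro d hd
      refine Subgroup.mem_centralizer_iff.2 fun v hv => ?_
      refine (commutatorElement_eq_one_iff_mul_comm.1 (eq_one_of_pGroups hts (qc_isPGroup M)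
        (qc_isPGroup L) (x := ⁅d, v⁆) ?_ ?_)).symm
      · rw [commutatorElement_def]
        exact mul_mem ((Subgroup.mem_normalizer_iff.1 (hWV (hDW hd)) _).1 hv) (inv_mem hv)
      · rw [commutatorElement_def, show d * v * d⁻¹ * v⁻¹ = d * (v * d⁻¹ * v⁻¹) by group]
        exact mul_mem (hDL hd) ((Subgroup.mem_normalizer_iff.1
          (le_normalizer_qc L (Subgroup.mem_sup_left hv)) _).1 (inv_mem (hDL hd)))
    rw [← Subgroup.commutator_eq_bot_iff_le_centralizer, ← hD, ← hperf,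
      Subgroup.commutator_eq_bot_iff_le_centralizer]
    exact hDs.trans hsc
  -- the pencil at `c`
  refine h.pencil hcA hc1 hM.1 fun B hB hcB => ?_
  obtain ⟨k, hk, hkB, hk1⟩ := exists_ne_one_inf h.rank hl hB
  have hBm := signalizerInf_mem_family h.functor hB.1 (hyp_ne_bot h.rank hB)
  have hcBn := (h.zpowers_le hcA).trans (le_normalizer_of_mem hBm)
  by_cases hkr : Reg p A θ k
  · exact ((Coprime.commutator_le_of_le_normalizer hcBn).trans (signalizerInf_le hkB hk1)).trans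
      (hreg k hk hk1 hkr)
  obtain ⟨Hk, hHk, hkH⟩ := exists_isMaxMem (h.theta_mem (hl.1 hk) hk1)
  obtain ⟨hSk, -, -⟩ := hcores hk hk1 hHk hkH
  refine hctl _ (h.mem_of_le hBm (Coprime.commutator_le_of_le_normalizer hcBn)
    (Balance.le_normalizer_commutator (le_normalizer_of_mem hBm) (h.le_normalizer_zpowers hcA))) ?_
  exact ((commutator_centralizes (hG hk hk1 hkr hHk hkH)
    ((signalizerInf_le hkB hk1).trans (hkH.trans (le_normalizer_qc Hk)))).trans
      (Subgroup.centralizer_le hSk)).trans (Subgroup.centralizer_le_normalizer (S : Set G))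

end Ctx

end Cfsg.Agent.Lib.Signalizer
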