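import Cfsg.Agent.Lib.Signalizer.Members
import Cfsg.Agent.Lib.Hall.Coprime

/-!
# Pencils of hyperplanes and deletion of a prime

Owner: helper33. Namespace `Cfsg.Agent.Lib.Signalizer`.
* `Ctx.pencil`: in a minimal counterexample no member contains every `⁅θ(C(B)), c⁆`;
* `not_dvd_commutator`: `⁅H, c⁆` is a `q'`-group if `c` centralises a Sylow `q`-subgroup of `H`;
* `Ctx.anchor`: in a minimal counterexample no maximal `q`-member is centralised by an element of `A#`.
-/

set_option autoImplicit false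
set_option linter.style.haveILetI false
set_option linter.unusedSectionVars false

open Cfsg
open scoped commutatorElement

namespace Cfsg.Agent.Lib.Signalizer

variable {G : Type*} [Group G] [Finite G] {p : ℕ} [hp : Fact p.Prime] {A : Subgroup G}
  {θ : G → Subgroup G}

/-- A hyperplane and an element outside it generate `A`. -/
theorem hyp_sup_zpowers (hA : IsElementaryAbelian p A) {B : Subgroup G} (hB : Hyp p A B) {b : G}
    (hb : b ∈ A) (hbB : b ∉ B) : B ⊔ Subgroup.zpowers b = A := by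
  have hzb : B < B ⊔ Subgroup.zpowers b := lt_of_le_of_ne le_sup_left fun e => hbB (by
    rw [e]; exact Subgroup.mem_sup_right (Subgroup.mem_zpowers b))
  have hle : B ⊔ Subgroup.zpowers b ≤ A := sup_le hB.1 (Subgroup.zpowers_le.2 hb)
  refine Subgroup.eq_of_le_of_card_ge hle ?_
  have h1 := Subgroup.card_mul_index (B.subgroupOf A)
  rw [Nat.card_congr (Subgroup.subgroupOfEquivOfLe hB.1).toEquiv] at h1
  obtain ⟨m, hm⟩ := IsPGroup.iff_card.1 ((PGroups.elemAb_isPGroup hA).to_le hB.1)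
  obtain ⟨n, hn⟩ := IsPGroup.iff_card.1 ((PGroups.elemAb_isPGroup hA).to_le hle)
  have hlt : Nat.card ↥B < Nat.card ↥(B ⊔ Subgroup.zpowers b) :=
    lt_of_not_ge fun hge => hzb.ne (Subgroup.eq_of_le_of_card_ge le_sup_left hge)
  rw [hm, hn] at hlt
  have hmn : m < n := (Nat.pow_lt_pow_iff_right hp.out.one_lt).1 hlt
  calc Nat.card ↥A = Nat.card ↥B * B.relIndex A := h1.symm
    _ ≤ p ^ m * p := by rw [hm]; exact Nat.mul_le_mul_left _ hB.2
    _ = p ^ (m + 1) := (pow_succ p m).symm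
    _ ≤ _ := by rw [hn]; exact Nat.pow_le_pow_right hp.out.pos hmn

/-- `⁅H, c⁆` is a `q'`-group when `c` centralises a Sylow `q`-subgroup of the solvable group `H`. -/
theorem not_dvd_commutator {q : ℕ} [hq : Fact q.Prime] {H : Subgroup G} (hs : Group.IsSolvable ↥H)
    {c : G} (hcH : c ∈ Subgroup.normalizer (H : Set G))
    (hcop : (Nat.card ↥(Subgroup.zpowers c)).Coprime (Nat.card ↥H))
    (S : Sylow q ↥H) (hS : ∀ x ∈ (S : Subgroup ↥H), (x : G) * c = c * (x : G)) :
    ¬ q ∣ Nat.card ↥(⁅H, Subgroup.zpowers c⁆) := by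
  set C := Subgroup.zpowers c
  have hCH : C ≤ Subgroup.normalizer (H : Set G) := Subgroup.zpowers_le.2 hcH
  set N := pPrimeCore q ↥H with hN
  set O := N.map H.subtype with hO
  set π := QuotientGroup.mk' N
  have hπ : Function.Surjective π := QuotientGroup.mk'_surjective N
  set V := pCore q (↥H ⧸ N) with hV
  haveI : Group.IsSolvable (↥H ⧸ N) := Group.isSolvable_of_surjective hπ
  -- `V` is self-centralizing
  have hcent : Subgroup.centralizer (V : Set (↥H ⧸ N)) ≤ V := by
    have hfit : fittingSubgroup (↥H ⧸ N) = V := by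
      refine le_antisymm ?_ (Cores.pCore_le_fittingSubgroup q)
      rw [Cores.fittingSubgroup_eq_iSup_pCore]
      refine iSup_le fun t => ?_
      by_cases htq : (t : ℕ) = q
      · rw [htq]
      · haveI : Fact (t : ℕ).Prime := ⟨t.2⟩
        refine le_trans (Cores.le_pPrimeCore_of_not_dvd (p := q) ?_) (le_of_eq_of_le
          (Cores.pPrimeCore_quotient_pPrimeCore q) bot_le)
        obtain ⟨n, hn⟩ := IsPGroup.iff_card.1 (Cores.pCore_isPGroup (G := ↥H ⧸ N) (t : ℕ))
        rw [hn]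
        exact fun hd => htq ((Nat.prime_dvd_prime_iff_eq hq.out t.2).1 (hq.out.dvd_of_dvd_pow hd)).symm
    rw [← hfit]
    exact Cores.centralizer_fittingSubgroup_le
  have hcO : c ∈ Subgroup.normalizer (O : Set G) := by
    haveI : N.Characteristic := by rw [hN]; infer_instance
    exact normalizer_le_normalizer_char N hcH
  set e := H.normalizerMonoidHom ⟨c, hcH⟩
  have heN : ∀ x ∈ N, e x ∈ N := fun x hx => by
    rw [hN, ← Cores.map_pPrimeCore_equiv e]
    exact Subgroup.mem_map_of_mem _ hx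
  -- `c` is trivial on `V`
  have hcV : ∀ x : ↥H, π x ∈ V → π (e x) = π x := by
    intro x hx
    obtain ⟨s, hs', hse⟩ : π x ∈ (S : Subgroup ↥H).map π := by
      have := Cores.pCore_le_sylow (S.mapSurjective hπ) hx
      rwa [Sylow.coe_mapSurjective] at this
    obtain ⟨n, hn, rfl⟩ : ∃ n ∈ N, n * s = x := ⟨x * s⁻¹, by
      rw [← QuotientGroup.eq_one_iff]
      show π (x * s⁻¹) = 1
      rw [map_mul, map_inv, hse, mul_inv_cancel], by group⟩
    have hes : e s = s := Subtype.ext (by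
      show c * (s : G) * c⁻¹ = s
      rw [← hS s hs', mul_inv_cancel_right])
    rw [map_mul e, hes, map_mul, map_mul, show π (e n) = 1 from
      (QuotientGroup.eq_one_iff _).2 (heN n hn), show π n = 1 from (QuotientGroup.eq_one_iff _).2 hn]
  have hcV' : ∀ x : ↥H, π x ∈ V → π (e.symm x) = π x := by
    intro x hx
    have heV : π (e.symm x) ∈ V := by
      let e' := QuotientGroup.congr N N e.symm (by rw [hN]; exact Cores.map_pPrimeCore_equiv e.symm)
      rw [show π (e.symm x) = e' (π x) from rfl, hV, ← Cores.map_pCore_equiv (p := q) e']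
      exact Subgroup.mem_map_of_mem e'.toMonoidHom hx
    have := hcV _ heV
    rw [MulEquiv.apply_symm_apply] at this
    exact this.symm
  -- commutators with `c` centralise `V`
  have hgen : ∀ x : ↥H, π (x * (e x)⁻¹) ∈ V := by
    intro x
    refine hcent (Subgroup.mem_centralizer_iff.2 fun v hv => ?_)
    obtain ⟨w, rfl⟩ := hπ v
    set w' : ↥H := e.symm (x⁻¹ * w * x) with hw'
    have h0 : π (x⁻¹ * w * x) ∈ V := by
      rw [map_mul, map_mul, map_inv]
      have e0 : (π x)⁻¹ * π w * π x = (π x)⁻¹ * π w * ((π x)⁻¹)⁻¹ := by group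
      rw [e0]
      exact (inferInstance : V.Normal).conj_mem _ hv (π x)⁻¹
    have h1 : π w' = π (x⁻¹ * w * x) := hcV' _ h0
    have h2 : π (e w') = π w' := hcV w' (h1 ▸ h0)
    have h3 : e w' = x⁻¹ * w * x := by rw [hw', MulEquiv.apply_symm_apply]
    have h4 : π (e (x⁻¹ * w * x)) = π (x⁻¹ * w * x) := hcV _ h0
    rw [map_mul e, map_mul e, map_inv e] at h4
    have h5 : π (e w) = π w := hcV w hv
    simp only [map_mul, map_inv, h5] at h4 ⊢
    calc π w * (π x * (π (e x))⁻¹) = π x * ((π x)⁻¹ * π w * π x) * (π (e x))⁻¹ := by group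
      _ = π x * ((π (e x))⁻¹ * π w * π (e x)) * (π (e x))⁻¹ := by rw [h4]
      _ = π x * (π (e x))⁻¹ * π w := by group
  set W := (V.comap π).map H.subtype with hW
  have hWn : H ≤ Subgroup.normalizer (W : Set G) := by
    have h1 := Subgroup.le_normalizer_map (H := V.comap π) H.subtype
    rwa [Subgroup.normalizer_eq_top, ← MonoidHom.range_eq_map, Subgroup.range_subtype] at h1
  have hWO : ∀ x : ↥H, π x ∈ V → (x : G) * c * (x : G)⁻¹ * c⁻¹ ∈ O := by
    intro x hx
    refine ⟨x * (e x)⁻¹, (QuotientGroup.eq_one_iff _).1 (by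
      show π (x * (e x)⁻¹) = 1
      rw [map_mul, map_inv, hcV x hx, mul_inv_cancel]), ?_⟩
    show (x : G) * (c * (x : G) * c⁻¹)⁻¹ = _
    group
  -- closure under `⁅·, c⁆`
  let T : ∀ (L : Subgroup G), H ≤ Subgroup.normalizer (L : Set G) → c ∈ Subgroup.normalizer (L : Set G) →
      ∀ D : Subgroup G, D ≤ H → (∀ x ∈ D, x * c * x⁻¹ * c⁻¹ ∈ L) → ⁅D, C⁆ ≤ L := by
    intro L hHL hcL D hDH hD
    rw [Subgroup.commutator_le]
    intro d hd x hx
    obtain ⟨k, rfl⟩ := Subgroup.mem_zpowers_iff.1 hx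
    have hcL' : ∀ y ∈ L, c * y * c⁻¹ ∈ L := fun y => (Subgroup.mem_normalizer_iff.1 hcL y).1
    have hcL'' : ∀ y ∈ L, c⁻¹ * y * c ∈ L := fun y hy => by
      simpa using (Subgroup.mem_normalizer_iff.1 (inv_mem hcL) y).1 hy
    induction k using Int.induction_on with
    | zero => simp [commutatorElement_def]
    | succ i ih =>
      rw [zpow_add_one, show ⁅d, c ^ (i : ℤ) * c⁆ =
        ⁅d, c ^ (i : ℤ)⁆ * (c ^ (i : ℤ) * (d * c * d⁻¹ * c⁻¹) * (c ^ (i : ℤ))⁻¹) by
          simp only [commutatorElement_def]; group]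
      exact mul_mem (ih (Subgroup.mem_zpowers_iff.2 ⟨i, rfl⟩))
        ((Subgroup.mem_normalizer_iff.1 (Subgroup.zpow_mem _ hcL _) _).1 (hD d hd))
    | pred i ih =>
      have h1 : ⁅d, c⁻¹⁆ ∈ L := by
        rw [show ⁅d, c⁻¹⁆ = c⁻¹ * (d * c * d⁻¹ * c⁻¹)⁻¹ * c by simp only [commutatorElement_def]; group]
        exact hcL'' _ (inv_mem (hD d hd))
      rw [zpow_sub_one, show ⁅d, c ^ (-(i : ℤ)) * c⁻¹⁆ =
        ⁅d, c ^ (-(i : ℤ))⁆ * (c ^ (-(i : ℤ)) * ⁅d, c⁻¹⁆ * (c ^ (-(i : ℤ)))⁻¹) by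
          simp only [commutatorElement_def]; group]
      exact mul_mem (ih (Subgroup.mem_zpowers_iff.2 ⟨-(i : ℤ), rfl⟩))
        ((Subgroup.mem_normalizer_iff.1 (Subgroup.zpow_mem _ hcL _) _).1 h1)
  have hcW : c ∈ Subgroup.normalizer (W : Set G) := by
    haveI : (V.comap π).Characteristic := by
      refine Subgroup.characteristic_iff_le_comap.2 fun f h hh => ?_
      let f' := QuotientGroup.congr N N f (by rw [hN]; exact Cores.map_pPrimeCore_equiv f)
      show π (f h) ∈ V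
      rw [show π (f h) = f' (π h) from rfl, hV, ← Cores.map_pCore_equiv (p := q) f']
      exact Subgroup.mem_map_of_mem f'.toMonoidHom hh
    exact normalizer_le_normalizer_char _ hcH
  have hH1W : ⁅H, C⁆ ≤ W := T W hWn hcW H le_rfl fun x hx => by
    refine ⟨⟨x, hx⟩ * (e ⟨x, hx⟩)⁻¹, hgen ⟨x, hx⟩, ?_⟩
    show x * (c * x * c⁻¹)⁻¹ = _
    group
  have hOn : H ≤ Subgroup.normalizer (O : Set G) := by
    have h1 := Subgroup.le_normalizer_map (H := N) H.subtype
    rwa [Subgroup.normalizer_eq_top, ← MonoidHom.range_eq_map, Subgroup.range_subtype] at h1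
  have hWH : W ≤ H := Subgroup.map_subtype_le _
  have hW1 : ⁅W, C⁆ ≤ O := T O hOn hcO W hWH fun x hx => by
    obtain ⟨y, hy, rfl⟩ := hx
    exact hWO y hy
  intro hd
  have hle : ⁅H, C⁆ ≤ O := by
    rw [← Coprime.commutator_commutator_eq hCH hcop (Or.inr hs)]
    exact (Subgroup.commutator_mono hH1W le_rfl).trans hW1
  have h1 := hd.trans (Subgroup.card_dvd_of_le hle)
  rw [hO, Subgroup.card_map_of_injective H.subtype_injective] at h1
  exact Cores.not_dvd_card_pPrimeCore q h1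

namespace Ctx

variable (h : Ctx p A θ)
include h

theorem le_normalizer_zpowers {c : G} (hc : c ∈ A) :
    A ≤ Subgroup.normalizer (Subgroup.zpowers c : Set G) := fun a ha =>
  Subgroup.centralizer_le_normalizer (Subgroup.zpowers c : Set G)
    (Subgroup.mem_centralizer_iff.2 fun b hb =>
      PGroups.elemAb_comm h.elem ((Subgroup.zpowers_le.2 hc : Subgroup.zpowers c ≤ A) hb) ha)

/-- No member contains every `⁅θ(C(B)), c⁆`, `c ∉ B`. -/
theorem pencil {c : G} (hc : c ∈ A) (hc1 : c ≠ 1) {U : Subgroup G}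
    (hU : U ∈ signalizerFamily p A θ)
    (hle : ∀ B, Hyp p A B → c ∉ B → ⁅signalizerInf B θ, Subgroup.zpowers c⁆ ≤ U) : False := by
  set C := Subgroup.zpowers c with hC
  set N := ⨆ B ∈ {B : Subgroup G | Hyp p A B ∧ c ∉ B}, ⁅signalizerInf B θ, C⁆ with hN
  have hgenN : ∀ B, Hyp p A B → c ∉ B → ⁅signalizerInf B θ, C⁆ ≤ N := fun B hB hcB =>
    le_iSup₂ (f := fun B (_ : B ∈ {B : Subgroup G | Hyp p A B ∧ c ∉ B}) => ⁅signalizerInf B θ, C⁆)
      B ⟨hB, hcB⟩
  have hNm : N ∈ signalizerFamily p A θ := by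
    refine h.mem_of_le hU (iSup₂_le fun B hB => hle B hB.1 hB.2) fun a ha => ?_
    refine Subgroup.mem_normalizer_iff_map_conj_eq.2 ?_
    rw [hN, Subgroup.map_iSup]
    refine iSup_congr fun B => ?_
    rw [Subgroup.map_iSup]
    refine iSup_congr fun hB => ?_
    exact Subgroup.mem_normalizer_iff_map_conj_eq.1 (Balance.le_normalizer_commutator
      (le_normalizer_of_mem (signalizerInf_mem_family h.functor hB.1.1 (hyp_ne_bot h.rank hB.1)))
      (h.le_normalizer_zpowers hc) ha)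
  have hcomm : ∀ f ∈ A, f ≠ 1 → ⁅θ f, C⁆ ≤ N := by
    intro f hf hf1
    have hfm := h.theta_mem hf hf1
    refine commutator_le_hyp h.elem hfm.1 hfm.2.1 (le_normalizer_of_mem hfm) hc fun B hB => ?_
    by_cases hcB : c ∈ B
    · refine le_of_eq_of_le ?_ bot_le
      rw [Subgroup.commutator_eq_bot_iff_le_centralizer]
      exact inf_le_right.trans (Subgroup.centralizer_le (Subgroup.zpowers_le.2 hcB))
    · exact (Subgroup.commutator_mono (inf_centralizer_le_signalizerInf hfm hB.1) le_rfl).trans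
        (hgenN B hB hcB)
  have hnorm : ∀ b ∈ A, b ≠ 1 → θ b ≤ Subgroup.normalizer (N : Set G) := by
    intro b hb hb1
    have hpt : ∀ B, Hyp p A B → c ∈ B → signalizerInf B θ ≤ Subgroup.normalizer (N : Set G) := by
      intro B hB hcB
      refine le_normalizer_iff_conj_mem.2 fun y hy x hx => ?_
      have h1 : N.map (MulAut.conj y).toMonoidHom ≤ N := by
        rw [hN, Subgroup.map_iSup]
        refine iSup_le fun B' => ?_
        rw [Subgroup.map_iSup]
        refine iSup_le fun hB' => ?_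
        obtain ⟨f, hf, hf', hf1⟩ := exists_ne_one_inf h.rank hB hB'.1
        have hyn : y ∈ Subgroup.normalizer ((⁅θ f, C⁆ : Subgroup G) : Set G) :=
          Coprime.left_le_normalizer_commutator (θ f) C (signalizerInf_le hf hf1 hy)
        refine le_trans ?_ (hcomm f (hB.1 hf) hf1)
        rw [← Subgroup.mem_normalizer_iff_map_conj_eq.1 hyn]
        exact Subgroup.map_mono (Subgroup.commutator_mono (signalizerInf_le hf' hf1) le_rfl)
      exact h1 (Subgroup.mem_map_of_mem _ hx)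
    refine h.theta_le_of_hyp hb hb1 fun B hB _ => ?_
    by_cases hcB : c ∈ B
    · exact hpt B hB hcB
    · intro x hx
      have hBm := signalizerInf_mem_family h.functor hB.1 (hyp_ne_bot h.rank hB)
      have hCA : C ≤ A := Subgroup.zpowers_le.2 hc
      have hsup := Coprime.commutator_sup_centralizer (hCA.trans (le_normalizer_of_mem hBm))
        (coprime_of_not_dvd h.elem hCA hBm.2.1) (Or.inr hBm.1)
      refine (sup_le ((hgenN B hB hcB).trans Subgroup.le_normalizer) ?_ : _ ≤ _) (hsup.ge hx)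
      rintro y ⟨hy, hyc⟩
      refine hpt A hyp_self hc (inf_centralizer_le_signalizerInf hBm le_rfl ⟨hy, ?_⟩)
      refine Subgroup.mem_centralizer_iff.2 fun a ha => ?_
      refine Subgroup.mem_centralizer_singleton_iff.1 ((?_ : A ≤ Subgroup.centralizer {y}) ha)
      rw [← hyp_sup_zpowers h.elem hB hc hcB]
      refine sup_le (fun z hz => Subgroup.mem_centralizer_singleton_iff.2 ?_) ?_
      · exact (Subgroup.mem_centralizer_iff.1
          ((signalizerInf_eq h.functor.1 hB.1 (exists_ne_one_of_hyp h.rank hB).choose_spec.1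
            (exists_ne_one_of_hyp h.rank hB).choose_spec.2).le hy).2 z hz)
      · exact Subgroup.zpowers_le.2 (Subgroup.mem_centralizer_singleton_iff.2
          (Subgroup.mem_centralizer_iff.1 hyc c (Subgroup.mem_zpowers c)))
  by_cases hN1 : N = ⊥
  · refine h.not_completes ⟨θ c, h.theta_mem hc hc1, fun a ha ha1 => ?_⟩
    intro x hx
    refine balance h.functor.1 ha ha1 hc hc1 ⟨hx, ?_⟩
    have hbot : ⁅θ a, C⁆ = ⊥ := le_bot_iff.1 (hN1 ▸ hcomm a ha ha1)
    exact Subgroup.mem_centralizer_singleton_iff.2 (Subgroup.mem_centralizer_iff.1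
      (Subgroup.commutator_eq_bot_iff_le_centralizer.1 hbot hx) c (Subgroup.mem_zpowers c)).symm
  · obtain ⟨W, hW, hc'⟩ := h.locally N hNm hN1
    exact h.not_completes ⟨W, hW, fun a ha ha1 => hc' _ (h.theta_mem ha ha1) (hnorm a ha ha1)⟩

variable {q : ℕ} [hq : Fact q.Prime]

/-- The Sylow `q`-subgroup `Q ∩ C(b)` of `θ b`. -/
theorem exists_sylow_theta (hqp : q ≠ p) {Q : Subgroup G} (hQ : IsMaxQ p A θ q Q) {b : G}
    (hb : b ∈ A) (hb1 : b ≠ 1) :
    ∃ S : Sylow q ↥(θ b), (S : Subgroup ↥(θ b)).map (θ b).subtype = Q ⊓ Subgroup.centralizer {b} := by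
  have hb0 : Subgroup.zpowers b ≠ ⊥ := by simpa [Subgroup.zpowers_eq_bot] using hb1
  have hcz : Subgroup.centralizer (Subgroup.zpowers b : Set G) = Subgroup.centralizer {b} := by
    rw [Subgroup.zpowers_eq_closure, Subgroup.centralizer_closure]
  have he : signalizerInf (Subgroup.zpowers b) θ = θ b := by
    rw [signalizerInf_eq h.functor.1 (Subgroup.zpowers_le.2 hb) (Subgroup.mem_zpowers b) hb1, hcz]
    exact inf_eq_left.2 (theta_le_centralizer h.functor.1 hb hb1)
  have hS := sylow_centralizer h.elem h.rank h.functor hqp hQ (Subgroup.zpowers_le.2 hb) hb0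
  rw [he, hcz] at hS
  exact hS

/-- No maximal `q`-member is centralised by a nonidentity element of `A`. -/
theorem anchor {Q : Subgroup G} (hQ : IsMaxQ p A θ q Q) (hQ1 : Q ≠ ⊥) {c : G} (hc : c ∈ A)
    (hc1 : c ≠ 1) (hQc : Q ≤ Subgroup.centralizer {c}) : False := by
  haveI := h.elem.1
  set C := Subgroup.zpowers c with hC
  have hCA : C ≤ A := Subgroup.zpowers_le.2 hc
  have hcm := h.theta_mem hc hc1
  have hQθ : Q ≤ θ c := fun x hx => hQ.1.2.2.2 c hc hc1 ⟨hx, hQc hx⟩
  have hqdvd : q ∣ Nat.card ↥(θ c) := by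
    obtain ⟨n, hn⟩ := IsPGroup.iff_card.1 hQ.2.1
    rcases Nat.eq_zero_or_pos n with rfl | hpos
    · exact absurd (Subgroup.eq_bot_of_card_eq _ (by simpa using hn)) hQ1
    · exact (dvd_pow_self q hpos.ne').trans (hn ▸ Subgroup.card_dvd_of_le hQθ)
  have hqp : q ≠ p := h.ne_of_dvd hcm hqdvd
  obtain ⟨H₀, hH₀, hAH₀⟩ := Hall.Coprime.exists_invariant (le_normalizer_of_mem hcm)
    (coprime_of_not_dvd h.elem le_rfl hcm.2.1) hcm.1 {r | r ≠ q}
  obtain ⟨Sc, hSc⟩ := h.exists_sylow_theta hqp hQ hc hc1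
  set Qc := (Sc : Subgroup ↥(θ c)).map (θ c).subtype with hQc'
  have hQcq : IsPGroup q ↥Qc := Sc.isPGroup'.map _
  have hH₀q : ¬ q ∣ Nat.card ↥H₀ := fun hd => hH₀.2.1 q hq.out hd rfl
  -- `θ c = H₀ Qc` uniquely
  have hdisj : ∀ x ∈ H₀, x ∈ Qc → x = 1 := by
    intro x hx hxq
    obtain ⟨k, hk⟩ := hQcq ⟨x, hxq⟩
    rw [← orderOf_eq_one_iff]
    exact Nat.eq_one_of_dvd_coprimes (((hq.out.coprime_iff_not_dvd).2 hH₀q).symm.pow_right k)
      (Subgroup.orderOf_dvd_natCard _ hx) (orderOf_dvd_of_pow_eq_one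
        (by simpa using congrArg Subtype.val hk))
  have hcard : Nat.card ↥(θ c) = Nat.card ↥H₀ * Nat.card ↥Qc := by
    rw [hQc', Subgroup.card_map_of_injective (θ c).subtype_injective, Sc.card_eq_multiplicity]
    have h1 := Subgroup.card_mul_index (H₀.subgroupOf (θ c))
    rw [Nat.card_congr (Subgroup.subgroupOfEquivOfLe hH₀.1).toEquiv] at h1
    have hne : (H₀.subgroupOf (θ c)).index ≠ 0 := Subgroup.index_ne_zero_of_finite
    have h2 := Nat.eq_prime_pow_of_unique_prime_dvd hne (p := q) fun {d} hd hdd => by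
      by_contra hdq
      exact hH₀.2.2 d hd hdq hdd
    rw [← h1, h2, Nat.factorization_mul (Nat.card_pos.ne') (pow_ne_zero _ hq.out.ne_zero)]
    simp [Nat.factorization_eq_zero_of_not_dvd hH₀q, hq.out.factorization_pow]
  have hinj : Function.Injective (fun z : ↥H₀ × ↥Qc => (⟨(z.1 : G) * (z.2 : G),
      mul_mem (hH₀.1 z.1.2) ((Subgroup.map_subtype_le _ : Qc ≤ θ c) z.2.2)⟩ : ↥(θ c))) := by
    rintro ⟨x, y⟩ ⟨x', y'⟩ he
    have he' : (x : G) * y = x' * y' := congrArg Subtype.val he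
    have h1 : (x' : G)⁻¹ * x = y' * (y : G)⁻¹ := by
      calc (x' : G)⁻¹ * x = (x' : G)⁻¹ * ((x : G) * y) * (y : G)⁻¹ := by group
        _ = y' * (y : G)⁻¹ := by rw [he']; group
    have h2 := hdisj _ (mul_mem (inv_mem x'.2) x.2) (h1 ▸ mul_mem y'.2 (inv_mem y.2))
    obtain rfl : x = x' := Subtype.ext (inv_mul_eq_one.1 h2).symm
    exact Prod.ext rfl (Subtype.ext (mul_left_cancel he'))
  have hbij := (Nat.bijective_iff_injective_and_card _).2 ⟨hinj, by
    rw [Nat.card_prod]; exact hcard.symm⟩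
  -- a fixed point subgroup
  have hfix : ∀ b ∈ A, Nat.card ↥(θ c ⊓ Subgroup.centralizer {b}) =
      Nat.card ↥(H₀ ⊓ Subgroup.centralizer {b}) * Nat.card ↥(Qc ⊓ Subgroup.centralizer {b}) := by
    intro b hb
    rw [← Nat.card_prod]
    refine (Nat.card_congr (Equiv.ofBijective (fun z : ↥(H₀ ⊓ Subgroup.centralizer {b}) ×
        ↥(Qc ⊓ Subgroup.centralizer {b}) => (⟨(z.1 : G) * (z.2 : G),
          ⟨mul_mem (hH₀.1 z.1.2.1) ((Subgroup.map_subtype_le _ : Qc ≤ θ c) z.2.2.1),
            mul_mem z.1.2.2 z.2.2.2⟩⟩ : ↥(θ c ⊓ Subgroup.centralizer {b}))) ⟨?_, ?_⟩)).symm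
    · rintro ⟨x, y⟩ ⟨x', y'⟩ he
      have he' := @hinj (⟨x, x.2.1⟩, ⟨y, y.2.1⟩) (⟨x', x'.2.1⟩, ⟨y', y'.2.1⟩)
        (Subtype.ext (congrArg Subtype.val he :))
      simp only [Prod.mk.injEq, Subtype.ext_iff] at he'
      exact Prod.ext (Subtype.ext he'.1) (Subtype.ext he'.2)
    · rintro ⟨y, hy, hyb⟩
      obtain ⟨⟨u, v⟩, huv⟩ := hbij.2 ⟨y, hy⟩
      have huv' : (u : G) * (v : G) = y := congrArg Subtype.val huv
      have hQcA : A ≤ Subgroup.normalizer (Qc : Set G) := by
        rw [hSc]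
        exact le_normalizer_inf' (le_normalizer_of_mem hQ.1)
          (Balance.le_normalizer_centralizer_singleton (A := A) hc)
      have he' := @hinj (⟨b * u * b⁻¹, (Subgroup.mem_normalizer_iff.1 (hAH₀ hb) _).1 u.2⟩,
        ⟨b * v * b⁻¹, (Subgroup.mem_normalizer_iff.1 (hQcA hb) _).1 v.2⟩) (u, v) (Subtype.ext (by
          show b * (u : G) * b⁻¹ * (b * (v : G) * b⁻¹) = (u : G) * (v : G)
          rw [huv', show b * (u : G) * b⁻¹ * (b * (v : G) * b⁻¹) = b * ((u : G) * (v : G)) * b⁻¹ by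
            group, huv', ← Subgroup.mem_centralizer_singleton_iff.1 hyb, mul_inv_cancel_right]))
      simp only [Prod.mk.injEq, Subtype.ext_iff] at he'
      exact ⟨(⟨u, u.2, Subgroup.mem_centralizer_singleton_iff.2 (mul_inv_eq_iff_eq_mul.1 he'.1).symm⟩,
        ⟨v, v.2, Subgroup.mem_centralizer_singleton_iff.2 (mul_inv_eq_iff_eq_mul.1 he'.2).symm⟩),
        Subtype.ext huv'⟩
  -- the functor
  set t : G → Subgroup G := fun b => ⁅θ b, C⁆ ⊔ (H₀ ⊓ Subgroup.centralizer {b}) with ht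
  have hnb : ∀ b ∈ A, b ≠ 1 → ⁅θ b, C⁆ ≤ θ b := fun b hb hb1 =>
    Coprime.commutator_le_of_le_normalizer (hCA.trans (le_normalizer_of_mem (h.theta_mem hb hb1)))
  have hHθ : ∀ b ∈ A, b ≠ 1 → H₀ ⊓ Subgroup.centralizer {b} ≤ θ b := fun b hb hb1 =>
    (inf_le_inf_right _ hH₀.1).trans (balance h.functor.1 hc hc1 hb hb1)
  have htθ : ∀ b ∈ A, b ≠ 1 → t b ≤ θ b := fun b hb hb1 => sup_le (hnb b hb hb1) (hHθ b hb hb1)
  have hnorm : ∀ b ∈ A, b ≠ 1 → H₀ ⊓ Subgroup.centralizer {b} ≤
      Subgroup.normalizer ((⁅θ b, C⁆ : Subgroup G) : Set G) := fun b hb hb1 =>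
    (hHθ b hb hb1).trans (Coprime.left_le_normalizer_commutator (θ b) C)
  have htq : ∀ b ∈ A, b ≠ 1 → ¬ q ∣ Nat.card ↥(t b) := by
    intro b hb hb1
    have hbm := h.theta_mem hb hb1
    obtain ⟨S, hS⟩ := h.exists_sylow_theta hqp hQ hb hb1
    have h1 := not_dvd_commutator hbm.1 (le_normalizer_of_mem hbm hc)
      (coprime_of_not_dvd h.elem hCA hbm.2.1) S fun x hx =>
        Subgroup.mem_centralizer_singleton_iff.1 (hQc (hS.le (Subgroup.mem_map_of_mem _ hx)).1)
    intro hd
    have h2 : Nat.card ↥(t b) ∣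
        Nat.card ↥(⁅θ b, C⁆) * Nat.card ↥(H₀ ⊓ Subgroup.centralizer {b}) := by
      show Nat.card ↥(⁅θ b, C⁆ ⊔ (H₀ ⊓ Subgroup.centralizer {b})) ∣ _
      haveI := Subgroup.normal_subgroupOf_of_le_normalizer
        (sup_le Subgroup.le_normalizer (hnorm b hb hb1) :
          ⁅θ b, C⁆ ⊔ (H₀ ⊓ Subgroup.centralizer {b}) ≤ _)
      have h3 := Cores.card_sup_dvd_mul
        ((H₀ ⊓ Subgroup.centralizer {b}).subgroupOf (⁅θ b, C⁆ ⊔ (H₀ ⊓ Subgroup.centralizer {b})))
        ((⁅θ b, C⁆).subgroupOf (⁅θ b, C⁆ ⊔ (H₀ ⊓ Subgroup.centralizer {b})))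
      rw [← Subgroup.subgroupOf_sup le_sup_right le_sup_left, sup_comm, Subgroup.subgroupOf_self,
        Subgroup.card_top, Nat.card_congr (Subgroup.subgroupOfEquivOfLe le_sup_right).toEquiv,
        Nat.card_congr (Subgroup.subgroupOfEquivOfLe le_sup_left).toEquiv] at h3
      rw [sup_comm (⁅θ b, C⁆), mul_comm]
      exact h3
    rcases hq.out.dvd_mul.1 (hd.trans h2) with h3 | h3
    · exact h1 h3
    · exact hH₀q (h3.trans (Subgroup.card_dvd_of_le inf_le_left))
  have hkey : ∀ b ∈ A, b ≠ 1 → t b ⊓ Subgroup.centralizer {c} ≤ H₀ := by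
    intro b hb hb1
    have hle : t b ⊓ Subgroup.centralizer {c} ≤ θ c ⊓ Subgroup.centralizer {b} := fun x hx =>
      ⟨mem_theta_of_commute h.functor.1 hb hb1 hc hc1 (htθ b hb hb1 hx.1)
        (Subgroup.mem_centralizer_singleton_iff.1 hx.2).symm,
        theta_le_centralizer h.functor.1 hb hb1 (htθ b hb hb1 hx.1)⟩
    have hge : H₀ ⊓ Subgroup.centralizer {b} ≤ t b ⊓ Subgroup.centralizer {c} :=
      le_inf le_sup_right ((inf_le_left.trans hH₀.1).trans (theta_le_centralizer h.functor.1 hc hc1))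
    have hdvd := Subgroup.card_dvd_of_le hle
    rw [hfix b hb] at hdvd
    obtain ⟨n, hn⟩ := IsPGroup.iff_card.1 (hQcq.to_le (inf_le_left : Qc ⊓ Subgroup.centralizer {b} ≤ Qc))
    rw [hn] at hdvd
    have hcop : (Nat.card ↥(t b ⊓ Subgroup.centralizer {c})).Coprime (q ^ n) :=
      (((hq.out.coprime_iff_not_dvd).2 fun hd => htq b hb hb1
        (hd.trans (Subgroup.card_dvd_of_le inf_le_left))).symm).pow_right n
    rw [Subgroup.eq_of_le_of_card_ge hge (Nat.le_of_dvd Nat.card_pos (hcop.dvd_of_dvd_mul_right hdvd))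
      |>.symm]
    exact inf_le_left
  have hfun : IsSolvableSignalizerFunctor p A t := by
    refine ⟨⟨fun b hb hb1 => (htθ b hb hb1).trans (theta_le_centralizer h.functor.1 hb hb1),
      fun b hb hb1 hd => h.functor.1.2.1 b hb hb1 (hd.trans (Subgroup.card_dvd_of_le (htθ b hb hb1))),
      fun b hb hb1 a ha x hx => ?_, fun b hb hb1 g hg hg1 => ?_⟩, fun b hb hb1 => ?_⟩
    · refine (le_normalizer_iff_conj_mem.1 ?_) a ha x hx
      intro a' ha'
      rw [Subgroup.mem_normalizer_iff_map_conj_eq, Subgroup.map_sup,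
        Subgroup.mem_normalizer_iff_map_conj_eq.1 (Balance.le_normalizer_commutator
          (le_normalizer_of_mem (h.theta_mem hb hb1)) (h.le_normalizer_zpowers hc) ha'),
        Subgroup.mem_normalizer_iff_map_conj_eq.1 (le_normalizer_inf' hAH₀
          (haveI := h.elem.1; Balance.le_normalizer_centralizer_singleton (A := A) hb) ha')]
    · rintro x ⟨hx, hxg⟩
      set B := Subgroup.zpowers b ⊔ Subgroup.zpowers g with hB
      have hBA : B ≤ A := sup_le (Subgroup.zpowers_le.2 hb) (Subgroup.zpowers_le.2 hg)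
      have hbB : b ∈ B := Subgroup.mem_sup_left (Subgroup.mem_zpowers b)
      have hgB : g ∈ B := Subgroup.mem_sup_right (Subgroup.mem_zpowers g)
      have hxθ := htθ b hb hb1 hx
      have hD := signalizerInf_mem_family h.functor hBA
        (fun hbot => hb1 (Subgroup.mem_bot.1 (hbot ▸ hbB)))
      have hxD : x ∈ signalizerInf B θ := by
        refine inf_centralizer_le_signalizerInf (h.theta_mem hb hb1) hBA
          ⟨hxθ, Subgroup.mem_centralizer_iff.2 fun z hz => ?_⟩
        refine Subgroup.mem_centralizer_singleton_iff.1 ((sup_le ?_ ?_ :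
          B ≤ Subgroup.centralizer {x}) hz)
        · exact Subgroup.zpowers_le.2 (Subgroup.mem_centralizer_singleton_iff.2
            (commute_theta h.functor.1 hb hb1 hxθ).symm)
        · exact Subgroup.zpowers_le.2 (Subgroup.mem_centralizer_singleton_iff.2
            (Subgroup.mem_centralizer_singleton_iff.1 hxg).symm)
      obtain ⟨n, hn, e, he, rfl⟩ := Coprime.exists_commutator_mul_fixed
        (hCA.trans (le_normalizer_of_mem hD)) (coprime_of_not_dvd h.elem hCA hD.2.1) (Or.inr hD.1) hxD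
      have hnt : ∀ f ∈ B, f ≠ 1 → n ∈ t f := fun f hf hf1 =>
        Subgroup.mem_sup_left (Subgroup.commutator_mono (signalizerInf_le hf hf1) le_rfl hn)
      refine mul_mem (hnt g hgB hg1) (Subgroup.mem_sup_right ⟨hkey b hb hb1 ⟨?_, ?_⟩, ?_⟩)
      · simpa using mul_mem (inv_mem (hnt b hbB hb1)) hx
      · exact Subgroup.mem_centralizer_singleton_iff.2
          (Subgroup.mem_centralizer_iff.1 he.2 c (Subgroup.mem_zpowers c)).symm
      · exact theta_le_centralizer h.functor.1 hg hg1 (signalizerInf_le hgB hg1 he.1)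
    · exact (mem_family_of_le (h.theta_mem hb hb1) (htθ b hb hb1) (by
        refine le_normalizer_iff_conj_mem.2 fun a ha x hx => ?_
        refine (le_normalizer_iff_conj_mem.1 ?_) a ha x hx
        intro a' ha'
        rw [Subgroup.mem_normalizer_iff_map_conj_eq, Subgroup.map_sup,
          Subgroup.mem_normalizer_iff_map_conj_eq.1 (Balance.le_normalizer_commutator
            (le_normalizer_of_mem (h.theta_mem hb hb1)) (h.le_normalizer_zpowers hc) ha'),
          Subgroup.mem_normalizer_iff_map_conj_eq.1 (le_normalizer_inf' hAH₀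
            (haveI := h.elem.1; Balance.le_normalizer_centralizer_singleton (A := A) hb) ha')])).1
  obtain ⟨U, hU, hUle⟩ := h.sub t hfun htθ ⟨c, hc, hc1, fun e => htq c hc hc1 (e ▸ hqdvd)⟩
  refine h.pencil hc hc1 (U := U) ⟨hU.1, hU.2.1, hU.2.2.1, fun a ha ha1 =>
    (hU.2.2.2 a ha ha1).trans (htθ a ha ha1)⟩ fun B hB hcB => ?_
  obtain ⟨b, hb, hb1⟩ := exists_ne_one_of_hyp h.rank hB
  exact ((Subgroup.commutator_mono (signalizerInf_le hb hb1) le_rfl).trans le_sup_left).trans
    (hUle b (hB.1 hb) hb1)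

end Ctx

end Cfsg.Agent.Lib.Signalizer
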