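import Cfsg.Agent.Lib.Signalizer.Locals
import Cfsg.Agent.Lib.Signalizer.Layer
import Cfsg.Agent.Lib.Frobenius.PComplement

/-!
# Members when every hyperplane has a point with a pure colour

Owner: helper33. Namespace `Cfsg.Agent.Lib.Signalizer`.
* `commute_of_normalizers`: subgroups of coprime prime powers normalising each other commute;
* `HasPurePoints`: every hyperplane has a point with a pure colour of type `y`;
* `Ctx.pure_of_center_le`: then a maximal member containing some `Z(Q)` is pure;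
* `Ctx.pure_and_good`: then `U*_y ≤ O_y(K)` for every maximal `K ∋ θ(A)` with `O_y(K) ≠ 1`.
-/

set_option autoImplicit false
set_option linter.style.haveILetI false
set_option linter.unusedSectionVars false

open Cfsg
open scoped commutatorElement

namespace Cfsg.Agent.Lib.Signalizer

variable {G : Type*} [Group G] [Finite G] {p : ℕ} [hp : Fact p.Prime] {A : Subgroup G}
  {θ : G → Subgroup G}

/-- Subgroups of coprime prime power groups normalising each other's groups commute. -/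
theorem commute_of_normalizers {s t : ℕ} [Fact s.Prime] [Fact t.Prime] (hst : s ≠ t)
    {U U' V V' : Subgroup G} (hU' : IsPGroup s ↥U') (hV' : IsPGroup t ↥V') (hU : U ≤ U')
    (hV : V ≤ V') (hUn : U ≤ Subgroup.normalizer (V' : Set G))
    (hVn : V ≤ Subgroup.normalizer (U' : Set G)) : U ≤ Subgroup.centralizer (V : Set G) := by
  intro x hx
  refine Subgroup.mem_centralizer_iff.2 fun y hy => ?_
  refine (commutatorElement_eq_one_iff_mul_comm.1 (eq_one_of_pGroups hst hU' hV' (x := ⁅x, y⁆) ?_ ?_)).symm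
  · rw [commutatorElement_def, show x * y * x⁻¹ * y⁻¹ = x * (y * x⁻¹ * y⁻¹) by group]
    exact mul_mem (hU hx) ((Subgroup.mem_normalizer_iff.1 (hVn hy) _).1 (inv_mem (hU hx)))
  · rw [commutatorElement_def]
    exact mul_mem ((Subgroup.mem_normalizer_iff.1 (hUn hx) _).1 (hV hy)) (inv_mem (hV hy))

/-- The image of a core under an injective map lies in the core of the image. -/
theorem map_qc_le {q : ℕ} {H : Subgroup G} (f : G →* G) :
    (qc q H).map f ≤ qc q (H.map f) :=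
  le_qc (Subgroup.map_mono (qc_le H))
    ((Subgroup.map_mono (le_normalizer_qc H)).trans (Subgroup.le_normalizer_map f))
    ((qc_isPGroup H).map f)

theorem normalizer_le_normalizer_omegaCenterOf {q : ℕ} (S : Subgroup G) :
    Subgroup.normalizer (S : Set G) ≤
      Subgroup.normalizer (PLocal.omegaCenterOf q S : Set G) := by
  intro n hn
  rw [Subgroup.mem_normalizer_iff_map_conj_eq] at hn ⊢
  rw [PLocal.map_omegaCenterOf _ (MulAut.conj n).injective, hn]

/-- Every hyperplane has a point with a pure colour of type `y`. -/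
def HasPurePoints (p : ℕ) (A : Subgroup G) (θ : G → Subgroup G) (y : ℕ) : Prop :=
  ∀ B, Hyp p A B → ∃ v ∈ B, v ≠ 1 ∧ ∃ H, IsMaxMem p A θ H ∧ θ v ≤ H ∧
    ∀ t : ℕ, t.Prime → t ≠ y → qc t H = ⊥

namespace Ctx

variable (h : Ctx p A θ)
include h

theorem maxMem_ne_bot {M : Subgroup G} (hM : IsMaxMem p A θ M) : M ≠ ⊥ := by
  intro hbot
  refine h.not_completes ⟨⊥, bot_mem_family hp.out.ne_one, fun b hb hb1 => ?_⟩
  obtain ⟨L, hL, hle⟩ := exists_isMaxMem (h.theta_mem hb hb1)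
  rw [hM.2 L hL.1 (hbot ▸ bot_le), hbot] at hle
  exact hle

variable {y : ℕ} [hy : Fact y.Prime]

theorem qc_ne_bot_of_pure {M : Subgroup G} (hM : IsMaxMem p A θ M) (hMp : h.Pure y M) :
    qc y M ≠ ⊥ := by
  obtain ⟨t, ht, hne⟩ := exists_qc_ne_bot hM.1.1 (h.maxMem_ne_bot hM)
  by_cases hty : t = y
  · exact hty ▸ hne
  · exact absurd (hMp t ht hty) hne

theorem le_centralizer_qc_of_pure {M : Subgroup G} (hM : M ∈ signalizerFamily p A θ)
    (hMp : h.Pure y M) :
    Subgroup.centralizer (pCore y ↥M : Set ↥M) ≤ pCore y ↥M := by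
  haveI := hM.1
  exact ((Subgroup.centralizer_le (h.fitting_le_of_pure hMp)).trans
    Cores.centralizer_fittingSubgroup_le).trans (h.fitting_le_of_pure hMp)

variable (hP : HasPurePoints p A θ y)
include hP

theorem pure_ne_p : y ≠ p := by
  obtain ⟨v, -, -, H, hH, -, hHp⟩ := hP A hyp_self
  exact h.ne_p_of_qc hH.1 (h.qc_ne_bot_of_pure hH hHp)

/-- `Z(Q)` centralises the cores for other primes of a member containing it. -/
theorem qc_le_centralizer_center {Q L : Subgroup G} (hQ : IsMaxQ p A θ y Q)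
    (hL : L ∈ signalizerFamily p A θ) (hZL : Q ⊓ Subgroup.centralizer (Q : Set G) ≤ L) {t : ℕ}
    [ht : Fact t.Prime] (hty : t ≠ y) :
    qc t L ≤ Subgroup.centralizer ((Q ⊓ Subgroup.centralizer (Q : Set G) : Subgroup G) : Set G) := by
  refine h.le_of_hyp_mem (h.qc_mem hL t) fun B hB => ?_
  obtain ⟨v, hv, hv1, H, hH, hvH, hHp⟩ := hP B hB
  set Z := Q ⊓ Subgroup.centralizer (Q : Set G) with hZ
  have hTQ : qc y H ≤ Q := h.le_maxQ (h.pure_ne_p hP) (h.qc_mem hH.1 y) (qc_isPGroup H)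
    (((signalizerInf_le (hB.1 hv) hv1).trans hvH).trans (le_normalizer_qc H)) hQ
  have hZc : Z ≤ Subgroup.centralizer (qc y H : Set G) :=
    inf_le_right.trans (Subgroup.centralizer_le hTQ)
  have hZH : Z ≤ H :=
    h.centralizing_le (h.ctl_qc hH (h.qc_ne_bot_of_pure hH hHp)) (h.center_mem hQ.1) hZc
  have hZT : Z ≤ qc y H := h.le_qc_of_pure hH.1 hHp hZH hZc
  refine commute_of_normalizers hty (qc_isPGroup L) (qc_isPGroup H) inf_le_left hZT ?_
    (hZL.trans (le_normalizer_qc L))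
  intro g hg
  exact le_normalizer_qc H (hvH ((h.qc_mem hL t).2.2.2 v (hB.1 hv) hv1
    ⟨hg.1, Subgroup.mem_centralizer_singleton_iff.2 (Subgroup.mem_centralizer_iff.1 hg.2 v hv).symm⟩))

/-- A member containing a maximal `y`-member is pure. -/
theorem pure_of_maxQ_le {Q L : Subgroup G} (hQ : IsMaxQ p A θ y Q)
    (hL : L ∈ signalizerFamily p A θ) (hQL : Q ≤ L) : h.Pure y L := by
  intro t ht hty
  haveI := Fact.mk ht
  refine le_bot_iff.1 (h.le_of_hyp_mem (h.qc_mem hL t) fun B hB => ?_)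
  obtain ⟨v, hv, hv1, H, hH, hvH, hHp⟩ := hP B hB
  set R := qc t L ⊓ Subgroup.centralizer (B : Set G) with hR
  have hRH : R ≤ H := fun g hg => hvH ((h.qc_mem hL t).2.2.2 v (hB.1 hv) hv1
    ⟨hg.1, Subgroup.mem_centralizer_singleton_iff.2 (Subgroup.mem_centralizer_iff.1 hg.2 v hv).symm⟩)
  have hTQ : qc y H ≤ Q := h.le_maxQ (h.pure_ne_p hP) (h.qc_mem hH.1 y) (qc_isPGroup H)
    (((signalizerInf_le (hB.1 hv) hv1).trans hvH).trans (le_normalizer_qc H)) hQ
  exact (h.eq_bot_of_pure hH.1 hHp hty ((qc_isPGroup L).to_le inf_le_left) hRH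
    (commute_of_normalizers hty (qc_isPGroup L) (qc_isPGroup H) inf_le_left le_rfl
      (hRH.trans (le_normalizer_qc H)) ((hTQ.trans hQL).trans (le_normalizer_qc L)))).le

/-- A maximal member containing some `Z(Q)` is pure. -/
theorem pure_of_center_le {Q L : Subgroup G} (hQ : IsMaxQ p A θ y Q) (hL : IsMaxMem p A θ L)
    (hZL : Q ⊓ Subgroup.centralizer (Q : Set G) ≤ L) : h.Pure y L := by
  intro t ht hty
  haveI := Fact.mk ht
  by_contra hG
  obtain ⟨v, hv, hv1, H, hH, hvH, hHp⟩ := hP A hyp_self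
  have hyp : y ≠ p := h.pure_ne_p hP
  have hQne : ∀ Q', IsMaxQ p A θ y Q' → Q' ≠ ⊥ := fun Q' hQ' e =>
    h.qc_ne_bot_of_pure hH hHp (le_bot_iff.1 (e ▸ h.le_maxQ hyp (h.qc_mem hH.1 y) (qc_isPGroup H)
      (((signalizerInf_le hv hv1).trans hvH).trans (le_normalizer_qc H)) hQ'))
  by_cases hyL : qc y L = ⊥
  · -- then `Z` centralises every core
    refine h.center_ne_bot hQ.2.1 (hQne Q hQ) (le_bot_iff.1 ?_)
    rw [← hyL]
    refine le_qc_of_centralizes hL.1.1 hZL (hQ.2.1.to_le inf_le_left) fun u hu => ?_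
    haveI := Fact.mk hu
    rcases eq_or_ne u y with rfl | huy
    · rw [hyL]
      exact fun z _ => Subgroup.mem_centralizer_iff.2 fun w hw => by simp [Subgroup.mem_bot.1 hw]
    · exact Subgroup.le_centralizer_iff.1 (h.qc_le_centralizer_center hP hQ hL.1 hZL huy)
  obtain ⟨Q₁, hQ₁, hTQ₁⟩ := exists_maxQ (h.qc_mem hL.1 y) (qc_isPGroup L)
  set Z₁ := Q₁ ⊓ Subgroup.centralizer (Q₁ : Set G) with hZ₁
  have hZ₁m := h.center_mem hQ₁.1
  have hZ₁L : Z₁ ≤ L := h.centralizing_le (h.ctl_qc hL hyL) hZ₁m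
    (inf_le_right.trans (Subgroup.centralizer_le hTQ₁))
  obtain ⟨J, hJ, hJc, -⟩ := h.exists_ctl hZ₁m (h.center_ne_bot hQ₁.2.1 (hQne Q₁ hQ₁))
  have hQJ : Q₁ ≤ J := h.centralizing_le hJc hQ₁.1 (Subgroup.le_centralizer_iff.1 inf_le_right)
  have hJp : h.Pure y J := h.pure_of_maxQ_le hP hQ₁ hJ.1 hQJ
  have hGJ : qc t L ≤ J := h.centralizing_le hJc (h.qc_mem hL.1 t)
    (h.qc_le_centralizer_center hP hQ₁ hL.1 hZ₁L hty)
  have hTJ : qc y J ≤ L := h.qc_le_of_zc hL hJ.1 hty hG hyL (inf_le_left.trans hGJ)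
    (inf_le_left.trans (hTQ₁.trans hQJ))
  exact hG (h.eq_bot_of_pure hJ.1 hJp hty (qc_isPGroup L) hGJ (h.qc_commute hty hGJ hTJ))

/-- Pure members and `U*_y`. -/
theorem pure_and_good {K : Subgroup G} (hK : IsMaxMem p A θ K) (hCK : signalizerInf A θ ≤ K)
    (hne : qc y K ≠ ⊥) : h.Pure y K ∧ ustar p A θ y ≤ qc y K := by
  have hyp : y ≠ p := h.pure_ne_p hP
  have hTQ : ∀ Q, IsMaxQ p A θ y Q → qc y K ≤ Q := fun Q hQ =>
    h.le_maxQ hyp (h.qc_mem hK.1 y) (qc_isPGroup K) (hCK.trans (le_normalizer_qc K)) hQ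
  have hZK : ∀ Q, IsMaxQ p A θ y Q → Q ⊓ Subgroup.centralizer (Q : Set G) ≤ K := fun Q hQ =>
    h.centralizing_le (h.ctl_qc hK hne) (h.center_mem hQ.1)
      (inf_le_right.trans (Subgroup.centralizer_le (hTQ Q hQ)))
  obtain ⟨Q₀, hQ₀⟩ := h.exists_maxQ' y
  refine ⟨h.pure_of_center_le hP hQ₀ hK (hZK Q₀ hQ₀), ?_⟩
  -- the intersection over the members containing a maximal `y`-member
  set Pst := ⨅ L : {L : Subgroup G // IsMaxMem p A θ L ∧ ∃ Q, IsMaxQ p A θ y Q ∧ Q ≤ L},
    qc y (L : Subgroup G) with hPst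
  obtain ⟨L₀, hL₀, hQL₀⟩ := exists_isMaxMem hQ₀.1
  have hP0 : Pst ≤ qc y L₀ := iInf_le_of_le ⟨L₀, hL₀, Q₀, hQ₀, hQL₀⟩ le_rfl
  have hPA : A ≤ Subgroup.normalizer (Pst : Set G) := le_normalizer_iff_conj_mem.2 fun a ha z hz =>
    Subgroup.mem_iInf.2 fun L => (h.qc_mem L.2.1.1 y).2.2.1 a ha z (Subgroup.mem_iInf.1 hz L)
  have hPm := h.mem_of_le (h.qc_mem hL₀.1 y) hP0 hPA
  have hPy : IsPGroup y ↥Pst := (qc_isPGroup L₀).to_le hP0
  have hSP : ustar p A θ y ≤ Pst := le_iInf fun L => by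
    obtain ⟨Q, hQ, hQL⟩ := L.2.2
    exact h.ustar_le_qc L.2.1.1 ((h.ustar_le_maxQ hyp hQ).trans hQL)
  have hPC : signalizerInf A θ ≤ Subgroup.normalizer (Pst : Set G) := by
    refine le_normalizer_iff_conj_mem.2 fun c hc z hz => Subgroup.mem_iInf.2 fun L => ?_
    obtain ⟨Q, hQ, hQL⟩ := L.2.2
    set L' := (L : Subgroup G).map (MulAut.conj c⁻¹).toMonoidHom with hL'
    have hL'm : IsMaxMem p A θ L' := by
      refine ⟨conj_mem_family h.functor.1 L.2.1.1 (inv_mem hc), fun N hN hle => ?_⟩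
      have h1 := L.2.1.2 _ (conj_mem_family h.functor.1 hN hc) (by
        have h2 := Subgroup.map_mono (f := (MulAut.conj c).toMonoidHom) hle
        rwa [hL', map_conj_conj, mul_inv_cancel, map_conj_one] at h2)
      rw [hL', ← h1, map_conj_conj, inv_mul_cancel, map_conj_one]
    have hz' : z ∈ qc y L' := Subgroup.mem_iInf.1 hz
      ⟨L', hL'm, _, conj_isMaxQ h.functor.1 hQ (inv_mem hc), Subgroup.map_mono hQL⟩
    have h3 := map_qc_le (q := y) (H := L') (MulAut.conj c).toMonoidHom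
    rw [hL', map_conj_conj, mul_inv_cancel, map_conj_one] at h3
    exact h3 (Subgroup.mem_map_of_mem _ hz')
  -- `P* ∩ K' ≤ O_y(K')`
  have key : ∀ (m : ℕ) (K' : Subgroup G) (S : Sylow y ↥K'), Nat.card G ≤ m + Nat.card ↥S →
      IsMaxMem p A θ K' → (∃ Q, IsMaxQ p A θ y Q ∧ Q ⊓ Subgroup.centralizer (Q : Set G) ≤ K') →
      Pst ⊓ K' ≤ qc y K' := by
    intro m
    induction m using Nat.strong_induction_on with
    | _ m IH =>
    intro K' S₀ hm hK' hZ
    obtain ⟨Qz, hQz, hZK'⟩ := hZ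
    have hK'p := h.pure_of_center_le hP hQz hK' hZK'
    set R := Pst ⊓ K' with hR
    have hAR : A ≤ Subgroup.normalizer (R : Set G) :=
      le_normalizer_inf' hPA (le_normalizer_of_mem hK'.1)
    obtain ⟨S, hRS, hAS⟩ := Coprime.exists_invariant_sylow_ge (le_normalizer_of_mem hK'.1)
      (coprime_card_family h.elem hK'.1) (Or.inr hK'.1.1) y R inf_le_right (hPy.to_le inf_le_left) hAR
    set S' := (S : Subgroup ↥K').map K'.subtype with hS'
    have hcardS : Nat.card ↥S' = Nat.card ↥S₀ := by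
      rw [hS', Subgroup.card_map_of_injective K'.subtype_injective]
      exact S.card_eq_multiplicity.trans S₀.card_eq_multiplicity.symm
    have hS'K : S' ≤ K' := Subgroup.map_subtype_le _
    have hS'm : S' ∈ signalizerFamily p A θ := h.mem_of_le hK'.1 hS'K hAS
    have hS'y : IsPGroup y ↥S' := S.isPGroup'.map _
    have hTS : qc y K' ≤ S' := Subgroup.map_mono (Cores.pCore_le_sylow S)
    have hS'1 : S' ≠ ⊥ := ne_bot_of_le_ne_bot (h.qc_ne_bot_of_pure hK' hK'p) hTS
    obtain ⟨Q₁, hQ₁, hSQ⟩ := exists_maxQ hS'm hS'y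
    by_cases he : S' = Q₁
    · exact inf_le_left.trans (iInf_le_of_le ⟨K', hK', Q₁, hQ₁, he ▸ hS'K⟩ le_rfl)
    set N := Subgroup.normalizer (S' : Set G) ⊓ Q₁ with hN
    have hNm : N ∈ signalizerFamily p A θ := h.mem_of_le hQ₁.1 inf_le_right
      (le_normalizer_inf' (hAS.trans Subgroup.le_normalizer) (le_normalizer_of_mem hQ₁.1))
    have hSN : S' ≤ N := le_inf Subgroup.le_normalizer hSQ
    have hlt : Nat.card ↥S' < Nat.card ↥N := lt_of_not_ge fun hge =>
      Balance.lt_normalizer_inf hQ₁.2.1 hSQ he (Subgroup.eq_of_le_of_card_ge hSN hge).ge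
    -- a characteristic subgroup of `S'` gives a member with a larger `y`-part
    have hstep : ∀ V : Subgroup G, V ≤ S' → V ≠ ⊥ →
        Subgroup.normalizer (S' : Set G) ≤ Subgroup.normalizer (V : Set G) →
        ∀ U, U ∈ signalizerFamily p A θ → U ≤ Subgroup.normalizer (V : Set G) →
        ∃ P₁ : Subgroup G, IsPGroup y ↥P₁ ∧ R ≤ P₁ ∧ U ≤ Subgroup.normalizer (P₁ : Set G) := by
      intro V hVS hV1 hVn U hU hUn
      have hVm : V ∈ signalizerFamily p A θ := h.mem_of_le hS'm hVS (hAS.trans hVn)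
      obtain ⟨L, hL, hLc, -⟩ := h.exists_ctl hVm hV1
      have hNL : N ≤ L := hLc N hNm (inf_le_left.trans hVn)
      have hZ₁L : Q₁ ⊓ Subgroup.centralizer (Q₁ : Set G) ≤ L :=
        h.centralizing_le hLc (h.center_mem hQ₁.1)
          (inf_le_right.trans (Subgroup.centralizer_le (hVS.trans hSQ)))
      obtain ⟨T, hT⟩ := ((hQ₁.2.1.to_le (inf_le_right : N ≤ Q₁)).comap_subtype (K := L)).exists_le_sylow
      have hNT : Nat.card ↥N ≤ Nat.card ↥T := by
        rw [← Nat.card_congr (Subgroup.subgroupOfEquivOfLe hNL).toEquiv]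
        exact Subgroup.card_le_of_le hT
      refine ⟨qc y L, qc_isPGroup L, ?_, (hLc U hU hUn).trans (le_normalizer_qc L)⟩
      refine (le_inf inf_le_left ((hRS.trans hSN).trans hNL) : R ≤ Pst ⊓ L).trans
        (IH (Nat.card G - Nat.card ↥T) ?_ L T (by omega) hL ⟨Q₁, hQ₁, hZ₁L⟩)
      have : Nat.card ↥T ≤ Nat.card G :=
        (Subgroup.card_le_card_group _).trans (Subgroup.card_le_card_group L)
      omega
    set Om := PLocal.omegaCenterOf y S' with hOm
    have hOm1 : Om ≠ ⊥ := PGroups.omegaOne_ne_bot (hS'y.to_le inf_le_left) (h.center_ne_bot hS'y hS'1)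
    refine le_qc_of_layer h.elem hyp hK'.1.2.1 hK'.1.1 (le_normalizer_of_mem hK'.1) hAR
      (h.le_centralizer_qc_of_pure hK'.1 hK'p) S hAS hRS ⟨R, hPy.to_le inf_le_left, le_rfl, ?_⟩ ?_ ?_
    · exact le_normalizer_inf' ((inf_centralizer_le_signalizerInf hK'.1 le_rfl).trans hPC)
        (inf_le_left.trans Subgroup.le_normalizer)
    · refine hstep Om (PLocal.omegaCenterOf_le S') hOm1 (normalizer_le_normalizer_omegaCenterOf S') _
        (h.inf_mem hK'.1 (le_normalizer_centralizer'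
          (hAS.trans (normalizer_le_normalizer_omegaCenterOf S'))))
        (inf_le_right.trans (Subgroup.centralizer_le_normalizer (Om : Set G)))
    · exact hstep _ (PGroups.thompsonSubgroupOf_le y S')
        (Frobenius.PComplement.thompsonSubgroupOf_ne_bot hS'y hS'1)
        (PGroups.normalizer_le_normalizer_thompson S') _
        (h.inf_mem hK'.1 ((hAS.trans (PGroups.normalizer_le_normalizer_thompson S')).trans
          Subgroup.le_normalizer)) inf_le_right
  obtain ⟨S⟩ := (inferInstance : Nonempty (Sylow y ↥K))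
  have hPK : Pst ⊓ K ≤ qc y K := key (Nat.card G) K S (by omega) hK ⟨Q₀, hQ₀, hZK Q₀ hQ₀⟩
  refine hSP.trans (h.le_qc_of_growth hyp hK hne hPm hPy ?_ hPK)
  refine le_normalizer_iff_conj_mem.2 fun g hg z hz => Subgroup.mem_iInf.2 fun L => ?_
  obtain ⟨Q, hQ, hQL⟩ := L.2.2
  exact le_normalizer_iff_conj_mem.1 (le_normalizer_qc (L : Subgroup G)) g (hQL (hTQ Q hQ hg)) z
    (Subgroup.mem_iInf.1 hz L)

end Ctx

end Cfsg.Agent.Lib.Signalizer
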